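import Groth.Agent.FEtFF.Sections
import Mathlib.CategoryTheory.MorphismProperty.OverAdjunction
import Mathlib.AlgebraicGeometry.GammaSpecAdjunction

/-!
# A criterion for full faithfulness of restriction of finite étale covers
-/

set_option autoImplicit false
set_option linter.style.haveILetI false
set_option backward.isDefEq.respectTransparency.types false
universe u

namespace Groth.Agent.FEtFF
open CategoryTheory CategoryTheory.Limits AlgebraicGeometry TopologicalSpace Opposite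

variable {X S : Scheme.{u}} {Y Y' Z : Scheme.{u}} (h : Y ⟶ S) (h' : Y' ⟶ S) (g : Z ⟶ Y)

theorem injective_restrict (U : S.Opens) (hg : Function.Injective (g.app (h ⁻¹ᵁ U))) :
    Function.Injective (g ∣_ (h ⁻¹ᵁ U)).appTop := by
  rw [morphismRestrict_appTop]
  have hi : Function.Injective (g.app ((h ⁻¹ᵁ U).ι ''ᵁ ⊤)) := by rw [Scheme.Opens.ι_image_top]; exact hg
  exact ((ConcreteCategory.bijective_of_isIso (Z.presheaf.map _)).1).comp hi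

variable [IsAffineHom h] [IsAffineHom h']

/-- Morphisms over an affine open of the base agree if they agree after `g`. -/
theorem hom_ext_affine {U : S.Opens} (hU : IsAffineOpen U) (hg : Function.Injective (g.app (h ⁻¹ᵁ U)))
    (a b : (h ⁻¹ᵁ U).toScheme ⟶ Y') (ha : a ≫ h' = (h ⁻¹ᵁ U).ι ≫ h) (hb : b ≫ h' = (h ⁻¹ᵁ U).ι ≫ h)
    (hab : (g ∣_ (h ⁻¹ᵁ U)) ≫ a = (g ∣_ (h ⁻¹ᵁ U)) ≫ b) : a = b := by
  haveI : IsAffine (h' ⁻¹ᵁ U).toScheme := hU.preimage h'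
  have hr : ∀ c : (h ⁻¹ᵁ U).toScheme ⟶ Y', c ≫ h' = (h ⁻¹ᵁ U).ι ≫ h →
      Set.range c ⊆ Set.range (h' ⁻¹ᵁ U).ι := fun c hc => by
    rintro _ ⟨y, rfl⟩
    rw [Scheme.Opens.range_ι]
    show (c ≫ h') y ∈ U
    rw [hc]
    exact y.2
  obtain ⟨a', rfl⟩ : ∃ a', a' ≫ (h' ⁻¹ᵁ U).ι = a := ⟨_, IsOpenImmersion.lift_fac _ _ (hr a ha)⟩
  obtain ⟨b', rfl⟩ : ∃ b', b' ≫ (h' ⁻¹ᵁ U).ι = b := ⟨_, IsOpenImmersion.lift_fac _ _ (hr b hb)⟩
  rw [← Category.assoc, ← Category.assoc, cancel_mono] at hab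
  congr 1
  refine AlgebraicGeometry.ext_of_isAffine (CommRingCat.hom_ext (RingHom.ext fun r => injective_restrict h g U hg ?_))
  rw [← CommRingCat.comp_apply, ← CommRingCat.comp_apply, ← Scheme.Hom.comp_appTop, ← Scheme.Hom.comp_appTop, hab]

/-- Morphisms of `S`-schemes into an affine one agree if they agree after `g`. -/
theorem hom_ext_of_injective (hg : ∀ U : S.Opens, IsAffineOpen U → Function.Injective (g.app (h ⁻¹ᵁ U)))
    (a b : Y ⟶ Y') (ha : a ≫ h' = h) (hb : b ≫ h' = h) (hab : g ≫ a = g ≫ b) : a = b := by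
  refine Scheme.hom_ext_of_forall _ _ fun y => ?_
  obtain ⟨U, hU, hyU, -⟩ := exists_isAffineOpen_mem_and_subset (U := (⊤ : S.Opens)) (x := h y) trivial
  refine ⟨h ⁻¹ᵁ U, hyU, hom_ext_affine h h' g hU (hg U hU) _ _ ?_ ?_ ?_⟩
  · rw [Category.assoc, ha]
  · rw [Category.assoc, hb]
  · rw [morphismRestrict_ι_assoc, morphismRestrict_ι_assoc, hab]

/-- Morphisms extend along a morphism which is injective on sections when their comorphisms do. -/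
theorem exists_extension (hg : ∀ U : S.Opens, IsAffineOpen U → Function.Injective (g.app (h ⁻¹ᵁ U)))
    (β : Z ⟶ Y') (hβ : β ≫ h' = g ≫ h)
    (hrange : ∀ (U : S.Opens), IsAffineOpen U → ∀ (le : g ⁻¹ᵁ (h ⁻¹ᵁ U) ≤ β ⁻¹ᵁ (h' ⁻¹ᵁ U)) (b : Γ(Y', h' ⁻¹ᵁ U)),
      β.appLE _ _ le b ∈ Set.range (g.app (h ⁻¹ᵁ U))) :
    ∃ γ : Y ⟶ Y', γ ≫ h' = h ∧ g ≫ γ = β := by
  let ι := S.affineOpens
  have hle : ∀ U : S.Opens, g ⁻¹ᵁ (h ⁻¹ᵁ U) ≤ β ⁻¹ᵁ (h' ⁻¹ᵁ U) := fun U => by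
    rw [← Scheme.Hom.comp_preimage, ← Scheme.Hom.comp_preimage, hβ]
  have hloc : ∀ U : ι, ∃ k : (h ⁻¹ᵁ U.1).toScheme ⟶ Y', k ≫ h' = (h ⁻¹ᵁ U.1).ι ≫ h ∧
      (g ∣_ (h ⁻¹ᵁ U.1)) ≫ k = (g ⁻¹ᵁ (h ⁻¹ᵁ U.1)).ι ≫ β := by
    intro U
    haveI : IsAffine (h' ⁻¹ᵁ U.1).toScheme := U.2.preimage h'
    haveI : IsAffine U.1.toScheme := U.2
    let β' := β.resLE (h' ⁻¹ᵁ U.1) (g ⁻¹ᵁ (h ⁻¹ᵁ U.1)) (hle U.1)
    have hinj := injective_restrict h g U.1 (hg U.1 U.2)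
    have hr : ∀ r, β'.appTop r ∈ Set.range (g ∣_ (h ⁻¹ᵁ U.1)).appTop := by
      intro r
      obtain ⟨y, hy⟩ := hrange U.1 U.2 (hle U.1) ((h' ⁻¹ᵁ U.1).topIso.hom r)
      refine ⟨(h ⁻¹ᵁ U.1).topIso.inv y, ?_⟩
      have e : (h ⁻¹ᵁ U.1).topIso.inv ≫ (g ∣_ (h ⁻¹ᵁ U.1)).appTop =
          g.app (h ⁻¹ᵁ U.1) ≫ (g ⁻¹ᵁ (h ⁻¹ᵁ U.1)).topIso.inv := by
        have := Scheme.Hom.resLE_app_top g (le_refl (g ⁻¹ᵁ (h ⁻¹ᵁ U.1)))
        rw [Scheme.Hom.resLE_eq_morphismRestrict, ← Scheme.Hom.app_eq_appLE] at this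
        rw [Scheme.Hom.appTop, this, Iso.inv_hom_id_assoc]
      rw [← CommRingCat.comp_apply, e, CommRingCat.comp_apply, hy, ← CommRingCat.comp_apply, ← CommRingCat.comp_apply,
        ← Scheme.Hom.resLE_app_top]
    choose ψ' hψ' using hr
    let ψ : Γ((h' ⁻¹ᵁ U.1).toScheme, ⊤) ⟶ Γ((h ⁻¹ᵁ U.1).toScheme, ⊤) := CommRingCat.ofHom
      { toFun := ψ'
        map_one' := hinj ((hψ' 1).trans ((map_one β'.appTop.hom).trans (map_one (g ∣_ (h ⁻¹ᵁ U.1)).appTop.hom).symm))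
        map_mul' := fun x y => hinj ((hψ' _).trans (((map_mul β'.appTop.hom x y).trans (congrArg₂ (· * ·) (hψ' x) (hψ' y)).symm).trans (map_mul (g ∣_ (h ⁻¹ᵁ U.1)).appTop.hom _ _).symm))
        map_zero' := hinj ((hψ' 0).trans ((map_zero β'.appTop.hom).trans (map_zero (g ∣_ (h ⁻¹ᵁ U.1)).appTop.hom).symm))
        map_add' := fun x y => hinj ((hψ' _).trans (((map_add β'.appTop.hom x y).trans (congrArg₂ (· + ·) (hψ' x) (hψ' y)).symm).trans (map_add (g ∣_ (h ⁻¹ᵁ U.1)).appTop.hom _ _).symm)) }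
    let k' : (h ⁻¹ᵁ U.1).toScheme ⟶ (h' ⁻¹ᵁ U.1).toScheme :=
      (h ⁻¹ᵁ U.1).toScheme.toSpecΓ ≫ Spec.map ψ ≫ (h' ⁻¹ᵁ U.1).toScheme.isoSpec.inv
    have hk : k'.appTop = ψ := by
      have h1 : k' ≫ (h' ⁻¹ᵁ U.1).toScheme.toSpecΓ = (h ⁻¹ᵁ U.1).toScheme.toSpecΓ ≫ Spec.map ψ := by
        rw [show (h' ⁻¹ᵁ U.1).toScheme.toSpecΓ = (h' ⁻¹ᵁ U.1).toScheme.isoSpec.hom from rfl]
        simp only [k', Category.assoc, Iso.inv_hom_id, Category.comp_id]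
      rw [Scheme.toSpecΓ_naturality] at h1
      haveI : IsAffine (h ⁻¹ᵁ U.1).toScheme := U.2.preimage h
      exact Spec.map_injective ((cancel_epi _).mp h1)
    have hgk : (g ∣_ (h ⁻¹ᵁ U.1)) ≫ k' = β' := by
      refine AlgebraicGeometry.ext_of_isAffine ?_
      rw [Scheme.Hom.comp_appTop, hk]
      exact CommRingCat.hom_ext (RingHom.ext fun r => hψ' r)
    refine ⟨k' ≫ (h' ⁻¹ᵁ U.1).ι, ?_, by rw [reassoc_of% hgk, Scheme.Hom.resLE_comp_ι]⟩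
    have hkk : k' ≫ (h'.resLE U.1 (h' ⁻¹ᵁ U.1) le_rfl) = h.resLE U.1 (h ⁻¹ᵁ U.1) le_rfl := by
      refine AlgebraicGeometry.ext_of_isAffine (CommRingCat.hom_ext (RingHom.ext fun r => hinj ?_))
      rw [← CommRingCat.comp_apply, ← CommRingCat.comp_apply, ← Scheme.Hom.comp_appTop, ← Scheme.Hom.comp_appTop,
        reassoc_of% hgk]
      refine congrArg (fun m : (g ⁻¹ᵁ (h ⁻¹ᵁ U.1)).toScheme ⟶ U.1.toScheme => m.appTop r) ((cancel_mono U.1.ι).mp ?_)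
      rw [Category.assoc, Category.assoc, Scheme.Hom.resLE_comp_ι, Scheme.Hom.resLE_comp_ι,
        Scheme.Hom.resLE_comp_ι_assoc, hβ, morphismRestrict_ι_assoc]
    have := congrArg (· ≫ U.1.ι) hkk
    simp only [Category.assoc, Scheme.Hom.resLE_comp_ι] at this
    rw [Category.assoc, this]
  choose k hk1 hk2 using hloc
  have hc : ⨆ U : ι, h ⁻¹ᵁ U.1 = ⊤ := by rw [← Scheme.Hom.preimage_iSup, iSup_affineOpens_eq_top]; rfl
  let 𝒰 := Y.openCoverOfIsOpenCover _ hc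
  have hcomp : ∀ U U' : ι, pullback.fst (h ⁻¹ᵁ U.1).ι (h ⁻¹ᵁ U'.1).ι ≫ k U =
      pullback.snd (h ⁻¹ᵁ U.1).ι (h ⁻¹ᵁ U'.1).ι ≫ k U' := by
    intro U U'
    rw [← cancel_epi (isPullback_opens_inf (h ⁻¹ᵁ U.1) (h ⁻¹ᵁ U'.1)).isoPullback.hom,
      IsPullback.isoPullback_hom_fst_assoc, IsPullback.isoPullback_hom_snd_assoc]
    refine Scheme.hom_ext_of_forall _ _ fun y => ?_
    obtain ⟨V, hV, hyV, hVU⟩ := exists_isAffineOpen_mem_and_subset (U := U.1 ⊓ U'.1) (x := h y.1) y.2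
    refine ⟨(h ⁻¹ᵁ U.1 ⊓ h ⁻¹ᵁ U'.1).ι ⁻¹ᵁ (h ⁻¹ᵁ V), hyV, ?_⟩
    let j := (h ⁻¹ᵁ U.1 ⊓ h ⁻¹ᵁ U'.1)
    have hVj : h ⁻¹ᵁ V ≤ j := h.preimage_mono hVU
    have key : Y.homOfLE (le_trans hVj inf_le_left) ≫ k U = Y.homOfLE (le_trans hVj inf_le_right) ≫ k U' := by
      refine hom_ext_affine h h' g hV (hg V hV) _ _ ?_ ?_ ?_
      · rw [Category.assoc, hk1, Scheme.homOfLE_ι_assoc]
      · rw [Category.assoc, hk1, Scheme.homOfLE_ι_assoc]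
      · have e : ∀ (A : Y.Opens) (hA : h ⁻¹ᵁ V ≤ A),
            (g ∣_ (h ⁻¹ᵁ V)) ≫ Y.homOfLE hA = Z.homOfLE (g.preimage_mono hA) ≫ (g ∣_ A) := fun A hA => by
          rw [← cancel_mono A.ι, Category.assoc, Category.assoc, Scheme.homOfLE_ι, morphismRestrict_ι, morphismRestrict_ι,
            Scheme.homOfLE_ι_assoc]
        rw [reassoc_of% (e _ (le_trans hVj inf_le_left)), reassoc_of% (e _ (le_trans hVj inf_le_right)), hk2, hk2,
          Scheme.homOfLE_ι_assoc, Scheme.homOfLE_ι_assoc]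
    have hr : Set.range ((j.ι ⁻¹ᵁ (h ⁻¹ᵁ V)).ι ≫ j.ι) ⊆ Set.range (h ⁻¹ᵁ V).ι := by
      rintro _ ⟨z, rfl⟩
      rw [Scheme.Opens.range_ι]
      exact z.2
    obtain ⟨l, hl⟩ : ∃ l, l ≫ (h ⁻¹ᵁ V).ι = (j.ι ⁻¹ᵁ (h ⁻¹ᵁ V)).ι ≫ j.ι := ⟨_, IsOpenImmersion.lift_fac _ _ hr⟩
    have el : l ≫ Y.homOfLE hVj = (j.ι ⁻¹ᵁ (h ⁻¹ᵁ V)).ι := by
      rw [← cancel_mono j.ι, Category.assoc, Scheme.homOfLE_ι, hl]
    show _ ≫ Y.homOfLE _ ≫ k U = _ ≫ Y.homOfLE _ ≫ k U'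
    rw [← el, Category.assoc, Category.assoc, Scheme.homOfLE_homOfLE_assoc, Scheme.homOfLE_homOfLE_assoc, key]
  refine ⟨𝒰.glueMorphisms k hcomp, ?_, ?_⟩
  · refine 𝒰.hom_ext _ _ fun U => ?_
    rw [Scheme.Cover.ι_glueMorphisms_assoc]
    exact hk1 U
  · refine Scheme.hom_ext_of_forall _ _ fun z => ?_
    obtain ⟨U, hU, hyU, -⟩ := exists_isAffineOpen_mem_and_subset (U := (⊤ : S.Opens)) (x := h (g z)) trivial
    refine ⟨g ⁻¹ᵁ (h ⁻¹ᵁ U), hyU, ?_⟩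
    rw [← morphismRestrict_ι_assoc]
    exact (congrArg ((g ∣_ (h ⁻¹ᵁ U)) ≫ ·) (𝒰.ι_glueMorphisms k hcomp ⟨U, hU⟩)).trans (hk2 ⟨U, hU⟩)

end Groth.Agent.FEtFF

namespace Groth.Agent.FEtFF
open CategoryTheory CategoryTheory.Limits AlgebraicGeometry TopologicalSpace Opposite

/-- Restriction is fully faithful when sections of every cover inject and integral sections descend. -/
theorem restrict_full_faithful {X S : Scheme.{u}} (f : X ⟶ S)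
    (hinj : ∀ (Y : FEt.Cat S) (U : S.Opens), IsAffineOpen U →
      Function.Injective ((pullback.fst Y.hom f).app (Y.hom ⁻¹ᵁ U)))
    (hint : ∀ (Y : FEt.Cat S) (U : S.Opens), IsAffineOpen U →
      ∀ z, (Y.hom.app U ≫ (pullback.fst Y.hom f).app (Y.hom ⁻¹ᵁ U)).hom.IsIntegralElem z →
        z ∈ Set.range ((pullback.fst Y.hom f).app (Y.hom ⁻¹ᵁ U))) :
    (FEt.restrict f).Full ∧ (FEt.restrict f).Faithful := by
  constructor
  · constructor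
    intro Y Y' α
    let β : pullback Y.hom f ⟶ Y'.left := α.left ≫ pullback.fst Y'.hom f
    have hα : α.left ≫ pullback.snd Y'.hom f = pullback.snd Y.hom f := FEtQuot.hom_w α
    have hβ : β ≫ Y'.hom = pullback.fst Y.hom f ≫ Y.hom := by
      exact (Category.assoc _ _ _).trans ((congrArg (α.left ≫ ·) pullback.condition).trans
        ((Category.assoc _ _ _).symm.trans ((congrArg (· ≫ f) hα).trans pullback.condition.symm)))
    have hI : ∀ (U : S.Opens), IsAffineOpen U → ∀ (le : pullback.fst Y.hom f ⁻¹ᵁ (Y.hom ⁻¹ᵁ U) ≤ β ⁻¹ᵁ (Y'.hom ⁻¹ᵁ U)) (b : Γ(Y'.left, Y'.hom ⁻¹ᵁ U)),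
        (Y.hom.app U ≫ (pullback.fst Y.hom f).app (Y.hom ⁻¹ᵁ U)).hom.IsIntegralElem (β.appLE _ _ le b) := by
      intro U hU le b
      obtain ⟨p, hp, hp0⟩ := RingHom.IsIntegral.of_finite (IsFinite.finite_app Y'.hom U hU) b
      refine ⟨p, hp, ?_⟩
      have hcomp : Y.hom.app U ≫ (pullback.fst Y.hom f).app (Y.hom ⁻¹ᵁ U) =
          Y'.hom.app U ≫ β.appLE (Y'.hom ⁻¹ᵁ U) _ le := by
        rw [Scheme.Hom.app_eq_appLE, Scheme.Hom.app_eq_appLE, Scheme.Hom.app_eq_appLE,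
          Scheme.Hom.appLE_comp_appLE, Scheme.Hom.appLE_comp_appLE]
        have : ∀ (m m' : pullback Y.hom f ⟶ S) (V : (pullback Y.hom f).Opens) (l : V ≤ m ⁻¹ᵁ U) (l' : V ≤ m' ⁻¹ᵁ U),
            m = m' → m.appLE U V l = m'.appLE U V l' := by rintro m m' V l l' rfl; rfl
        exact this _ _ _ _ _ hβ.symm
      rw [hcomp, CommRingCat.hom_comp, ← Polynomial.hom_eval₂]
      exact (congrArg _ hp0).trans (map_zero _)
    obtain ⟨γ, hγ1, hγ2⟩ := exists_extension Y.hom Y'.hom (pullback.fst Y.hom f) (fun U hU => hinj Y U hU) β hβ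
      (fun U hU le b => hint Y U hU _ (hI U hU le b))
    refine ⟨MorphismProperty.Over.homMk γ hγ1, MorphismProperty.Over.Hom.ext (pullback.hom_ext ?_ ?_)⟩
    · exact (pullback.lift_fst _ _ _).trans hγ2
    · exact (pullback.lift_snd _ _ _).trans hα.symm
  · constructor
    intro Y Y' a b hab
    refine MorphismProperty.Over.Hom.ext (hom_ext_of_injective Y.hom Y'.hom (pullback.fst Y.hom f)
      (fun U hU => hinj Y U hU) a.left b.left (FEtQuot.hom_w a) (FEtQuot.hom_w b) ?_)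
    have e := congrArg (fun m : (FEt.restrict f).obj Y ⟶ (FEt.restrict f).obj Y' => m.left ≫ pullback.fst Y'.hom f) hab
    exact (pullback.lift_fst _ _ _).symm.trans (e.trans (pullback.lift_fst _ _ _))

end Groth.Agent.FEtFF

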