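import Groth.Prelude.Def_Pi1
import Groth.Agent.FEtFF.Extend
import Groth.Agent.HenselLib.WeakDim
import Groth.Agent.NormalExtLib.Basic
import Mathlib.AlgebraicGeometry.FunctionField

/-!
# Restriction to the generic point of a normal integral scheme
-/

set_option autoImplicit false
set_option linter.style.haveILetI false
set_option backward.isDefEq.respectTransparency.types false
universe u

namespace Groth.Agent.FEtFF
open CategoryTheory CategoryTheory.Limits AlgebraicGeometry TopologicalSpace Opposite TensorProduct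

theorem isIntegral_descends {X S Z : Scheme.{u}} (f : X ⟶ S) (h : Z ⟶ S) [IsFinite h] [Etale h] {U : S.Opens} (hU : IsAffineOpen U)
    [IsDomain Γ(S, U)] [IsIntegrallyClosed Γ(S, U)] (K : Type u) [Field K] [Algebra Γ(S, U) K]
    [IsFractionRing Γ(S, U) K] (hW : IsAffineOpen (f ⁻¹ᵁ U)) (eK : Γ(X, f ⁻¹ᵁ U) ≅ CommRingCat.of K)
    (heK : f.app U ≫ eK.hom = CommRingCat.ofHom (algebraMap Γ(S, U) K)) :
    Function.Injective ((pullback.fst h f).app (h ⁻¹ᵁ U)) ∧
      ∀ z, (h.app U ≫ (pullback.fst h f).app (h ⁻¹ᵁ U)).hom.IsIntegralElem z →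
        z ∈ Set.range ((pullback.fst h f).app (h ⁻¹ᵁ U)) := by
  have H := IsPullback.of_hasPullback h f
  set g := pullback.fst h f
  set q := pullback.snd h f
  have hPU : g ⁻¹ᵁ (h ⁻¹ᵁ U) = g ⁻¹ᵁ (h ⁻¹ᵁ U) ⊓ q ⁻¹ᵁ (f ⁻¹ᵁ U) := by
    rw [← preimage_eq f h H U, inf_idem]
  have hp := (isIso_pushoutSection_iff H le_rfl le_rfl hPU).mp
    (isIso_pushoutSection_of_isAffineOpen H le_rfl le_rfl hPU hU hW (hU.preimage h))
  rw [← Scheme.Hom.app_eq_appLE, ← Scheme.Hom.app_eq_appLE, ← Scheme.Hom.app_eq_appLE] at hp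
  letI := (h.app U).hom.toAlgebra
  letI : Algebra Γ(S, U) Γ(X, f ⁻¹ᵁ U) := (f.app U).hom.toAlgebra
  let θ : Γ(X, f ⁻¹ᵁ U) ≃ₐ[Γ(S, U)] K :=
    AlgEquiv.ofRingEquiv (f := eK.commRingCatIsoToRingEquiv) fun r => ConcreteCategory.congr_hom heK r
  let e := hp.isoIsPushout _ _ (CommRingCat.isPushout_tensorProduct Γ(S, U) Γ(Z, h ⁻¹ᵁ U) Γ(X, f ⁻¹ᵁ U))
  let T := Γ(Z, h ⁻¹ᵁ U) ⊗[Γ(S, U)] K
  let E : Γ(pullback h f, g ⁻¹ᵁ (h ⁻¹ᵁ U)) ≃+* T :=
    e.commRingCatIsoToRingEquiv.trans (Algebra.TensorProduct.congr (AlgEquiv.refl : Γ(Z, h ⁻¹ᵁ U) ≃ₐ[Γ(S, U)] Γ(Z, h ⁻¹ᵁ U)) θ).toRingEquiv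
  have hE : ∀ b, E (g.app (h ⁻¹ᵁ U) b) = algebraMap Γ(Z, h ⁻¹ᵁ U) T b := fun b => by
    have h1 : e.hom (g.app (h ⁻¹ᵁ U) b) = b ⊗ₜ[Γ(S, U)] 1 :=
      ConcreteCategory.congr_hom (hp.inl_isoIsPushout_hom _ _ _) b
    show (Algebra.TensorProduct.congr (AlgEquiv.refl : Γ(Z, h ⁻¹ᵁ U) ≃ₐ[Γ(S, U)] Γ(Z, h ⁻¹ᵁ U)) θ) (e.hom (g.app (h ⁻¹ᵁ U) b)) = _
    rw [h1]
    simp [T]
  haveI : Module.Finite Γ(S, U) Γ(Z, h ⁻¹ᵁ U) := IsFinite.finite_app h U hU
  haveI : Algebra.Etale Γ(S, U) Γ(Z, h ⁻¹ᵁ U) := RingHom.etale_algebraMap.mp (by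
    have := h.etale_appLE hU (hU.preimage h) le_rfl
    rw [← Scheme.Hom.app_eq_appLE] at this
    exact this)
  haveI : Algebra.WeaklyEtale Γ(S, U) Γ(Z, h ⁻¹ᵁ U) := inferInstance
  have hinj : Function.Injective (algebraMap Γ(Z, h ⁻¹ᵁ U) T) :=
    Algebra.TensorProduct.includeLeft_injective (S := Γ(Z, h ⁻¹ᵁ U)) (IsFractionRing.injective Γ(S, U) K)
  haveI : IsIntegrallyClosedIn Γ(Z, h ⁻¹ᵁ U) T := HenselLib.WeakDim.integrallyClosed_weaklyEtale _ K _
  refine ⟨fun a b hab => hinj (by rw [← hE, ← hE, hab]), fun z ⟨p, hp, hp0⟩ => ?_⟩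
  have hz : IsIntegral Γ(Z, h ⁻¹ᵁ U) (E z) := by
    refine ⟨p.map (h.app U).hom, hp.map _, ?_⟩
    rw [Polynomial.eval₂_map]
    have hc : (algebraMap Γ(Z, h ⁻¹ᵁ U) T).comp (h.app U).hom =
        E.toRingHom.comp (h.app U ≫ g.app (h ⁻¹ᵁ U)).hom := RingHom.ext fun r => (hE _).symm
    rw [hc, show E z = E.toRingHom z from rfl, ← Polynomial.hom_eval₂]
    exact (congrArg _ hp0).trans (map_zero _)
  obtain ⟨b, hb⟩ := IsIntegrallyClosedIn.isIntegral_iff.mp hz
  exact ⟨b, E.injective (by rw [hE, hb])⟩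

/-- Restriction to the generic point. -/
theorem restrict_genericPoint {S : Scheme.{u}} [IsIntegral S] (hS : Pi1.IsNormalScheme S) :
    (FEt.restrict (S.fromSpecStalk (genericPoint S))).Full ∧ (FEt.restrict (S.fromSpecStalk (genericPoint S))).Faithful := by
  have key : ∀ {Z : Scheme.{u}} (h : Z ⟶ S) [IsFinite h] [Etale h] (U : S.Opens), IsAffineOpen U →
      Function.Injective ((pullback.fst h (S.fromSpecStalk (genericPoint S))).app (h ⁻¹ᵁ U)) ∧
      ∀ z, (h.app U ≫ (pullback.fst h (S.fromSpecStalk (genericPoint S))).app (h ⁻¹ᵁ U)).hom.IsIntegralElem z →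
        z ∈ Set.range ((pullback.fst h (S.fromSpecStalk (genericPoint S))).app (h ⁻¹ᵁ U)) := by
    intro Z h _ _ U hU
    rcases (U : Set S).eq_empty_or_nonempty with he | ⟨x, hx⟩
    · have hbot : U = ⊥ := Opens.ext he
      subst hbot
      haveI : Subsingleton Γ(Z, h ⁻¹ᵁ ⊥) := by
        rw [Scheme.Hom.preimage_bot]; exact CommRingCat.subsingleton_of_isTerminal Z.sheaf.isTerminalOfEmpty
      haveI : Subsingleton Γ(pullback h (S.fromSpecStalk (genericPoint S)),
          pullback.fst h (S.fromSpecStalk (genericPoint S)) ⁻¹ᵁ (h ⁻¹ᵁ ⊥)) := by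
        rw [Scheme.Hom.preimage_bot, Scheme.Hom.preimage_bot]
        exact CommRingCat.subsingleton_of_isTerminal (pullback h _).sheaf.isTerminalOfEmpty
      exact ⟨fun a b _ => Subsingleton.elim a b, fun z _ => ⟨0, Subsingleton.elim _ _⟩⟩
    · haveI : Nonempty U := ⟨⟨x, hx⟩⟩
      have hη : genericPoint S ∈ U := (genericPoint_specializes x).mem_open U.isOpen hx
      haveI := functionField_isFractionRing_of_isAffineOpen S U hU
      haveI : IsDomain Γ(S, U) := inferInstance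
      haveI := NormalExtLib.isIntegrallyClosed_sections hS U hU
      have htop : S.fromSpecStalk (genericPoint S) ⁻¹ᵁ U = ⊤ := by
        refine top_unique fun t _ => ?_
        have : S.fromSpecStalk (genericPoint S) t ∈ {y | y ⤳ genericPoint S} := by
          rw [← Scheme.range_fromSpecStalk]; exact ⟨t, rfl⟩
        exact (show S.fromSpecStalk (genericPoint S) t ⤳ genericPoint S from this).mem_open U.isOpen hη
      refine isIntegral_descends _ h hU S.functionField (htop ▸ isAffineOpen_top _)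
        ((Spec (S.presheaf.stalk (genericPoint S))).presheaf.mapIso (eqToIso (congrArg op htop)) ≪≫
          Scheme.ΓSpecIso (S.presheaf.stalk (genericPoint S))) ?_
      rw [Scheme.fromSpecStalk_app hη]
      simp only [Iso.trans_hom, Functor.mapIso_hom, eqToIso.hom, Category.assoc]
      rw [← Functor.map_comp_assoc, Subsingleton.elim (_ ≫ _ : op (⊤ : (Spec (S.presheaf.stalk (genericPoint S))).Opens) ⟶ op ⊤) (𝟙 _),
        CategoryTheory.Functor.map_id, Category.id_comp, Iso.inv_hom_id, Category.comp_id]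
      rfl
  exact restrict_full_faithful _ (fun Y U hU => (key Y.hom U hU).1) fun Y U hU => (key Y.hom U hU).2

theorem restrict_iso_full_faithful {X S : Scheme.{u}} (f : X ⟶ S) [IsIso f] :
    (FEt.restrict f).Full ∧ (FEt.restrict f).Faithful := by
  refine restrict_full_faithful f (fun Y U _ => ?_) (fun Y U _ z _ => ?_)
  · exact (ConcreteCategory.bijective_of_isIso ((pullback.fst Y.hom f).app (Y.hom ⁻¹ᵁ U))).1
  · exact (ConcreteCategory.bijective_of_isIso ((pullback.fst Y.hom f).app (Y.hom ⁻¹ᵁ U))).2 z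

theorem isNormalScheme_open {S : Scheme.{u}} (hS : Pi1.IsNormalScheme S) (U : S.Opens) :
    Pi1.IsNormalScheme U.toScheme := fun x => by
  let e := (asIso (U.ι.stalkMap x)).commRingCatIsoToRingEquiv
  haveI := (hS (U.ι x)).1
  haveI := (hS (U.ι x)).2
  exact ⟨MulEquiv.isDomain _ e.symm.toMulEquiv, IsIntegrallyClosed.of_equiv e⟩

/-- Restriction to a nonempty open. -/
theorem restrict_open {S : Scheme.{u}} [IsIntegral S] (hS : Pi1.IsNormalScheme S) (U : S.Opens)
    (hU : (U : Set S).Nonempty) : (FEt.restrict U.ι).Full ∧ (FEt.restrict U.ι).Faithful := by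
  haveI : Nonempty U.toScheme := hU.to_subtype
  haveI : IsIntegral U.toScheme := isIntegral_of_isOpenImmersion U.ι
  have gen : ∀ y : S, y = genericPoint S →
      (FEt.restrict (S.fromSpecStalk y)).Full ∧ (FEt.restrict (S.fromSpecStalk y)).Faithful := by
    rintro y rfl; exact restrict_genericPoint hS
  obtain ⟨hj, hjf⟩ := gen (U.ι (genericPoint U.toScheme)) (genericPoint_eq_of_isOpenImmersion U.ι)
  obtain ⟨hjU, hjUf⟩ := restrict_genericPoint (isNormalScheme_open hS U)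
  let s := Spec.map (U.ι.stalkMap (genericPoint U.toScheme))
  obtain ⟨hs, hsf⟩ := restrict_iso_full_faithful s
  have hcomp : s ≫ S.fromSpecStalk (U.ι (genericPoint U.toScheme)) =
      U.toScheme.fromSpecStalk (genericPoint U.toScheme) ≫ U.ι := Scheme.SpecMap_stalkMap_fromSpecStalk U.ι
  let e : FEt.restrict U.ι ⋙ FEt.restrict (U.toScheme.fromSpecStalk (genericPoint U.toScheme)) ≅
      FEt.restrict (S.fromSpecStalk (U.ι (genericPoint U.toScheme))) ⋙ FEt.restrict s :=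
    (MorphismProperty.Over.pullbackComp (P := FEt.prop) (Q := ⊤) (U.toScheme.fromSpecStalk (genericPoint U.toScheme)) U.ι
      (s ≫ S.fromSpecStalk (U.ι (genericPoint U.toScheme))) hcomp).symm ≪≫
      MorphismProperty.Over.pullbackComp (P := FEt.prop) (Q := ⊤) s (S.fromSpecStalk (U.ι (genericPoint U.toScheme)))
  haveI := Functor.Full.of_iso e.symm
  haveI := Functor.Faithful.of_iso e.symm
  exact ⟨Functor.Full.of_comp_faithful (FEt.restrict U.ι) (FEt.restrict (U.toScheme.fromSpecStalk (genericPoint U.toScheme))),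
    Functor.Faithful.of_comp (FEt.restrict U.ι) (FEt.restrict (U.toScheme.fromSpecStalk (genericPoint U.toScheme)))⟩

end Groth.Agent.FEtFF
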