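import Groth.Agent.H8Lim.StalkLimit
import Groth.Agent.H8Lim.SchemeDescent
import Groth.Agent.H8Lim.HomDescent
import Groth.Agent.H8Lim.DescentMore
import Groth.Agent.H8Lim.Approximation
import Groth.Agent.LimSmooth.Scheme
import Mathlib.AlgebraicGeometry.Morphisms.Finite

/-!
# Extending a finite étale cover of an open across a point
-/

set_option autoImplicit false
set_option linter.style.haveILetI false
set_option backward.isDefEq.respectTransparency.types false
set_option backward.isDefEq.respectTransparency false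
universe u

open CategoryTheory CategoryTheory.Limits AlgebraicGeometry TopologicalSpace

namespace Groth.Agent.FEtFF.ExtendPoint

/-- A cartesian square may be tested after a monomorphism. -/
theorem of_comp_mono {C : Type*} [Category C] {P X Y Z Z' : C} {fst : P ⟶ X} {snd : P ⟶ Y} {f : X ⟶ Z}
    {g : Y ⟶ Z} {ι : Z ⟶ Z'} [Mono ι] (h : IsPullback fst snd (f ≫ ι) (g ≫ ι)) : IsPullback fst snd f g :=
  ⟨⟨(cancel_mono ι).1 (by simpa only [Category.assoc] using h.w)⟩,
    ⟨PullbackCone.IsLimit.mk _ (fun s => h.lift s.fst s.snd (by rw [← Category.assoc, s.condition, Category.assoc]))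
      (fun s => h.lift_fst _ _ _) (fun s => h.lift_snd _ _ _)
      (fun s m h₁ h₂ => h.hom_ext (by simpa using h₁) (by simpa using h₂))⟩⟩

/-- A finite étale scheme over the local scheme at `x` comes from an affine neighbourhood of `x`. -/
theorem exists_stage_finite_etale {X : Scheme.{u}} [IsLocallyNoetherian X] (x : X) {W : Scheme.{u}}
    (w : W ⟶ Spec (X.presheaf.stalk x)) [IsFinite w] [Etale w] :
    ∃ (k : H8Lim.StalkLimit.AffNhd x) (W₀ : Scheme.{u}) (w₀ : W₀ ⟶ (H8Lim.StalkLimit.diagram x).obj k)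
      (q : W ⟶ W₀), IsFinite w₀ ∧ Etale w₀ ∧ IsPullback q w w₀ ((H8Lim.StalkLimit.cone x).π.app k) := by
  let D := H8Lim.StalkLimit.diagram x
  let c := H8Lim.StalkLimit.cone x
  have hc : IsLimit c := H8Lim.StalkLimit.isLimitCone x
  have haff : ∀ {i j} (φ : i ⟶ j), IsAffineHom (D.map φ) := fun φ => inferInstance
  haveI : ∀ i, IsAffine (D.obj i) := fun i => inferInstance
  obtain ⟨i₀⟩ : Nonempty (H8Lim.StalkLimit.AffNhd x) := IsCofiltered.nonempty
  haveI : IsAffine W := isAffine_of_isAffineHom w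
  obtain ⟨j, Zj, h, q, hlfp, hqc, hqs, sq⟩ :=
    H8Lim.descendable_affine (D := D) (c := c) hc (V := W) w i₀ (isAffineOpen_top (D.obj i₀))
      (fun x _ => trivial)
  obtain ⟨k, φ, hk⟩ := H8Lim.descends_isFinite D c hc haff j h inferInstance w q sq ‹IsFinite w›
  let hk' := pullback.snd h (D.map φ)
  haveI : IsFinite hk' := hk
  have hqw : q ≫ h = (w ≫ c.π.app k) ≫ D.map φ := by rw [Category.assoc, c.w]; exact sq.w
  let qk : W ⟶ pullback h (D.map φ) := pullback.lift q (w ≫ c.π.app k) hqw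
  have sqk : IsPullback qk w hk' (c.π.app k) := by
    refine IsPullback.of_right ?_ (pullback.lift_snd _ _ _) (IsPullback.of_hasPullback h (D.map φ))
    rw [pullback.lift_fst]
    exact (c.w φ).symm ▸ sq
  haveI : LocallyOfFinitePresentation hk' := inferInstance
  haveI : CompactSpace ↥(pullback h (D.map φ)) := QuasiCompact.compactSpace_of_compactSpace hk'
  obtain ⟨l, ψ, Xl, Yl, fl, gl, pY, pX, hYl, hXl, hfl⟩ :=
    LimSmooth.exists_stage (P := @Etale) (D := D) (c := c) hc (g₀ := 𝟙 (D.obj k)) (g := 𝟙 c.pt)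
      (qY := c.π.app k) (IsPullback.of_vert_isIso ⟨(Category.comp_id _).trans (Category.id_comp _).symm⟩)
      sqk LimSmooth.affineSpreads_etale (fun ι _ => inferInstance) ‹Etale w›
  haveI : IsIso gl := MorphismProperty.of_isPullback (P := MorphismProperty.isomorphisms Scheme.{u}) hYl
    (inferInstanceAs (IsIso (𝟙 _)))
  have hpY : pY = gl ≫ D.map ψ := by rw [← Category.comp_id pY]; exact hYl.w
  have sl : IsPullback pX (fl ≫ gl) hk' (D.map ψ) := by
    refine hXl.of_iso (Iso.refl _) (Iso.refl _) (asIso gl) (Iso.refl _) ?_ ?_ ?_ ?_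
    all_goals simp [hpY]
  haveI : IsFinite (fl ≫ gl) := MorphismProperty.of_isPullback sl ‹IsFinite hk'›
  haveI : Etale fl := hfl
  refine ⟨l, Xl, fl ≫ gl, sl.lift qk (w ≫ c.π.app l) (by rw [Category.assoc, c.w]; exact sqk.w),
    inferInstance, inferInstance, IsPullback.of_right ?_ (sl.lift_snd _ _ _) sl⟩
  rw [sl.lift_fst]
  exact (c.w ψ).symm ▸ sqk

/-- The two covers pulled back to the part of a base change lying over `U`. -/
theorem isPullback_parts {X : Scheme.{u}} {U : X.Opens} {V Dk Wk : Scheme.{u}} (v : V ⟶ U) (t : Dk ⟶ X)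
    (wk : Wk ⟶ Dk) {T : Scheme.{u}} (r : T ⟶ Dk) (s : T ⟶ X) (hrs : r ≫ t = s)
    {P : Scheme.{u}} {p1 : P ⟶ U} {p2 : P ⟶ T} (hP : IsPullback p1 p2 U.ι s) :
    (∀ (O : Scheme.{u}) (q1 : O ⟶ V) (q2 : O ⟶ P), IsPullback q1 q2 v p1 →
      ∃ qX : O ⟶ pullback v (pullback.fst U.ι t), qX ≫ pullback.fst _ _ = q1 ∧
        IsPullback qX (q2 ≫ p2) (pullback.snd v (pullback.fst U.ι t) ≫ pullback.snd U.ι t) r) ∧
    (∀ (O : Scheme.{u}) (WT : Scheme.{u}) (qW : WT ⟶ Wk) (wT : WT ⟶ T) (r1 : O ⟶ WT) (q2 : O ⟶ P),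
      IsPullback qW wT wk r → IsPullback r1 q2 wT p2 →
      ∃ qY : O ⟶ pullback wk (pullback.snd U.ι t), qY ≫ pullback.fst _ _ = r1 ≫ qW ∧
        IsPullback qY (q2 ≫ p2) (pullback.snd wk (pullback.snd U.ι t) ≫ pullback.snd U.ι t) r) := by
  let m : P ⟶ pullback U.ι t := pullback.lift p1 (p2 ≫ r) (by rw [Category.assoc, hrs]; exact hP.w)
  have hm : IsPullback m p2 (pullback.snd U.ι t) r := by
    refine IsPullback.of_right ?_ (pullback.lift_snd _ _ _) (IsPullback.of_hasPullback U.ι t)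
    rw [pullback.lift_fst, hrs]
    exact hP
  refine ⟨fun O q1 q2 hO => ?_, fun O WT qW wT r1 q2 hW hO => ?_⟩
  · let qX : O ⟶ pullback v (pullback.fst U.ι t) := pullback.lift q1 (q2 ≫ m)
      (by rw [Category.assoc, pullback.lift_fst]; exact hO.w)
    refine ⟨qX, pullback.lift_fst _ _ _, IsPullback.paste_vert ?_ hm⟩
    refine IsPullback.of_right ?_ (pullback.lift_snd _ _ _) (IsPullback.of_hasPullback v _)
    rw [pullback.lift_fst, pullback.lift_fst]
    exact hO
  · let qY : O ⟶ pullback wk (pullback.snd U.ι t) := pullback.lift (r1 ≫ qW) (q2 ≫ m)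
      (by rw [Category.assoc, Category.assoc, pullback.lift_snd, hW.w, ← Category.assoc, hO.w, Category.assoc])
    refine ⟨qY, pullback.lift_fst _ _ _, IsPullback.paste_vert ?_ hm⟩
    refine IsPullback.of_right ?_ (pullback.lift_snd _ _ _) (IsPullback.of_hasPullback wk _)
    rw [pullback.lift_fst, pullback.lift_snd]
    exact hO.paste_horiz hW

set_option maxHeartbeats 1600000 in
/-- Extension of a finite étale cover of `U` over a neighbourhood of `x`, given one over the local scheme. -/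
theorem exists_extension_at {X : Scheme.{u}} [IsLocallyNoetherian X] (U : X.Opens) (x : X)
    {V : Scheme.{u}} (v : V ⟶ U) [IsFinite v] [Etale v]
    {W : Scheme.{u}} (w : W ⟶ Spec (X.presheaf.stalk x)) [IsFinite w] [Etale w]
    {P : Scheme.{u}} {p1 : P ⟶ U} {p2 : P ⟶ Spec (X.presheaf.stalk x)}
    (hP : IsPullback p1 p2 U.ι (X.fromSpecStalk x))
    {VP : Scheme.{u}} {q1 : VP ⟶ V} {q2 : VP ⟶ P} {r1 : VP ⟶ W}
    (hV : IsPullback q1 q2 v p1) (hW : IsPullback r1 q2 w p2) :
    ∃ (N : X.Opens) (V' : Scheme.{u}) (v' : V' ⟶ (U ⊔ N : X.Opens)) (a : V ⟶ V'),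
      x ∈ N ∧ IsFinite v' ∧ Etale v' ∧ IsPullback a v v' (X.homOfLE le_sup_left) := by
  let D := H8Lim.StalkLimit.diagram x
  let c := H8Lim.StalkLimit.cone x
  have hc : IsLimit c := H8Lim.StalkLimit.isLimitCone x
  have haff : ∀ {i j} (φ : i ⟶ j), IsAffineHom (D.map φ) := fun φ => inferInstance
  obtain ⟨k, Wk, wk, qW, hwkf, hwke, sqW⟩ := exists_stage_finite_etale x w
  let t := H8Lim.StalkLimit.incMap x k
  haveI : IsLocallyNoetherian (D.obj k) := isLocallyNoetherian_of_isOpenImmersion t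
  haveI : CompactSpace (D.obj k) := inferInstance
  haveI : IsNoetherian (D.obj k) := ⟨⟩
  let a := pullback.fst U.ι t
  let b := pullback.snd U.ι t
  haveI : IsOpenImmersion b := inferInstance
  haveI : IsLocallyNoetherian (pullback U.ι t) := isLocallyNoetherian_of_isOpenImmersion b
  haveI : CompactSpace ↥(pullback U.ι t) := QuasiCompact.compactSpace_of_compactSpace b
  haveI : QuasiSeparatedSpace ↥(pullback U.ι t) := quasiSeparatedSpace_of_quasiSeparated b
  let xi := pullback.snd v a ≫ b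
  let yi := pullback.snd wk b ≫ b
  haveI : CompactSpace ↥(pullback v a) := QuasiCompact.compactSpace_of_compactSpace (pullback.snd v a)
  haveI : QuasiSeparatedSpace ↥(pullback v a) := quasiSeparatedSpace_of_quasiSeparated (pullback.snd v a)
  obtain ⟨qX, hqX, sX⟩ := (isPullback_parts v t wk (c.π.app k) _ (H8Lim.StalkLimit.cone_incMap x k) hP).1 VP q1 q2 hV
  obtain ⟨qY, hqY, sY⟩ := (isPullback_parts v t wk (c.π.app k) _ (H8Lim.StalkLimit.cone_incMap x k) hP).2 VP W qW w r1 q2 sqW hW
  -- the comparison map comes from a stage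
  obtain ⟨j, φ, g, s, hg, hs1, hs2, hs3⟩ :=
    H8Lim.exists_stage_hom (D := D) hc (xi := xi) (yi := yi) sX qY (sY.w.trans sX.w.symm)
  let Xj := pullback xi (D.map φ)
  let Yj := pullback yi (D.map φ)
  let g' : Xj ⟶ Yj := pullback.lift g (pullback.snd _ _) (hg.trans pullback.condition)
  have hg' : g' ≫ pullback.snd yi (D.map φ) = pullback.snd xi (D.map φ) := pullback.lift_snd _ _ _
  let qYj : VP ⟶ Yj := pullback.lift qY ((q2 ≫ p2) ≫ c.π.app j)
    (by rw [Category.assoc, c.w]; exact sY.w)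
  have sYj : IsPullback qYj (q2 ≫ p2) (pullback.snd yi (D.map φ)) (c.π.app j) := by
    refine IsPullback.of_right ?_ (pullback.lift_snd _ _ _) (IsPullback.of_hasPullback yi (D.map φ))
    rw [pullback.lift_fst, c.w]
    exact sY
  have sXj : IsPullback s (q2 ≫ p2) (pullback.snd xi (D.map φ)) (c.π.app j) := by
    refine IsPullback.of_right ?_ hs2 (IsPullback.of_hasPullback xi (D.map φ))
    rw [hs1, c.w]
    exact sX
  have sg : IsPullback s (𝟙 VP) g' qYj := by
    refine IsPullback.of_bot ?_ ?_ sYj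
    · rw [hg', Category.id_comp]; exact sXj
    · rw [Category.id_comp]
      apply pullback.hom_ext
      · rw [Category.assoc, pullback.lift_fst, pullback.lift_fst]; exact hs3
      · rw [Category.assoc, pullback.lift_snd, pullback.lift_snd]; exact hs2
  haveI : Etale xi := inferInstance
  haveI : Etale yi := inferInstance
  haveI : Etale g' := by
    haveI : Etale (g' ≫ pullback.snd yi (D.map φ)) := by rw [hg']; infer_instance
    exact MorphismProperty.of_postcomp (W := @Etale) (W' := @Etale) g' _ inferInstance this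
  haveI : LocallyOfFinitePresentation g' := inferInstance
  haveI : IsLocallyNoetherian (D.obj j) := isLocallyNoetherian_of_isOpenImmersion (H8Lim.StalkLimit.incMap x j)
  haveI : QuasiCompact (pullback.snd xi (D.map φ)) := inferInstance
  haveI : QuasiSeparated (pullback.snd yi (D.map φ)) := inferInstance
  haveI : CompactSpace ↥Yj := QuasiCompact.compactSpace_of_compactSpace (pullback.snd yi (D.map φ))
  haveI : QuasiCompact g' := by
    haveI : QuasiCompact (g' ≫ pullback.snd yi (D.map φ)) := by rw [hg']; infer_instance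
    exact QuasiCompact.of_comp g' (pullback.snd yi (D.map φ))
  haveI : QuasiSeparated g' := by
    haveI : QuasiSeparated (g' ≫ pullback.snd yi (D.map φ)) := by rw [hg']; infer_instance
    exact QuasiSeparated.of_comp g' (pullback.snd yi (D.map φ))
  obtain ⟨n, χ, Xn, Yn, fn, gn, pY, pX, hYn, hXn, hfn⟩ :=
    H8Lim.descends_isIso.exists_stage hc sYj sg inferInstance (inferInstanceAs (IsIso (𝟙 VP)))
  haveI : IsIso fn := hfn
  -- the comparison at the last stage
  let θ := χ ≫ φ
  let tn := H8Lim.StalkLimit.incMap x n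
  have hθ : D.map θ ≫ t = tn := H8Lim.StalkLimit.map_incMap x θ
  have hYn' : IsPullback (pY ≫ pullback.fst yi (D.map φ)) gn yi (D.map θ) :=
    D.map_comp χ φ ▸ hYn.paste_horiz (IsPullback.of_hasPullback yi (D.map φ))
  have hXn' : IsPullback (pX ≫ pullback.fst xi (D.map φ)) (fn ≫ gn) xi (D.map θ) :=
    D.map_comp χ φ ▸ (hg' ▸ hXn.paste_vert hYn).paste_horiz (IsPullback.of_hasPullback xi (D.map φ))
  let Wn := pullback wk (D.map θ)
  let wn : Wn ⟶ D.obj n := pullback.snd wk (D.map θ)
  let O := pullback v (pullback.fst U.ι tn)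
  let O' := pullback wn (pullback.snd U.ι tn)
  obtain ⟨qO, hqO, sO⟩ := (isPullback_parts v t wk (D.map θ) tn hθ (IsPullback.of_hasPullback U.ι tn)).1 O _ _
    (IsPullback.of_hasPullback v (pullback.fst U.ι tn))
  obtain ⟨qO', hqO', sO'⟩ := (isPullback_parts v t wk (D.map θ) tn hθ (IsPullback.of_hasPullback U.ι tn)).2 O' Wn
    (pullback.fst wk (D.map θ)) wn _ _ (IsPullback.of_hasPullback wk (D.map θ)) (IsPullback.of_hasPullback wn _)
  let ε : O ≅ O' := sO.isoIsPullback _ _ hXn' ≪≫ asIso fn ≪≫ hYn'.isoIsPullback _ _ sO'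
  have hε : ε.hom ≫ pullback.snd wn (pullback.snd U.ι tn) = pullback.snd v (pullback.fst U.ι tn) := by
    haveI : Mono (pullback.snd U.ι tn) := inferInstance
    rw [← cancel_mono (pullback.snd U.ι tn), Category.assoc]
    simp only [ε, Iso.trans_hom, asIso_hom, Category.assoc]
    rw [hYn'.isoIsPullback_hom_snd _ _ sO', sO.isoIsPullback_hom_snd _ _ hXn']
  -- glue
  haveI : IsOpenImmersion tn := inferInstance
  let i : O ⟶ V := pullback.fst v (pullback.fst U.ι tn)
  let i' : O' ⟶ Wn := pullback.fst wn (pullback.snd U.ι tn)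
  have hf : i ≫ v ≫ U.ι = (ε.hom ≫ i') ≫ wn ≫ tn := by
    simp only [i, i', Category.assoc]
    rw [pullback.condition_assoc, pullback.condition (f := U.ι), pullback.condition_assoc, reassoc_of% hε]
  obtain ⟨Z, aV, bW, f, haV, hbW, hcomm, hfV, hfW, hcov, hov⟩ :=
    H8Lim.exists_glue_two i (ε.hom ≫ i') (v ≫ U.ι) (wn ≫ tn) hf
  let N : X.Opens := tn.opensRange
  have hxN : x ∈ N := H8Lim.StalkLimit.mem_range_incMap x n
  have hfr : Set.range f ⊆ Set.range (U ⊔ N).ι := by
    rintro _ ⟨z, rfl⟩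
    rw [Scheme.Opens.range_ι]
    rcases hcov z with ⟨y, rfl⟩ | ⟨y, rfl⟩
    · rw [← Scheme.Hom.comp_apply, hfV]; exact Or.inl (v y).2
    · rw [← Scheme.Hom.comp_apply, hfW]; exact Or.inr ⟨wn y, rfl⟩
  let v' := IsOpenImmersion.lift (U ⊔ N).ι f hfr
  have hv' : v' ≫ (U ⊔ N).ι = f := IsOpenImmersion.lift_fac _ _ _
  have sU : IsPullback aV v f U.ι := by
    refine (IsOpenImmersion.isPullback v aV U.ι f hfV ?_).flip
    ext z
    constructor
    · intro hz
      rcases hcov z with h | ⟨y, rfl⟩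
      · exact h
      · obtain ⟨u₀, hu₀⟩ : f (bW y) ∈ Set.range U.ι := hz
        rw [← Scheme.Hom.comp_apply, hfW] at hu₀
        obtain ⟨p, -, hp⟩ := Scheme.Pullback.exists_preimage_pullback (f := U.ι) (g := tn) u₀ (wn y) hu₀
        obtain ⟨o', ho', -⟩ := Scheme.Pullback.exists_preimage_pullback (f := wn) (g := pullback.snd U.ι tn) y p hp.symm
        refine ⟨i (ε.inv o'), ?_⟩
        rw [← Scheme.Hom.comp_apply, hcomm]
        simp only [i', Scheme.Hom.comp_apply]
        rw [← Scheme.Hom.comp_apply ε.inv, Iso.inv_hom_id]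
        exact congrArg bW ho'
    · rintro ⟨y, rfl⟩
      show f (aV y) ∈ Set.range U.ι
      rw [← Scheme.Hom.comp_apply, hfV]
      exact ⟨v y, rfl⟩
  have sN : IsPullback bW wn f tn := by
    refine (IsOpenImmersion.isPullback wn bW tn f hfW ?_).flip
    ext z
    constructor
    · intro hz
      rcases hcov z with ⟨y, rfl⟩ | h
      · obtain ⟨d, hd⟩ : f (aV y) ∈ Set.range tn := hz
        rw [← Scheme.Hom.comp_apply, hfV] at hd
        obtain ⟨p, hp, -⟩ := Scheme.Pullback.exists_preimage_pullback (f := U.ι) (g := tn) (v y) d hd.symm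
        obtain ⟨o, ho, -⟩ := Scheme.Pullback.exists_preimage_pullback (f := v) (g := pullback.fst U.ι tn) y p hp.symm
        refine ⟨i' (ε.hom o), ?_⟩
        show _ = aV y
        rw [← ho]
        exact (congrArg (fun m => m o) hcomm).symm
      · exact h
    · rintro ⟨y, rfl⟩
      show f (bW y) ∈ Set.range tn
      rw [← Scheme.Hom.comp_apply, hfW]
      exact ⟨wn y, rfl⟩
  let jN : D.obj n ⟶ (U ⊔ N : X.Opens) := IsOpenImmersion.lift (U ⊔ N).ι tn (by
    rw [Scheme.Opens.range_ι]; exact fun _ h => Or.inr h)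
  have hjN : jN ≫ (U ⊔ N).ι = tn := IsOpenImmersion.lift_fac _ _ _
  have sU' : IsPullback aV v v' (X.homOfLE (le_sup_left : U ≤ U ⊔ N)) :=
    of_comp_mono (hv'.symm ▸ (X.homOfLE_ι (le_sup_left : U ≤ U ⊔ N)).symm ▸ sU)
  have sN' : IsPullback bW wn v' jN := of_comp_mono (hv'.symm ▸ hjN.symm ▸ sN)
  haveI : IsFinite wn := inferInstance
  haveI : Etale wn := inferInstance
  let 𝒰 : (U ⊔ N : X.Opens).toScheme.OpenCover := Scheme.Cover.mkOfCovers Bool
    (fun s => bif s then U.toScheme else D.obj n)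
    (fun s => Bool.rec (motive := fun s => (bif s then U.toScheme else D.obj n) ⟶ (U ⊔ N : X.Opens).toScheme)
      jN (X.homOfLE le_sup_left) s)
    (fun z => by
      rcases z.2 with h | ⟨d, hd⟩
      · exact ⟨true, ⟨z.1, h⟩, (U ⊔ N).ι.isOpenEmbedding.injective (by
          rw [← Scheme.Hom.comp_apply]; exact congrArg (fun m => m (⟨z.1, h⟩ : U.toScheme)) (X.homOfLE_ι _))⟩
      · exact ⟨false, d, (U ⊔ N).ι.isOpenEmbedding.injective (by
          rw [← Scheme.Hom.comp_apply]; exact (congrArg (fun m => m d) hjN).trans hd)⟩)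
    (fun s => by cases s <;> infer_instance)
  have hall : ∀ (Q : MorphismProperty Scheme.{u}) [IsZariskiLocalAtTarget Q] [Q.RespectsIso], Q v → Q wn → Q v' := by
    intro Q _ _ h1 h2
    refine (IsZariskiLocalAtTarget.iff_of_openCover (P := Q) 𝒰).2 fun s => ?_
    cases s
    · show Q (pullback.snd v' jN)
      rw [← sN'.isoPullback_inv_snd]
      exact (MorphismProperty.cancel_left_of_respectsIso Q _ _).2 h2
    · show Q (pullback.snd v' (X.homOfLE le_sup_left))
      rw [← sU'.isoPullback_inv_snd]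
      exact (MorphismProperty.cancel_left_of_respectsIso Q _ _).2 h1
  exact ⟨N, Z, v', aV, hxN, hall @IsFinite ‹_› ‹_›, hall @Etale ‹_› ‹_›, sU'⟩

end Groth.Agent.FEtFF.ExtendPoint
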