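import Groth.Prelude.Def_FEt
import Groth.Prelude.Def_DescFam
import Groth.Agent.Et18.IntegralPush
import Groth.Agent.HenselLib.EtaleSplit
import Groth.Agent.FEtLib.Section
import Groth.Agent.Desc19b.EffQuasiAffine
import Groth.Agent.Desc19b.ToDDFamFF
import Groth.Agent.Desc19b.CoverLocal
import Groth.Agent.AlgSpLib.FppfLocal
import Groth.Agent.AlgSpLib.SheafCoprod2
import Groth.Agent.FEtDesc.Fpqc
import Mathlib.CategoryTheory.Extensive

/-!
# Finite étale covers descend along universal homeomorphisms
-/

set_option autoImplicit false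
set_option linter.style.haveILetI false
set_option backward.isDefEq.respectTransparency.types false
set_option backward.isDefEq.respectTransparency false
universe u

open CategoryTheory CategoryTheory.Limits AlgebraicGeometry

namespace Groth.Agent.FEtFF.UnivHomeo

/-- The discrete scheme with `n` points. -/
noncomputable abbrev pts (n : ℕ) : Scheme.{u} := ∐ fun _ : Fin n => ⊤_ Scheme.{u}

theorem isFinite_pts (n : ℕ) : IsFinite (terminal.from (pts.{u} n)) := by
  rw [Subsingleton.elim (terminal.from (pts.{u} n)) (Sigma.desc fun _ => 𝟙 _)]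
  exact AlgSpLib.isFinite_sigmaDesc _ fun _ => inferInstance

theorem etale_pts (n : ℕ) : Etale (terminal.from (pts.{u} n)) := by
  rw [Subsingleton.elim (terminal.from (pts.{u} n)) (Sigma.desc fun _ => 𝟙 _)]
  exact IsZariskiLocalAtSource.sigmaDesc (P := @Etale) fun _ => inferInstance

/-- Local splitting: after an étale neighbourhood, the points of a finite étale scheme are maps to a finite set. -/
theorem exists_local_data {X Y : Scheme.{u}} (f : X ⟶ Y) [IsIntegralHom f] [UniversallyInjective f]
    {Z : Scheme.{u}} (z : Z ⟶ X) [IsFinite z] [Etale z] (x : X) :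
    ∃ (T : Scheme.{u}) (t : T ⟶ Y) (_ : Etale t) (_ : f x ∈ Set.range t) (n : ℕ)
      (R : pullback z (pullback.snd t f) ⟶ pts n),
      IsIso (pullback.lift (pullback.snd z (pullback.snd t f)) R (Subsingleton.elim _ _) :
        pullback z (pullback.snd t f) ⟶ pullback (terminal.from (pullback t f)) (terminal.from (pts n))) := by
  obtain ⟨U, g, hg, u₀, hu₀, n, V, c, hc, e, he⟩ := HenselLib.EtaleSplit.exists_etale_nhd_isos z x
  let W : X.Etale := Scheme.Etale.mk g
  let ξ := Et18.algPoint U u₀ ≫ g
  let w : (Scheme.pointSmallEtale ξ).fiber.obj W := Over.homMk (Et18.algPoint U u₀) rfl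
  have hinj : Function.Injective
      (pullback.fst (EtCoh.top Y).hom f : ((EtCoh.bc f).obj (EtCoh.top Y)).left ⟶ (EtCoh.top Y).left) :=
    haveI : UniversallyInjective (pullback.fst (EtCoh.top Y).hom f) :=
      MorphismProperty.pullback_fst _ _ inferInstance
    Scheme.Hom.injective (pullback.fst (EtCoh.top Y).hom f)
  obtain ⟨V', -, p, h, -, -⟩ := Et18.exists_bc_lift_of_integral ξ (EtCoh.top Y) hinj W
    ((EtCore.bcTopIsTerminal f).from W) w
  let t : V'.left ⟶ Y := V'.hom
  let hl : pullback t f ⟶ U := h.left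
  have hh : hl ≫ g = pullback.snd t f := Over.w h.hom
  haveI : Etale t := V'.prop
  refine ⟨V'.left, t, inferInstance, ?_, n, ?_⟩
  · let pl : Spec (CommRingCat.of _) ⟶ pullback t f := p.left
    have hp : pl ≫ pullback.snd t f = ξ := Over.w p
    refine ⟨pullback.fst t f (pl default), ?_⟩
    rw [← Scheme.Hom.comp_apply, pullback.condition, Scheme.Hom.comp_apply, ← Scheme.Hom.comp_apply pl, hp]
    simp only [ξ, Scheme.Hom.comp_apply, Et18.algPoint_default]
    exact congrArg f hu₀
  -- the splitting over `U`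
  let ρ : pullback z g ⟶ pts n := e.inv ≫ Limits.Sigma.map fun j => terminal.from (V j)
  let ψ : pullback z g ⟶ pullback (terminal.from U) (terminal.from (pts n)) :=
    pullback.lift (pullback.snd z g) ρ (Subsingleton.elim _ _)
  have hψ : IsIso ψ := by
    let PU := pullback (terminal.from U) (terminal.from (pts n))
    let q : PU ⟶ pts n := pullback.snd _ _
    have hbase : IsIso (Sigma.desc (fun j => Sigma.ι (fun _ : Fin n => ⊤_ Scheme.{u}) j)) := by
      rw [show Sigma.desc (fun j => Sigma.ι (fun _ : Fin n => ⊤_ Scheme.{u}) j) = 𝟙 _ from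
        Sigma.hom_ext _ _ fun j => by simp]
      infer_instance
    have hd := FinitaryPreExtensive.isIso_sigmaDesc_fst
      (fun j => Sigma.ι (fun _ : Fin n => ⊤_ Scheme.{u}) j) q hbase
    have sq : ∀ j, IsPullback
        (pullback.lift (c j) (terminal.from _ ≫ Sigma.ι (fun _ : Fin n => ⊤_ Scheme.{u}) j)
          (Subsingleton.elim _ _) : V j ⟶ PU)
        (terminal.from (V j)) q (Sigma.ι (fun _ : Fin n => ⊤_ Scheme.{u}) j) := fun j => by
      haveI := hc j
      refine IsPullback.of_right ?_ (pullback.lift_snd _ _ _)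
        (IsPullback.of_hasPullback (terminal.from U) (terminal.from (pts n)))
      rw [pullback.lift_fst, Subsingleton.elim (Sigma.ι (fun _ : Fin n => ⊤_ Scheme.{u}) j ≫ _) (𝟙 _)]
      exact IsPullback.of_horiz_isIso ⟨Subsingleton.elim _ _⟩
    have key : e.hom ≫ ψ = Limits.Sigma.map (fun j => (sq j).isoPullback.hom) ≫
        Sigma.desc (fun j => pullback.fst q (Sigma.ι (fun _ : Fin n => ⊤_ Scheme.{u}) j)) := by
      refine Sigma.hom_ext _ _ fun j => ?_
      rw [Sigma.ι_map_assoc, Sigma.ι_desc, IsPullback.isoPullback_hom_fst]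
      apply pullback.hom_ext
      · simp only [ψ, Category.assoc, pullback.lift_fst]
        exact he j
      · simp only [ψ, ρ, Category.assoc, pullback.lift_snd, Iso.hom_inv_id_assoc]
        exact Sigma.ι_map _ j
    haveI := hd
    haveI : IsIso (Limits.Sigma.map fun j => (sq j).isoPullback.hom) := inferInstance
    haveI : IsIso (e.hom ≫ ψ) := by rw [key]; infer_instance
    exact IsIso.of_isIso_comp_left e.hom ψ
  -- transport it
  let B := pullback t f
  let m : pullback z (pullback.snd t f) ⟶ pullback z g :=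
    pullback.lift (pullback.fst _ _) (pullback.snd _ _ ≫ hl) (by rw [Category.assoc, hh]; exact pullback.condition)
  refine ⟨m ≫ ρ, ?_⟩
  let k : pullback (terminal.from B) (terminal.from (pts n)) ⟶ pullback (terminal.from U) (terminal.from (pts n)) :=
    pullback.lift (pullback.fst _ _ ≫ hl) (pullback.snd _ _) (Subsingleton.elim _ _)
  have hk : IsPullback k (pullback.fst (terminal.from B) (terminal.from (pts n)))
      (pullback.fst (terminal.from U) (terminal.from (pts n))) hl := by
    refine IsPullback.of_right ?_ (pullback.lift_fst _ _ _) (IsPullback.of_hasPullback (terminal.from U) (terminal.from (pts n))).flip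
    rw [pullback.lift_snd, Subsingleton.elim (hl ≫ terminal.from U) (terminal.from B)]
    exact (IsPullback.of_hasPullback (terminal.from B) (terminal.from (pts n))).flip
  have hm : IsPullback m (pullback.snd z (pullback.snd t f)) (pullback.snd z g) hl := by
    refine IsPullback.of_right ?_ (pullback.lift_snd _ _ _) (IsPullback.of_hasPullback z g)
    rw [pullback.lift_fst, hh]
    exact IsPullback.of_hasPullback _ _
  let a : pullback z (pullback.snd t f) ⟶ pullback (terminal.from B) (terminal.from (pts n)) :=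
    pullback.lift (pullback.snd z (pullback.snd t f)) (m ≫ ρ) (Subsingleton.elim _ _)
  have ha : IsPullback m a ψ k := by
    refine IsPullback.of_bot ?_ ?_ hk
    · simp only [a, ψ, pullback.lift_fst]; exact hm
    · apply pullback.hom_ext <;>
        simp only [a, k, ψ, Category.assoc, pullback.lift_fst, pullback.lift_snd, pullback.lift_fst_assoc]
      exact hm.w
  exact MorphismProperty.of_isPullback (P := MorphismProperty.isomorphisms Scheme.{u}) ha hψ

variable {X Y : Scheme.{u}} (f : X ⟶ Y) [IsIntegralHom f] [UniversallyInjective f] [Surjective f]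
  {Z : Scheme.{u}} (z : Z ⟶ X)

/-- Points of `Z` over a scheme over the base. -/
abbrev ZPts {T : Scheme.{u}} (s : T ⟶ Y) : Type u :=
  {a : pullback s f ⟶ Z // a ≫ z = pullback.snd s f}

omit [IsIntegralHom f] [UniversallyInjective f] [Surjective f] in
/-- Restriction of points. -/
noncomputable def res {T T' : Scheme.{u}} (k : T' ⟶ T) {s : T ⟶ Y} {s' : T' ⟶ Y} (hk : k ≫ s = s')
    (a : ZPts f z s) : ZPts f z s' :=
  ⟨pullback.lift (pullback.fst s' f ≫ k) (pullback.snd s' f) (by rw [Category.assoc, hk]; exact pullback.condition) ≫ a.1,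
    by rw [Category.assoc, a.2, pullback.lift_snd]⟩

theorem existsUnique_pts {n : ℕ} {T : Scheme.{u}} (s : T ⟶ Y) (r : pullback s f ⟶ pts n) :
    ∃! u : T ⟶ pts n, pullback.fst s f ≫ u = r := by
  haveI := etale_pts.{u} n
  haveI : UniversallyInjective (pullback.fst s f) := MorphismProperty.pullback_fst _ _ inferInstance
  haveI : IsIntegralHom (pullback.fst s f) := MorphismProperty.pullback_fst _ _ inferInstance
  haveI : Surjective (pullback.fst s f) := MorphismProperty.pullback_fst _ _ inferInstance
  obtain ⟨u, ⟨-, hu⟩, huniq⟩ := FEtLib.existsUnique_lift (terminal.from (pts.{u} n)) (terminal.from T)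
    (pullback.fst s f) r (Subsingleton.elim _ _)
  exact ⟨u, hu, fun v hv => huniq v ⟨Subsingleton.elim _ _, hv⟩⟩

variable {I : Type u} {T : I → Scheme.{u}} (t : ∀ i, T i ⟶ Y) (n : I → ℕ)
  (R : ∀ i, pullback z (pullback.snd (t i) f) ⟶ pts (n i))
  (hR : ∀ i, IsIso (pullback.lift (pullback.snd z (pullback.snd (t i) f)) (R i) (Subsingleton.elim _ _) :
        pullback z (pullback.snd (t i) f) ⟶ pullback (terminal.from (pullback (t i) f)) (terminal.from (pts (n i)))))

omit [IsIntegralHom f] [UniversallyInjective f] [Surjective f] in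
/-- The label of a point. -/
noncomputable def label {i : I} {T' : Scheme.{u}} (a : T' ⟶ T i) {s : T' ⟶ Y} (hs : a ≫ t i = s)
    (w : ZPts f z s) : pullback s f ⟶ pts (n i) :=
  pullback.lift w.1 (pullback.lift (pullback.fst s f ≫ a) (pullback.snd s f)
    (by rw [Category.assoc, hs]; exact pullback.condition)) (by rw [w.2, pullback.lift_snd]) ≫ R i

omit [IsIntegralHom f] [UniversallyInjective f] [Surjective f] in
include hR in
theorem label_bijective {i : I} {T' : Scheme.{u}} (a : T' ⟶ T i) {s : T' ⟶ Y} (hs : a ≫ t i = s) :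
    Function.Bijective (label f z t n R a hs) := by
  haveI := hR i
  let ψ : pullback z (pullback.snd (t i) f) ⟶
      pullback (terminal.from (pullback (t i) f)) (terminal.from (pts (n i))) :=
    pullback.lift (pullback.snd z (pullback.snd (t i) f)) (R i) (Subsingleton.elim _ _)
  let b : pullback s f ⟶ pullback (t i) f := pullback.lift (pullback.fst s f ≫ a) (pullback.snd s f)
    (by rw [Category.assoc, hs]; exact pullback.condition)
  refine ⟨fun w w' h => Subtype.ext ?_, fun r => ?_⟩
  · have h1 : pullback.lift w.1 b (by rw [w.2, pullback.lift_snd]) ≫ ψ =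
        pullback.lift w'.1 b (by rw [w'.2, pullback.lift_snd]) ≫ ψ := by
      apply pullback.hom_ext
      · simp only [ψ, Category.assoc, pullback.lift_fst, pullback.lift_snd]
      · simp only [ψ, Category.assoc, pullback.lift_snd]; exact h
    rw [cancel_mono] at h1
    simpa using congrArg (· ≫ pullback.fst _ _) h1
  · let q : pullback s f ⟶ pullback (terminal.from (pullback (t i) f)) (terminal.from (pts (n i))) :=
      pullback.lift b r (Subsingleton.elim _ _)
    have hq : (q ≫ inv ψ) ≫ pullback.snd _ _ = b := by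
      rw [Category.assoc, show inv ψ ≫ pullback.snd z (pullback.snd (t i) f) = pullback.fst _ _ from
        (IsIso.inv_comp_eq ψ).2 (pullback.lift_fst _ _ _).symm, pullback.lift_fst]
    have hw : ((q ≫ inv ψ) ≫ pullback.fst _ _) ≫ z = pullback.snd s f := by
      rw [Category.assoc, pullback.condition, ← Category.assoc, hq, pullback.lift_snd]
    refine ⟨⟨(q ≫ inv ψ) ≫ pullback.fst _ _, hw⟩, ?_⟩
    have he : pullback.lift ((q ≫ inv ψ) ≫ pullback.fst _ _) b (by rw [hw, pullback.lift_snd]) = q ≫ inv ψ := by
      apply pullback.hom_ext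
      · rw [pullback.lift_fst]
      · rw [pullback.lift_snd, hq]
    show pullback.lift _ b _ ≫ R i = r
    rw [he, Category.assoc, show inv ψ ≫ R i = pullback.snd _ _ from
      (IsIso.inv_comp_eq ψ).2 (pullback.lift_snd _ _ _).symm, pullback.lift_snd]

omit [IsIntegralHom f] [UniversallyInjective f] [Surjective f] in
theorem label_res {i : I} {T' T'' : Scheme.{u}} (k : T'' ⟶ T') (a : T' ⟶ T i) {s : T' ⟶ Y} (hs : a ≫ t i = s)
    (a' : T'' ⟶ T i) (ha : k ≫ a = a') {s' : T'' ⟶ Y} (hs' : a' ≫ t i = s') (hk : k ≫ s = s') (w : ZPts f z s) :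
    label f z t n R a' hs' (res f z k hk w) =
      pullback.lift (pullback.fst s' f ≫ k) (pullback.snd s' f) (by rw [Category.assoc, hk]; exact pullback.condition) ≫
        label f z t n R a hs w := by
  subst ha
  simp only [label, res]
  rw [← Category.assoc _ _ (R i)]
  congr 1
  apply pullback.hom_ext
  · simp
  · apply pullback.hom_ext <;> simp

/-- The local model of the descended cover. -/
noncomputable abbrev locObj (T : I → Scheme.{u}) (n : I → ℕ) (i : I) : Over (T i) :=
  Over.mk (pullback.fst (terminal.from (T i)) (terminal.from (pts.{u} (n i))))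

theorem existsUnique_lifts {i : I} {T' : Scheme.{u}} (a : T' ⟶ T i) {s : T' ⟶ Y} (hs : a ≫ t i = s)
    (w : ZPts f z s) : ∃! v : Desc.Lifts (locObj T n i) a,
      pullback.fst s f ≫ v.1 ≫ pullback.snd _ _ = label f z t n R a hs w := by
  obtain ⟨u, hu, huniq⟩ := existsUnique_pts f s (label f z t n R a hs w)
  refine ⟨⟨pullback.lift a u (Subsingleton.elim _ _), pullback.lift_fst _ _ _⟩, by
    show pullback.fst s f ≫ pullback.lift a u _ ≫ pullback.snd _ _ = _
    rw [pullback.lift_snd, hu], fun v hv => Subtype.ext (pullback.hom_ext ?_ ?_)⟩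
  · simp only [pullback.lift_fst]; exact v.2
  · simp only [pullback.lift_snd]; exact huniq _ hv

/-- Points of the local model are the points of `Z`. -/
noncomputable def E {i : I} {T' : Scheme.{u}} (a : T' ⟶ T i) {s : T' ⟶ Y} (hs : a ≫ t i = s) :
    ZPts f z s ≃ Desc.Lifts (locObj T n i) a :=
  Equiv.ofBijective (fun w => (existsUnique_lifts f z t n R a hs w).choose) (by
    refine ⟨fun w w' h => (label_bijective f z t n R hR a hs).1 ?_, fun v => ?_⟩
    · rw [← (existsUnique_lifts f z t n R a hs w).choose_spec.1,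
        ← (existsUnique_lifts f z t n R a hs w').choose_spec.1]
      exact congrArg (fun v => pullback.fst s f ≫ v.1 ≫ pullback.snd _ _) h
    · obtain ⟨w, hw⟩ := (label_bijective f z t n R hR a hs).2 (pullback.fst s f ≫ v.1 ≫ pullback.snd _ _)
      exact ⟨w, ((existsUnique_lifts f z t n R a hs w).choose_spec.2 v hw.symm).symm⟩)

theorem E_spec {i : I} {T' : Scheme.{u}} (a : T' ⟶ T i) {s : T' ⟶ Y} (hs : a ≫ t i = s) (w : ZPts f z s) :
    pullback.fst s f ≫ (E f z t n R hR a hs w).1 ≫ pullback.snd _ _ = label f z t n R a hs w :=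
  (existsUnique_lifts f z t n R a hs w).choose_spec.1

theorem E_natural {i : I} {T' T'' : Scheme.{u}} (k : T'' ⟶ T') (a : T' ⟶ T i) {s : T' ⟶ Y} (hs : a ≫ t i = s)
    (a' : T'' ⟶ T i) (ha : k ≫ a = a') {s' : T'' ⟶ Y} (hs' : a' ≫ t i = s') (hk : k ≫ s = s') (w : ZPts f z s) :
    (E f z t n R hR a' hs' (res f z k hk w)).1 = k ≫ (E f z t n R hR a hs w).1 := by
  refine congrArg Subtype.val (((existsUnique_lifts f z t n R a' hs' (res f z k hk w)).choose_spec.2
    ⟨k ≫ (E f z t n R hR a hs w).1, by rw [Category.assoc, (E f z t n R hR a hs w).2, ha]⟩ ?_).symm)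
  rw [label_res f z t n R k a hs a' ha hs' hk, ← E_spec f z t n R hR a hs w]
  simp

theorem E_symm_natural {i : I} {T' T'' : Scheme.{u}} (k : T'' ⟶ T') (a : T' ⟶ T i) {s : T' ⟶ Y} (hs : a ≫ t i = s)
    (a' : T'' ⟶ T i) (ha : k ≫ a = a') {s' : T'' ⟶ Y} (hs' : a' ≫ t i = s') (hk : k ≫ s = s')
    (v : Desc.Lifts (locObj T n i) a) (v' : Desc.Lifts (locObj T n i) a') (hv : v'.1 = k ≫ v.1) :
    (E f z t n R hR a' hs').symm v' = res f z k hk ((E f z t n R hR a hs).symm v) := by
  rw [Equiv.symm_apply_eq]
  refine Subtype.ext ?_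
  rw [E_natural f z t n R hR k a hs a' ha hs' hk, Equiv.apply_symm_apply]
  exact hv

/-- The descent datum. -/
noncomputable def datum : Desc.SchDDFam t where
  obj i := locObj T n i
  φ T' i j x₀ x₁ h := (E f z t n R hR x₀ rfl).symm.trans (E f z t n R hR x₁ h.symm)
  φ_natural T' T'' k i j x₀ x₁ h y₀ y₁ hy₀ hy₁ h' v v' hv := by
    have hk : k ≫ x₀ ≫ t i = y₀ ≫ t i := by rw [← hy₀, Category.assoc]
    simp only [Equiv.trans_apply]
    rw [E_symm_natural f z t n R hR k x₀ rfl y₀ hy₀ rfl hk v v' hv]
    exact E_natural f z t n R hR k x₁ h.symm y₁ hy₁ h'.symm hk _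
  φ_self T' i x v := (E f z t n R hR x rfl).apply_symm_apply v
  φ_comp T' i j k x₀ x₁ x₂ h₀₁ h₁₂ v := by
    simp only [Equiv.trans_apply]
    obtain ⟨w, rfl⟩ := (E f z t n R hR x₀ rfl).surjective v
    rw [Equiv.symm_apply_apply]
    have : ∀ {s s' : T' ⟶ Y} (hs : s = s') (p : x₁ ≫ t j = s) (p' : x₁ ≫ t j = s')
        (q : x₂ ≫ t k = s) (q' : x₂ ≫ t k = s') (w : ZPts f z s),
        E f z t n R hR x₂ q' ((E f z t n R hR x₁ p').symm (E f z t n R hR x₁ p (w))) =
          E f z t n R hR x₂ q w := by
      intro s s' hs p p' q q' w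
      subst hs
      rw [Equiv.symm_apply_apply]
    exact this h₀₁ h₀₁.symm rfl (h₀₁.trans h₁₂).symm h₁₂.symm w

variable [IsFinite z] [Etale z]

omit [IsIntegralHom f] [UniversallyInjective f] [Surjective f] [IsFinite z] [Etale z] in
/-- Morphisms glue along an fpqc family. -/
theorem existsUnique_glue_family {S : Scheme.{u}} {S' : I → Scheme.{u}} (g : ∀ i, S' i ⟶ S)
    (hg : Presieve.ofArrows S' g ∈ Scheme.fpqcPrecoverage S) (W : Scheme.{u}) (h : ∀ i, S' i ⟶ W)
    (hcomp : Presieve.Arrows.Compatible (yoneda.obj W) g h) : ∃! m : S ⟶ W, ∀ i, g i ≫ m = h i := by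
  have hs : Presieve.IsSheafFor (yoneda.obj W) (Presieve.ofArrows S' g) :=
    (GrothendieckTopology.Subcanonical.isSheaf_of_isRepresentable (J := Scheme.fpqcTopology) (yoneda.obj W)).isSheafFor _
      (Precoverage.generate_mem_toGrothendieck hg)
  exact (Presieve.isSheafFor_arrows_iff _ _).1 hs h hcomp

set_option maxHeartbeats 1600000 in
include hR in
/-- The descended cover. -/
theorem exists_descended (ht : ∀ i, Etale (t i)) (hsurj : ∀ y : Y, ∃ i, y ∈ Set.range (t i)) :
    ∃ (Q : Scheme.{u}) (q : Q ⟶ Y), IsFinite q ∧ Etale q ∧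
      ∃ θ : pullback q f ⟶ Z, IsIso θ ∧ θ ≫ z = pullback.snd q f := by
  classical
  have hfppf : Presieve.ofArrows T t ∈ Scheme.fppfPrecoverage Y := by
    rw [Scheme.fppfPrecoverage, Scheme.ofArrows_mem_precoverage_iff]
    exact ⟨fun y => hsurj y, fun i => ⟨inferInstance, inferInstance⟩⟩
  have hf' := Scheme.fppfPrecoverage_le_fpqcPrecoverage Y hfppf
  let 𝒯 : Scheme.Cover Scheme.fppfPrecoverage Y := { PreZeroHypercover.mk I T t with mem₀ := hfppf }
  have hpts : ∀ i, IsFinite (locObj T n i).hom ∧ Etale (locObj T n i).hom := fun i => by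
    haveI := isFinite_pts.{u} (n i); haveI := etale_pts.{u} (n i)
    show IsFinite (pullback.fst (terminal.from (T i)) (terminal.from (pts (n i)))) ∧ Etale (pullback.fst (terminal.from (T i)) (terminal.from (pts (n i))))
    exact ⟨inferInstance, inferInstance⟩
  obtain ⟨U, ⟨e⟩⟩ := Desc19b.isEffective_of_isQuasiAffine hf' (datum f z t n R hR) (fun i => by
    show Mor2.IsQuasiAffine (locObj T n i).hom
    obtain ⟨_, _⟩ := hpts i
    haveI := FEtDesc.locallyQuasiFinite_of_formallyUnramified (locObj T n i).hom
    exact FEtDesc.isQuasiAffine_of_lqf _)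
  let u : ∀ i, pullback (t i) U.hom ⟶ (locObj T n i).left := fun i => (e.hom.hom i).left
  have hu : ∀ i, u i ≫ (locObj T n i).hom = pullback.fst (t i) U.hom := fun i => Over.w (e.hom.hom i)
  have hui : ∀ i, IsIso (u i) := fun i =>
    ⟨(e.inv.hom i).left, congrArg (fun k => (Desc.SchDDFam.Hom.hom k i).left) e.hom_inv_id,
      congrArg (fun k => (Desc.SchDDFam.Hom.hom k i).left) e.inv_hom_id⟩
  -- `U` is finite étale
  have hfinet : ∀ (P : MorphismProperty Scheme.{u}) [P.IsLocalAtTarget Scheme.fppfPrecoverage] [P.RespectsIso],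
      (∀ i, P (locObj T n i).hom) → P U.hom := by
    intro P _ _ hP
    refine (MorphismProperty.IsLocalAtTarget.iff_of_zeroHypercover (P := P) 𝒯).2 fun i => ?_
    show P (pullback.snd U.hom (t i))
    rw [← pullbackSymmetry_hom_comp_fst, ← hu i]
    haveI := hui i
    exact (MorphismProperty.cancel_left_of_respectsIso P _ _).2
      ((MorphismProperty.cancel_left_of_respectsIso P _ _).2 (hP i))
  have hUet : Etale U.hom := hfinet @Etale fun i => (hpts i).2
  have hUfin : IsFinite U.hom := by
    haveI := AlgSpLib.isLocalAtTarget_etale.{u}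
    refine Desc19b.of_fpqcCover @IsFinite ?_ U.hom { PreZeroHypercover.mk I T t with mem₀ := hf' } fun i => ?_
    · exact Et18.descends_isFinite
    · show IsFinite (pullback.snd U.hom (t i))
      rw [← pullbackSymmetry_hom_comp_fst, ← hu i]
      haveI := hui i
      haveI := (hpts i).1
      infer_instance
  -- the points of `Z` on the pieces
  let Q := pullback U.hom f
  let s : ∀ i, pullback (t i) U.hom ⟶ Y := fun i => pullback.fst (t i) U.hom ≫ t i
  let w : ∀ i, ZPts f z (s i) := fun i =>
    (E f z t n R hR (pullback.fst (t i) U.hom) rfl).symm ⟨u i, hu i⟩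
  let π : ∀ i, pullback (s i) f ⟶ Q := fun i =>
    pullback.lift (pullback.fst (s i) f ≫ pullback.snd (t i) U.hom) (pullback.snd (s i) f)
      (by rw [Category.assoc, ← pullback.condition (f := t i)]; exact pullback.condition)
  -- `π i` is the base change of the cover of `X`
  let bB : ∀ i, pullback (s i) f ⟶ pullback (t i) f := fun i =>
    pullback.lift (pullback.fst (s i) f ≫ pullback.fst (t i) U.hom) (pullback.snd (s i) f)
      (by rw [Category.assoc]; exact pullback.condition)
  have hπB : ∀ i, IsPullback (π i) (bB i) (pullback.snd U.hom f) (pullback.snd (t i) f) := fun i => by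
    refine ⟨⟨by simp [π, bB]⟩, ⟨PullbackCone.IsLimit.mk _ (fun c => pullback.lift
      (pullback.lift (c.snd ≫ pullback.fst (t i) f) (c.fst ≫ pullback.fst U.hom f) (by
        rw [Category.assoc, Category.assoc, pullback.condition, pullback.condition, reassoc_of% c.condition]))
      (c.fst ≫ pullback.snd U.hom f) (by
        simp only [s]
        rw [pullback.lift_fst_assoc, Category.assoc, pullback.condition, Category.assoc, reassoc_of% c.condition]))
      (fun c => ?_) (fun c => ?_) (fun c m h₁ h₂ => ?_)⟩⟩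
    · apply pullback.hom_ext <;> simp [π]
    · apply pullback.hom_ext <;> simp [bB, c.condition]
    · apply pullback.hom_ext
      · apply pullback.hom_ext
        · simp [← h₂, bB]
        · simp [← h₁, π]
      · simp [← h₁, π]
  -- the pieces form a covering
  have hπmem : Presieve.ofArrows (fun i => pullback (s i) f) π ∈ Scheme.fpqcPrecoverage Q := by
    have h1 := Desc19b.snd_family_mem hf' U
    refine Precoverage.mem_coverings_of_isPullback _ h1 (pullback.fst U.hom f) _
      (fun i => pullback.fst (s i) f) fun i => ?_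
    refine IsPullback.of_right ?_ (pullback.lift_fst _ _ _) (IsPullback.of_hasPullback U.hom f).flip
    rw [pullback.lift_snd, ← pullback.condition]
    exact (IsPullback.of_hasPullback (s i) f).flip
  have hcomp : Presieve.Arrows.Compatible (yoneda.obj Z) π (fun i => (w i).1) := by
    intro i j W g₁ g₂ hg
    show g₁ ≫ (w i).1 = g₂ ≫ (w j).1
    let k₁ := g₁ ≫ pullback.fst (s i) f
    let k₂ := g₂ ≫ pullback.fst (s j) f
    have e1 : k₁ ≫ pullback.snd (t i) U.hom = k₂ ≫ pullback.snd (t j) U.hom := by
      simpa [π, k₁, k₂] using congrArg (· ≫ pullback.fst U.hom f) hg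
    have e2 : g₁ ≫ pullback.snd (s i) f = g₂ ≫ pullback.snd (s j) f := by
      simpa [π] using congrArg (· ≫ pullback.snd U.hom f) hg
    let a₁ := k₁ ≫ pullback.fst (t i) U.hom
    let a₂ := k₂ ≫ pullback.fst (t j) U.hom
    have ht12 : a₁ ≫ t i = a₂ ≫ t j := by
      simp only [a₁, a₂, Category.assoc, pullback.condition]
      rw [reassoc_of% e1]
    have hs1 : k₁ ≫ s i = a₁ ≫ t i := (Category.assoc _ _ _).symm
    have hs2 : k₂ ≫ s j = a₁ ≫ t i := (Category.assoc _ _ _).symm.trans ht12.symm
    have hres : res f z k₁ hs1 (w i) = res f z k₂ hs2 (w j) := by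
      let v₁ : Desc.Lifts ((Desc.canonicalDDFam t U).obj i) a₁ := ⟨k₁, rfl⟩
      have hc := e.hom.comm a₁ a₂ ht12 v₁ ⟨k₁ ≫ u i, (Category.assoc _ _ _).trans (congrArg (k₁ ≫ ·) (hu i))⟩ rfl
      have h2 : ((Desc.canonicalDDFam t U).φ a₁ a₂ ht12 v₁).1 = k₂ := by
        refine pullback.hom_ext ?_ ?_
        · simp [Desc.canonicalDDFam, a₂]
        · simp only [Desc.canonicalDDFam, Equiv.coe_fn_mk, Desc.canMapFam_val]
          erw [pullback.lift_snd]
          exact e1
      have h3 : ((Desc.toDDFam t).obj U).φ a₁ a₂ ht12 v₁ = (Desc.canonicalDDFam t U).φ a₁ a₂ ht12 v₁ := rfl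
      rw [h3, h2] at hc
      have w1 : res f z k₁ hs1 (w i) = (E f z t n R hR a₁ rfl).symm ⟨k₁ ≫ u i, (Category.assoc _ _ _).trans (congrArg (k₁ ≫ ·) (hu i))⟩ :=
        (E_symm_natural f z t n R hR k₁ (pullback.fst (t i) U.hom) rfl a₁ rfl rfl hs1 ⟨u i, hu i⟩ _ rfl).symm
      have w2 : res f z k₂ hs2 (w j) = (E f z t n R hR a₂ ht12.symm).symm ⟨k₂ ≫ u j, (Category.assoc _ _ _).trans (congrArg (k₂ ≫ ·) (hu j))⟩ :=
        (E_symm_natural f z t n R hR k₂ (pullback.fst (t j) U.hom) rfl a₂ rfl ht12.symm hs2 ⟨u j, hu j⟩ _ rfl).symm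
      rw [w1, w2, Equiv.eq_symm_apply]
      exact Subtype.ext hc
    let σ : W ⟶ pullback (a₁ ≫ t i) f := pullback.lift (𝟙 W) (g₁ ≫ pullback.snd (s i) f) (by
      rw [Category.id_comp, ← hs1, Category.assoc, Category.assoc, pullback.condition])
    have h4 := congrArg (fun r => σ ≫ r.1) hres
    simp only [res, ← Category.assoc] at h4
    have l1 : σ ≫ pullback.lift (pullback.fst (a₁ ≫ t i) f ≫ k₁) (pullback.snd (a₁ ≫ t i) f)
        ((Category.assoc _ _ _).trans ((congrArg (_ ≫ ·) hs1).trans pullback.condition)) = g₁ := by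
      apply pullback.hom_ext
      · rw [Category.assoc, pullback.lift_fst, pullback.lift_fst_assoc]; exact Category.id_comp _
      · rw [Category.assoc, pullback.lift_snd, pullback.lift_snd]
    have l2 : σ ≫ pullback.lift (pullback.fst (a₁ ≫ t i) f ≫ k₂) (pullback.snd (a₁ ≫ t i) f)
        ((Category.assoc _ _ _).trans ((congrArg (_ ≫ ·) hs2).trans pullback.condition)) = g₂ := by
      apply pullback.hom_ext
      · rw [Category.assoc, pullback.lift_fst, pullback.lift_fst_assoc]; exact Category.id_comp _
      · rw [Category.assoc, pullback.lift_snd, pullback.lift_snd]; exact e2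
    rwa [l1, l2] at h4
  obtain ⟨θ, hθ, -⟩ := existsUnique_glue_family π hπmem Z (fun i => (w i).1) hcomp
  have hθz : θ ≫ z = pullback.snd U.hom f := by
    obtain ⟨m, -, huniq⟩ := existsUnique_glue_family π hπmem X (fun i => π i ≫ pullback.snd U.hom f)
      fun i j W g₁ g₂ hg => by
        show g₁ ≫ π i ≫ pullback.snd U.hom f = g₂ ≫ π j ≫ pullback.snd U.hom f
        rw [reassoc_of% hg]
    refine (huniq _ fun i => ?_).trans (huniq _ fun i => rfl).symm
    rw [← Category.assoc, hθ i, (w i).2]
    exact (pullback.lift_snd _ _ _).symm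
  -- `θ` is invertible on the pieces
  let Zi := fun i => pullback z (pullback.snd (t i) f)
  let m : ∀ i, pullback (s i) f ⟶ Zi i := fun i =>
    pullback.lift (w i).1 (bB i) (by rw [(w i).2, pullback.lift_snd])
  have hm : ∀ i, IsPullback (π i) (m i) θ (pullback.fst z (pullback.snd (t i) f)) := fun i => by
    refine IsPullback.of_bot ?_ (by rw [hθ i, pullback.lift_fst]) (IsPullback.of_hasPullback z (pullback.snd (t i) f))
    rw [pullback.lift_snd, hθz]
    exact hπB i
  have hmiso : ∀ i, IsIso (m i) := fun i => by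
    haveI := hR i
    haveI := hui i
    let ψ : Zi i ⟶ pullback (terminal.from (pullback (t i) f)) (terminal.from (pts (n i))) :=
      pullback.lift (pullback.snd z (pullback.snd (t i) f)) (R i) (Subsingleton.elim _ _)
    have hbB : IsPullback (pullback.fst (s i) f) (bB i) (pullback.fst (t i) U.hom) (pullback.fst (t i) f) := by
      refine (IsPullback.of_right ?_ (pullback.lift_fst _ _ _) (IsPullback.of_hasPullback (t i) f).flip).flip
      rw [pullback.lift_snd]
      exact (IsPullback.of_hasPullback (s i) f).flip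
    let k : pullback (terminal.from (pullback (t i) f)) (terminal.from (pts (n i))) ⟶ (locObj T n i).left :=
      pullback.lift (pullback.fst _ _ ≫ pullback.fst (t i) f) (pullback.snd _ _) (Subsingleton.elim _ _)
    have hk : IsPullback k (pullback.fst (terminal.from (pullback (t i) f)) (terminal.from (pts (n i))))
        (locObj T n i).hom (pullback.fst (t i) f) := by
      refine IsPullback.of_right ?_ (pullback.lift_fst _ _ _)
        (IsPullback.of_hasPullback (terminal.from (T i)) (terminal.from (pts (n i)))).flip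
      rw [pullback.lift_snd, Subsingleton.elim (pullback.fst (t i) f ≫ terminal.from (T i)) (terminal.from _)]
      exact (IsPullback.of_hasPullback (terminal.from (pullback (t i) f)) (terminal.from (pts (n i)))).flip
    have hsq : IsPullback (pullback.fst (s i) f) (m i ≫ ψ) (u i) k := by
      refine IsPullback.of_bot ?_ ?_ hk
      · rw [hu i, show (m i ≫ ψ) ≫ pullback.fst _ _ = bB i by simp [m, ψ]]
        exact hbB
      · apply pullback.hom_ext
        · simp only [Category.assoc, k, ψ, pullback.lift_fst]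
          rw [show u i ≫ pullback.fst (terminal.from (T i)) (terminal.from (pts (n i))) = pullback.fst (t i) U.hom from hu i]
          simp [m, bB]
        · have hE := E_spec f z t n R hR (pullback.fst (t i) U.hom) rfl (w i)
          simp only [w, Equiv.apply_symm_apply] at hE
          simp only [Category.assoc, k, ψ, pullback.lift_snd]
          exact hE
    haveI : IsIso (m i ≫ ψ) := MorphismProperty.of_isPullback (P := MorphismProperty.isomorphisms Scheme.{u}) hsq (hui i)
    exact IsIso.of_isIso_comp_right (m i) ψ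
  have hcovZ : Presieve.ofArrows Zi (fun i => pullback.fst z (pullback.snd (t i) f)) ∈ Scheme.fpqcPrecoverage Z := by
    refine Precoverage.mem_coverings_of_isPullback _ ?_ z _ (fun i => pullback.snd z (pullback.snd (t i) f))
      fun i => IsPullback.of_hasPullback _ _
    exact Precoverage.mem_coverings_of_isPullback _ hf' f _ (fun i => pullback.fst (t i) f)
      fun i => (IsPullback.of_hasPullback (t i) f).flip
  have hθiso : IsIso θ := by
    refine Desc19b.of_fpqcCover (MorphismProperty.isomorphisms Scheme.{u}) inferInstance θ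
      { PreZeroHypercover.mk I Zi (fun i => pullback.fst z (pullback.snd (t i) f)) with mem₀ := hcovZ } fun i => ?_
    show IsIso (pullback.snd θ (pullback.fst z (pullback.snd (t i) f)))
    haveI := hmiso i
    rw [← (hm i).isoPullback_inv_snd]
    infer_instance
  exact ⟨U.left, U.hom, hUfin, hUet, θ, hθiso, hθz⟩

omit [IsFinite z] [Etale z] in
/-- Base change along a universal homeomorphism is essentially surjective on finite étale covers. -/
theorem restrict_essSurj : (FEt.restrict f).EssSurj := by
  refine ⟨fun W => ?_⟩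
  haveI : IsFinite W.hom := W.prop.1
  haveI : Etale W.hom := W.prop.2
  choose T t ht hx n R hR using fun x : X => exists_local_data f W.hom x
  obtain ⟨Q, q, hqf, hqe, θ, hθ, hθz⟩ := exists_descended f W.hom t n R hR ht
    fun y => (f.surjective y).elim fun x hxy => ⟨x, hxy ▸ hx x⟩
  exact ⟨MorphismProperty.Over.mk ⊤ q ⟨hqf, hqe⟩, ⟨MorphismProperty.Over.isoMk (asIso θ) hθz⟩⟩

end Groth.Agent.FEtFF.UnivHomeo
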