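import Groth.Prelude.Def_CAlg2
import Mathlib.RingTheory.IntegralClosure.IntegrallyClosed

/-!
# Normal local domains are geometrically unibranch
-/

set_option autoImplicit false
set_option linter.style.haveILetI false
universe u

namespace Groth.Agent.FEtFF

theorem isGeomUnibranch_of_normal (A : Type u) [CommRing A] [IsLocalRing A] [IsDomain A] [IsIntegrallyClosed A] :
    CAlg2.IsGeomUnibranch A := by
  have hnil : nilradical A = ⊥ := nilradical_eq_zero A
  let e : CAlg2.red A ≃+* A := (Ideal.quotEquivOfEq hnil).trans (RingEquiv.quotientBot A)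
  haveI : IsDomain (CAlg2.red A) := e.injective.isDomain e.toRingHom
  haveI : IsIntegrallyClosed (CAlg2.red A) := IsIntegrallyClosed.of_equiv e.symm
  have hs : Function.Surjective (algebraMap (CAlg2.red A) (CAlg2.normRed A)) := fun ⟨z, hz⟩ => by
    obtain ⟨a, ha⟩ := IsIntegrallyClosed.isIntegral_iff.mp hz
    exact ⟨a, Subtype.ext ha⟩
  refine ⟨⟨inferInstance, ?_⟩, fun m' _ x => ⟨0, ?_⟩⟩
  · haveI : IsLocalRing (CAlg2.red A) := IsLocalRing.of_surjective' e.symm.toRingHom e.symm.surjective
    haveI : Nontrivial (CAlg2.normRed A) := inferInstance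
    exact IsLocalRing.of_surjective' _ hs
  · obtain ⟨z, rfl⟩ := Ideal.Quotient.mk_surjective x
    obtain ⟨a, rfl⟩ := hs z
    obtain ⟨b, rfl⟩ := Ideal.Quotient.mk_surjective a
    exact ⟨b, by simp⟩

end Groth.Agent.FEtFF
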