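import Groth.Prelude.Def_CAlg
import Groth.Prelude.Def_FEt
import Groth.Agent.CAlgH3.Depth
import Mathlib.AlgebraicGeometry.Morphisms.QuasiSeparated
import Mathlib.AlgebraicGeometry.Noetherian

/-!
# Sections extend across loci of depth at least two
-/

set_option autoImplicit false
set_option linter.style.haveILetI false
set_option linter.unusedSectionVars false
universe u v

namespace Groth.Agent.FEtFF.Hartogs
open IsLocalRing
open scoped Pointwise

theorem eq_zero_of_smul {R : Type u} [CommRing R] [IsLocalRing R] [IsNoetherianRing R] {M : Type u}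
    [AddCommGroup M] [Module R M] [Module.Finite R M] (h : 1 ≤ _root_.LocCoh.depth R M) (J : Ideal R)
    (hJ : ∀ q : Ideal R, q.IsPrime → J ≤ q → q = maximalIdeal R) (x : M) (hx : ∀ r ∈ J, r • x = 0) : x = 0 := by
  by_contra hne
  haveI : Nontrivial M := ⟨⟨x, 0, hne⟩⟩
  obtain ⟨P, hP, hle⟩ := exists_le_isAssociatedPrime_of_isNoetherianRing R x hne
  have hJP : J ≤ P := fun r hr => hle (Submodule.mem_colon_singleton.mpr (by simp [hx r hr]))
  exact CAlgH3.one_le_depth_iff.mp h (hJ P hP.isPrime hJP ▸ hP)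

theorem exists_regular_and_divides {R : Type u} [CommRing R] [IsLocalRing R] [IsNoetherianRing R]
    (h : 2 ≤ _root_.LocCoh.depth R R) (J : Ideal R)
    (hJ : ∀ q : Ideal R, q.IsPrime → J ≤ q → q = maximalIdeal R) (hJm : J ≤ maximalIdeal R) :
    ∃ r ∈ J, IsSMulRegular R r ∧ ∀ a, (∀ j ∈ J, r ∣ j * a) → r ∣ a := by
  have h1 : maximalIdeal R ∉ associatedPrimes R R := CAlgH3.one_le_depth_iff.mp (le_trans (by norm_num) h)
  obtain ⟨r, hr, hrn⟩ : ∃ r ∈ J, r ∉ ⋃ p ∈ associatedPrimes R R, (p : Set R) := by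
    by_contra hc
    push_neg at hc
    have hle : (J : Set R) ⊆ ⋃ p ∈ ((associatedPrimes.finite R R).toFinset : Set (Ideal R)), id p := by
      intro x hx
      rw [Set.Finite.coe_toFinset]
      exact hc x hx
    obtain ⟨p, hp, hle'⟩ := (Ideal.subset_union_prime ⊥ ⊥ (fun p hp _ _ =>
      IsAssociatedPrime.isPrime ((associatedPrimes.finite R R).mem_toFinset.1 hp))).1 hle
    rw [Set.Finite.mem_toFinset] at hp
    exact h1 (hJ p hp.isPrime hle' ▸ hp)
  have hreg : IsSMulRegular R r := by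
    rw [isSMulRegular_iff_right_eq_zero_of_smul]
    intro m hm
    by_contra hm0
    rw [biUnion_associatedPrimes_eq_zero_divisors] at hrn
    exact hrn ⟨m, hm0, hm⟩
  refine ⟨r, hr, hreg, fun a ha => ?_⟩
  have hd : 1 ≤ _root_.LocCoh.depth R (QuotSMulTop r R) := by
    have := CAlgH3.depth_quotSMulTop_add_one (M := R) (hJm hr) hreg
    rw [← this] at h
    exact (CAlgH3.natCast_add_one_le_iff (n := 1)).mp (by exact_mod_cast h)
  have hmem : ∀ b, b ∈ (r • (⊤ : Submodule R R)) ↔ r ∣ b := fun b => by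
    rw [Submodule.mem_smul_pointwise_iff_exists]
    exact ⟨fun ⟨c, _, hc⟩ => ⟨c, hc.symm⟩, fun ⟨c, hc⟩ => ⟨c, trivial, hc.symm⟩⟩
  have := eq_zero_of_smul hd J hJ (Submodule.Quotient.mk a) fun j hj => by
    rw [← Submodule.Quotient.mk_smul, Submodule.Quotient.mk_eq_zero, hmem]
    exact ha j hj
  rwa [Submodule.Quotient.mk_eq_zero, hmem] at this

variable {R : Type u} [CommRing R] [IsNoetherianRing R]

theorem eq_maximal_of_minimal {J p : Ideal R} [p.IsPrime] (hp : p ∈ J.minimalPrimes)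
    (q : Ideal (Localization.AtPrime p)) (hq : q.IsPrime) (hJq : J.map (algebraMap R _) ≤ q) :
    q = maximalIdeal (Localization.AtPrime p) := by
  have h1 : q.comap (algebraMap R _) ≤ p := by
    have := Ideal.comap_mono (f := algebraMap R (Localization.AtPrime p)) (IsLocalRing.le_maximalIdeal hq.ne_top)
    exact this.trans (IsLocalization.AtPrime.under_maximalIdeal (Localization.AtPrime p) p).le
  have h2 : q.comap (algebraMap R _) = p :=
    le_antisymm h1 (hp.2 ⟨hq.comap _, Ideal.map_le_iff_le_comap.mp hJq⟩ h1)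
  rw [← IsLocalization.map_under p.primeCompl (Localization.AtPrime p) q, Ideal.under_def, h2,
    Localization.AtPrime.map_eq_maximalIdeal]

theorem eq_zero_of_forall_exists (Z : Set (Ideal R))
    (hdep : ∀ (p : Ideal R) [p.IsPrime], p ∈ Z → 1 ≤ _root_.LocCoh.depth (Localization.AtPrime p) (Localization.AtPrime p))
    (s : R) (hs : ∀ p : Ideal R, p.IsPrime → p ∉ Z → ∃ r ∉ p, r * s = 0) : s = 0 := by
  let J : Ideal R := (⊥ : Ideal R).colon {s}
  have hJmem : ∀ r, r ∈ J ↔ r * s = 0 := fun r => by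
    rw [Submodule.mem_colon_singleton, Submodule.mem_bot, smul_eq_mul]
  by_contra hne
  have hJ : J ≠ ⊤ := fun h => hne (by simpa using (hJmem 1).mp (h ▸ Submodule.mem_top))
  obtain ⟨m, hm, hle⟩ := Ideal.exists_le_maximal J hJ
  obtain ⟨p, hp, -⟩ := Ideal.exists_minimalPrimes_le (J := m) hle
  haveI := hp.1.1
  have hpZ : p ∈ Z := by
    by_contra hn
    obtain ⟨r, hr, hrs⟩ := hs p hp.1.1 hn
    exact hr (hp.1.2 ((hJmem r).mpr hrs))
  have := eq_zero_of_smul (hdep p hpZ) (J.map (algebraMap R _)) (eq_maximal_of_minimal hp) (algebraMap R _ s) (by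
    intro r hr
    induction hr using Submodule.span_induction with
    | mem x hx =>
      obtain ⟨j, hj, rfl⟩ := hx
      rw [smul_eq_mul, ← map_mul, (hJmem j).mp hj, map_zero]
    | zero => rw [zero_smul]
    | add x y _ _ hx hy => rw [add_smul, hx, hy, add_zero]
    | smul a x _ hx => rw [smul_assoc, hx, smul_zero])
  obtain ⟨⟨t, ht⟩, hts⟩ := (IsLocalization.map_eq_zero_iff p.primeCompl _ s).mp this
  exact ht (hp.1.2 ((hJmem t).mpr hts))

/-- Algebraic form of the extension of sections. -/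
theorem bijective_of_local {S : Type v} [CommRing S] (φ : R →+* S) (Z : Set (Ideal R))
    (hdep : ∀ (p : Ideal R) [p.IsPrime], p ∈ Z → 2 ≤ _root_.LocCoh.depth (Localization.AtPrime p) (Localization.AtPrime p))
    (hloc : ∀ σ : S, ∀ p : Ideal R, p.IsPrime → p ∉ Z → ∃ r ∉ p, φ r * σ ∈ φ.range)
    (hker : ∀ s, φ s = 0 → ∀ p : Ideal R, p.IsPrime → p ∉ Z → ∃ r ∉ p, r * s = 0)
    (hsep : ∀ τ : S, (∀ p : Ideal R, p.IsPrime → p ∉ Z → ∃ r ∉ p, φ r * τ = 0) → τ = 0) :
    Function.Bijective φ := by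
  have hinj : Function.Injective φ := (injective_iff_map_eq_zero φ).mpr fun s hs =>
    eq_zero_of_forall_exists Z (fun p _ hp => le_trans (by norm_num) (hdep p hp)) s (hker s hs)
  refine ⟨hinj, fun σ => ?_⟩
  let J : Ideal R :=
    { carrier := {r | φ r * σ ∈ φ.range}
      zero_mem' := by show φ 0 * σ ∈ φ.range; rw [map_zero, zero_mul]; exact zero_mem _
      add_mem' := fun {a b} ha hb => by show φ (a + b) * σ ∈ φ.range; rw [map_add, add_mul]; exact add_mem ha hb
      smul_mem' := fun c a ha => by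
        show φ (c * a) * σ ∈ φ.range
        rw [map_mul, mul_assoc]; exact mul_mem ⟨c, rfl⟩ ha }
  by_contra hne
  have hJ : J ≠ ⊤ := fun h => hne (by
    have h1 : φ 1 * σ ∈ φ.range := (h ▸ Submodule.mem_top : (1 : R) ∈ J)
    rwa [map_one, one_mul] at h1)
  obtain ⟨m, hm, hle⟩ := Ideal.exists_le_maximal J hJ
  obtain ⟨p, hp, -⟩ := Ideal.exists_minimalPrimes_le (J := m) hle
  haveI := hp.1.1
  have hpZ : p ∈ Z := by
    by_contra hn
    obtain ⟨r, hr, hrs⟩ := hloc σ p hp.1.1 hn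
    exact hr (hp.1.2 hrs)
  let L := Localization.AtPrime p
  have hJm : J.map (algebraMap R L) ≤ maximalIdeal L := by
    rw [← Localization.AtPrime.map_eq_maximalIdeal]; exact Ideal.map_mono hp.1.2
  obtain ⟨x, hx, hxreg, hxdiv⟩ := exists_regular_and_divides (hdep p hpZ) _ (eq_maximal_of_minimal hp) hJm
  obtain ⟨⟨⟨r₀, hr₀⟩, s⟩, hrs⟩ := (IsLocalization.mem_map_algebraMap_iff p.primeCompl L).mp hx
  have hsu : IsUnit (algebraMap R L s) := IsLocalization.map_units L s
  dsimp only at hrs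
  have hdvd : ∀ b, x ∣ b ↔ algebraMap R L r₀ ∣ b := fun b => by rw [← hrs, hsu.mul_right_dvd]
  have hreg : ∀ b, algebraMap R L (r₀ * b) = 0 → ∃ u ∉ p, u * b = 0 := fun b hb => by
    rw [map_mul, ← hrs, mul_assoc] at hb
    have h2 := hxreg.right_eq_zero_of_smul (by rw [smul_eq_mul]; exact hb)
    rw [hsu.mul_right_eq_zero] at h2
    obtain ⟨⟨u, hu⟩, hub⟩ := (IsLocalization.map_eq_zero_iff p.primeCompl _ b).mp h2
    exact ⟨u, hu, hub⟩
  obtain ⟨a₀, ha₀⟩ := hr₀
  have hcomm : ∀ r a, φ a = φ r * σ → r * a₀ = r₀ * a := fun r a ha =>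
    hinj (by rw [map_mul, map_mul, ha, ha₀]; ring)
  have hd : algebraMap R L r₀ ∣ algebraMap R L a₀ := by
    rw [← hdvd]
    refine hxdiv _ fun j hj => ?_
    rw [hdvd]
    induction hj using Submodule.span_induction with
    | mem y hy =>
      obtain ⟨r, ⟨a, ha⟩, rfl⟩ := hy
      exact ⟨algebraMap R L a, by rw [← map_mul, ← map_mul, hcomm r a ha]⟩
    | zero => rw [zero_mul]; exact dvd_zero _
    | add y z _ _ hy hz => rw [add_mul]; exact dvd_add hy hz
    | smul c y _ hy => rw [smul_eq_mul, mul_assoc]; exact hy.mul_left c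
  obtain ⟨c, hc⟩ := hd
  obtain ⟨⟨a', t⟩, hc'⟩ := IsLocalization.surj p.primeCompl c
  have h3 : algebraMap R L (a₀ * t) = algebraMap R L (r₀ * a') := by
    rw [map_mul, map_mul, hc, mul_assoc, hc']
  obtain ⟨⟨u', hu'⟩, h4⟩ := (IsLocalization.eq_iff_exists p.primeCompl _).mp h3
  obtain ⟨T, hT, A, hA⟩ : ∃ T ∉ p, ∃ A, T * a₀ = r₀ * A :=
    ⟨u' * t, fun h => (hp.1.1.mem_or_mem h).elim hu' t.2, u' * a', by linear_combination h4⟩
  set τ := φ T * σ - φ A with hτ
  let K : Ideal R :=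
    { carrier := {r | ∃ u ∉ p, φ u * φ r * τ = 0}
      zero_mem' := ⟨1, fun h => hp.1.1.ne_top ((Ideal.eq_top_iff_one _).mpr h), by simp⟩
      add_mem' := fun {a b} ⟨u, hu, hua⟩ ⟨w, hw, hwb⟩ =>
        ⟨u * w, fun h => (hp.1.1.mem_or_mem h).elim hu hw, by
          rw [map_mul, map_add]; linear_combination (φ w) * hua + (φ u) * hwb⟩
      smul_mem' := fun c a ⟨u, hu, hua⟩ => ⟨u, hu, by rw [smul_eq_mul, map_mul]; linear_combination (φ c) * hua⟩ }
  have hK : J ≤ K := fun r ⟨a, ha⟩ => by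
    obtain ⟨u, hu, hub⟩ := hreg (T * a - r * A) (by
      have e : r₀ * (T * a - r * A) = 0 := by linear_combination (-T) * hcomm r a ha + r * hA
      rw [e, map_zero])
    refine ⟨u, hu, ?_⟩
    have := congrArg φ hub
    rw [map_mul, map_sub, map_mul, map_mul, map_zero, ha] at this
    rw [hτ]; linear_combination this
  obtain ⟨S₀, hS₀⟩ := IsNoetherian.noetherian J
  have hfin : ∀ F : Finset R, (∀ r ∈ F, r ∈ K) → ∃ u ∉ p, ∀ r ∈ F, φ u * φ r * τ = 0 := by
    classical
    intro F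
    induction F using Finset.induction with
    | empty => exact fun _ => ⟨1, fun h => hp.1.1.ne_top ((Ideal.eq_top_iff_one _).mpr h), by simp⟩
    | @insert r F _ ih =>
      intro hF
      obtain ⟨u, hu, hu'⟩ := ih fun r hr => hF r (Finset.mem_insert_of_mem hr)
      obtain ⟨w, hw, hw'⟩ := hF r (Finset.mem_insert_self _ _)
      refine ⟨u * w, fun h => (hp.1.1.mem_or_mem h).elim hu hw, fun r' hr' => ?_⟩
      rw [map_mul]
      rcases Finset.mem_insert.mp hr' with rfl | hr'
      · linear_combination (φ u) * hw'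
      · linear_combination (φ w) * hu' r' hr'
  obtain ⟨u, hu, huS⟩ := hfin S₀ fun r hr => hK (hS₀ ▸ Submodule.subset_span hr)
  have hall : ∀ r ∈ J, φ r * (φ u * τ) = 0 := fun r hr => by
    rw [← hS₀] at hr
    induction hr using Submodule.span_induction with
    | mem y hy => linear_combination huS y hy
    | zero => rw [map_zero, zero_mul]
    | add y z _ _ hy hz => rw [map_add, add_mul, hy, hz, add_zero]
    | smul c y _ hy => rw [smul_eq_mul, map_mul, mul_assoc, hy, mul_zero]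
  have h0 : φ u * τ = 0 := hsep _ fun q hq hqZ => by
    obtain ⟨r, hr, hr'⟩ := hloc σ q hq hqZ
    exact ⟨r, hr, hall r hr'⟩
  refine (fun h : u * T ∈ J => (hp.1.1.mem_or_mem (hp.1.2 h)).elim hu hT) ⟨u * A, ?_⟩
  rw [map_mul, map_mul]
  rw [hτ] at h0
  linear_combination -h0

open AlgebraicGeometry CategoryTheory TopologicalSpace Opposite

/-- Sections over an affine open extend across points of depth at least two. -/
theorem bijective_restrict {X : Scheme.{u}} [IsLocallyNoetherian X] (U : X.Opens)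
    (h : ∀ x : X, x ∉ U → (2 : ℕ∞) ≤ _root_.LocCoh.depth (X.presheaf.stalk x) (X.presheaf.stalk x))
    {V : X.Opens} (hV : IsAffineOpen V) {W : X.Opens} (hW : W = V ⊓ U) (hle : W ≤ V) :
    Function.Bijective (X.presheaf.map (homOfLE hle).op) := by
  haveI : IsNoetherianRing Γ(X, V) := IsLocallyNoetherian.component_noetherian ⟨V, hV⟩
  let pt : ∀ (p : Ideal Γ(X, V)), p.IsPrime → X := fun p hp => hV.fromSpec ⟨p, hp⟩
  have hptV : ∀ p hp, pt p hp ∈ V := fun p hp => by
    rw [← SetLike.mem_coe, ← hV.range_fromSpec]; exact ⟨_, rfl⟩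
  have hbas : ∀ (p : Ideal Γ(X, V)) (hp : p.IsPrime) (f : Γ(X, V)), pt p hp ∈ X.basicOpen f ↔ f ∉ p := fun p hp f => by
    show (⟨p, hp⟩ : PrimeSpectrum Γ(X, V)) ∈ hV.fromSpec ⁻¹ᵁ X.basicOpen f ↔ _
    rw [hV.fromSpec_preimage_basicOpen]
    exact Iff.rfl
  have hWc : IsCompact (W : Set X) := by
    haveI : CompactSpace V.toScheme := isCompact_iff_compactSpace.mp hV.isCompact
    haveI : AlgebraicGeometry.IsNoetherian V.toScheme := ⟨⟩
    have hin : Topology.IsInducing (V.ι : V.toScheme → X) := Topology.IsInducing.subtypeVal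
    have : (W : Set X) = V.ι '' (V.ι ⁻¹' (W : Set X)) := by
      rw [Set.image_preimage_eq_inter_range, Scheme.Opens.range_ι, Set.inter_eq_left.mpr hle]
    rw [this]
    exact (NoetherianSpace.isCompact _).image hin.continuous
  set φ := (X.presheaf.map (homOfLE hle).op).hom with hφ
  have hres : ∀ (f : Γ(X, V)), X.basicOpen (φ f) = W ⊓ X.basicOpen f := fun f =>
    Scheme.basicOpen_res X f (homOfLE hle).op
  refine bijective_of_local φ {p | ∃ hp : p.IsPrime, pt p hp ∉ U} ?_ ?_ ?_ ?_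
  · rintro p _ ⟨hp, hx⟩
    have h1 := hV.isLocalization_stalk' ⟨p, hp⟩ (hptV p hp)
    letI := TopCat.Presheaf.algebra_section_stalk X.presheaf (⟨pt p hp, hptV p hp⟩ : V)
    haveI : IsLocalization.AtPrime (X.presheaf.stalk (pt p hp)) p := h1
    let e := IsLocalization.algEquiv p.primeCompl (X.presheaf.stalk (pt p hp)) (Localization.AtPrime p)
    rw [← CAlgH3.depth_ringEquiv e.toRingEquiv]
    exact h _ hx
  · intro σ p hp hpZ
    have hxW : pt p hp ∈ W := hW ▸ ⟨hptV p hp, by_contra fun hn => hpZ ⟨hp, hn⟩⟩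
    obtain ⟨f, hfW, hxf⟩ := hV.exists_basicOpen_le ⟨pt p hp, hxW⟩ (hptV p hp)
    haveI := hV.isLocalization_basicOpen f
    obtain ⟨⟨b, ⟨_, n, rfl⟩⟩, hb⟩ := IsLocalization.surj (Submonoid.powers f) (X.presheaf.map (homOfLE hfW).op σ)
    have hb' : TopCat.Presheaf.restrictOpen (φ (f ^ n) * σ - φ b) (X.basicOpen (φ f)) (X.basicOpen_le _) = 0 := by
      have e1 : X.basicOpen (φ f) = X.basicOpen f := (hres f).trans (inf_eq_right.mpr hfW)
      have e2 : (X.presheaf.map (homOfLE hfW).op) (φ (f ^ n) * σ - φ b) = 0 := by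
        rw [map_sub, map_mul, sub_eq_zero, hφ]
        rw [← CommRingCat.comp_apply, ← CommRingCat.comp_apply, ← Functor.map_comp]
        rw [mul_comm]
        exact hb
      show X.presheaf.map (homOfLE (X.basicOpen_le _)).op _ = 0
      rw [show (homOfLE (X.basicOpen_le (φ f)) : X.basicOpen (φ f) ⟶ W) = eqToHom e1 ≫ homOfLE hfW from rfl,
        op_comp, Functor.map_comp, CommRingCat.comp_apply, e2, map_zero]
    obtain ⟨N, hN⟩ := exists_pow_mul_eq_zero_of_res_basicOpen_eq_zero_of_isCompact X hWc _ _ hb'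
    refine ⟨f ^ (N + n), fun hm => (hbas p hp f).mp hxf (hp.mem_of_pow_mem _ hm), f ^ N * b, ?_⟩
    rw [map_mul, map_pow, map_pow]
    rw [map_pow] at hN
    linear_combination -hN
  · intro s hs p hp hpZ
    have hxW : pt p hp ∈ W := hW ▸ ⟨hptV p hp, by_contra fun hn => hpZ ⟨hp, hn⟩⟩
    obtain ⟨f, hfW, hxf⟩ := hV.exists_basicOpen_le ⟨pt p hp, hxW⟩ (hptV p hp)
    haveI := hV.isLocalization_basicOpen f
    have h0 : algebraMap Γ(X, V) Γ(X, X.basicOpen f) s = 0 := by
      show X.presheaf.map (homOfLE _).op s = 0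
      rw [show (homOfLE (X.basicOpen_le f) : X.basicOpen f ⟶ V) = homOfLE hfW ≫ homOfLE hle from rfl, op_comp,
        Functor.map_comp, CommRingCat.comp_apply]
      exact (congrArg _ hs).trans (map_zero _)
    obtain ⟨⟨_, n, rfl⟩, hn⟩ := (IsLocalization.map_eq_zero_iff (Submonoid.powers f) _ s).mp h0
    exact ⟨f ^ n, fun hm => (hbas p hp f).mp hxf (hp.mem_of_pow_mem _ hm), hn⟩
  · intro τ hτ
    refine X.IsSheaf.section_ext fun x hx => ?_
    obtain ⟨q, hq⟩ : ∃ q : PrimeSpectrum Γ(X, V), hV.fromSpec q = x := by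
      have : x ∈ Set.range hV.fromSpec := by rw [hV.range_fromSpec]; exact hle hx
      exact this
    obtain ⟨f, hfp, hfτ⟩ := hτ q.asIdeal q.2 fun ⟨_, hn⟩ => hn (by
      show hV.fromSpec q ∈ U
      rw [hq]; exact (hW.le hx).2)
    have hxf : x ∈ X.basicOpen f := hq ▸ (hbas q.asIdeal q.2 f).mpr hfp
    have hxf' : x ∈ X.basicOpen (φ f) := by rw [hres]; exact ⟨hx, hxf⟩
    refine ⟨X.basicOpen (φ f), X.basicOpen_le _, hxf', ?_⟩
    have hu := X.toRingedSpace.isUnit_res_basicOpen (φ f)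
    have h2 := congrArg (X.presheaf.map (homOfLE (X.basicOpen_le (φ f))).op) hfτ
    rw [map_mul, map_zero] at h2
    rw [map_zero]
    exact hu.mul_right_eq_zero.mp h2

/-- The same for the inclusion of the open. -/
theorem bijective_ι_app {X : Scheme.{u}} [IsLocallyNoetherian X] (U : X.Opens)
    (h : ∀ x : X, x ∉ U → (2 : ℕ∞) ≤ _root_.LocCoh.depth (X.presheaf.stalk x) (X.presheaf.stalk x))
    {V : X.Opens} (hV : IsAffineOpen V) : Function.Bijective (U.ι.app V) := by
  rw [Scheme.Opens.ι_app]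
  exact bijective_restrict U h hV (by rw [Scheme.Hom.image_preimage_eq_opensRange_inf, Scheme.Opens.opensRange_ι, inf_comm]) _

end Groth.Agent.FEtFF.Hartogs
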