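import Groth.Prelude.Def_CAlg
import Groth.Agent.CAlgH3.Depth
import Groth.Agent.FiniteEt.Trace
import Mathlib.RingTheory.Ideal.KrullsHeightTheorem
import Mathlib.RingTheory.Flat.Stability
import Mathlib.RingTheory.Localization.BaseChange
import Mathlib.RingTheory.LocalRing.Module
import Mathlib.RingTheory.LocalProperties.Exactness
import Mathlib.AlgebraicGeometry.Morphisms.Etale
import Mathlib.AlgebraicGeometry.Morphisms.Finite
import Mathlib.AlgebraicGeometry.Morphisms.Flat
import Mathlib.AlgebraicGeometry.Noetherian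

/-!
# Finite flat algebras étale outside a set of depth at least two are étale
-/

set_option autoImplicit false
set_option linter.style.haveILetI false
universe u

namespace Groth.Agent.FEtFF.FlatEtale
open TensorProduct IsLocalRing

variable {A B : Type u} [CommRing A] [CommRing B] [Algebra A B]

theorem etale_of_forall_localization [Module.Finite A B] [Module.Flat A B] [IsNoetherianRing A]
    (h : ∀ (p : Ideal A) [p.IsPrime], Algebra.Etale (Localization.AtPrime p) (Localization.AtPrime p ⊗[A] B)) :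
    Algebra.Etale A B := by
  haveI := Module.finitePresentation_of_finite A B
  haveI : Algebra.FinitePresentation A B := Algebra.FinitePresentation.of_finitePresentation A B
  haveI : Algebra.FormallyUnramified A B := by
    constructor
    refine Module.subsingleton_of_localization_maximal (R := A)
      (fun m _ => LocalizedModule m.primeCompl (Ω[B⁄A])) (fun m _ => LocalizedModule.mkLinearMap m.primeCompl _) ?_
    intro m hm
    haveI := h m
    letI : Algebra B (Localization.AtPrime m ⊗[A] B) := Algebra.TensorProduct.rightAlgebra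
    haveI : Subsingleton (Localization.AtPrime m ⊗[A] Ω[B⁄A]) :=
      (KaehlerDifferential.tensorKaehlerEquivBase A (Localization.AtPrime m) B (Localization.AtPrime m ⊗[A] B)).subsingleton
    exact (LocalizedModule.equivTensorProduct m.primeCompl (Ω[B⁄A])).subsingleton
  exact Algebra.Etale.of_formallyUnramified_of_flat

/-- Purity for flat covers: étale outside a set where the base has depth at least two implies étale. -/
theorem etale_of_depth [Module.Finite A B] [Module.Flat A B] [IsNoetherianRing A] (Z : Set (Ideal A))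
    (hdep : ∀ (p : Ideal A) [p.IsPrime], p ∈ Z → 2 ≤ _root_.LocCoh.depth (Localization.AtPrime p) (Localization.AtPrime p))
    (het : ∀ (p : Ideal A) [p.IsPrime], p ∉ Z →
      Algebra.Etale (Localization.AtPrime p) (Localization.AtPrime p ⊗[A] B)) : Algebra.Etale A B := by
  refine etale_of_forall_localization fun p _ => ?_
  let L := Localization.AtPrime p
  haveI : Module.Free L (L ⊗[A] B) := Module.free_of_flat_of_isLocalRing
  classical
  let b := Module.Free.chooseBasis L (L ⊗[A] B)
  rw [← FiniteEt.isUnit_det_iff_etale L (L ⊗[A] B) b]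
  by_contra hu
  obtain ⟨P, hP, -⟩ := Ideal.exists_minimalPrimes_le
    (show Ideal.span {(Algebra.traceMatrix L b).det} ≤ maximalIdeal L by
      rw [Ideal.span_singleton_le_iff_mem]; exact hu)
  haveI := hP.1.1
  have hht : P.height ≤ 1 := Ideal.height_le_one_of_isPrincipal_of_mem_minimalPrimes _ _ hP
  haveI : (P.comap (algebraMap A L)).IsPrime := Ideal.comap_isPrime _ _
  set q := P.comap (algebraMap A L) with hq
  by_cases hqZ : q ∈ Z
  · have h2 := hdep q hqZ
    have h3 := CAlgH3.depth_le_supportDim (R := Localization.AtPrime q) (M := Localization.AtPrime q)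
    have h4 : q.height ≤ 1 := by
      rw [hq, ← Ideal.under_def, IsLocalization.height_under p.primeCompl]; exact hht
    have h5 := h3.trans (Module.supportDim_le_ringKrullDim _ _)
    rw [IsLocalization.AtPrime.ringKrullDim_eq_height q (Localization.AtPrime q), WithBot.coe_le_coe] at h5
    exact absurd ((h2.trans h5).trans h4) (by decide)
  · haveI := het q hqZ
    let K := Localization.AtPrime q
    let φ : L →ₐ[A] K := IsLocalization.liftAlgHom (M := p.primeCompl) (f := Algebra.ofId A K) fun y =>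
      IsLocalization.map_units K (⟨y.1, fun hy => y.2 (by
        have h1 : algebraMap A L y.1 ∈ maximalIdeal L := IsLocalRing.le_maximalIdeal hP.1.1.ne_top hy
        exact (IsLocalization.AtPrime.to_map_mem_maximal_iff L p y.1).mp h1)⟩ : q.primeCompl)
    letI := φ.toRingHom.toAlgebra
    haveI : IsScalarTower A L K := IsScalarTower.of_algebraMap_eq fun a => (φ.commutes a).symm
    let e : K ⊗[L] (L ⊗[A] B) ≃ₐ[K] K ⊗[A] B := Algebra.TensorProduct.cancelBaseChange A L K K B
    haveI : Algebra.Etale K (K ⊗[L] (L ⊗[A] B)) := Algebra.Etale.of_equiv e.symm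
    have hk := (FiniteEt.isUnit_det_iff_etale K (K ⊗[L] (L ⊗[A] B)) (b.baseChange K)).mpr inferInstance
    rw [FiniteEt.traceMatrix_baseChange, ← RingHom.mapMatrix_apply, ← RingHom.map_det] at hk
    obtain ⟨⟨a, s⟩, hds⟩ := IsLocalization.surj p.primeCompl (Algebra.traceMatrix L b).det
    dsimp only at hds
    have hs : IsUnit (algebraMap A L s) := IsLocalization.map_units L s
    have hk2 : IsUnit (algebraMap A K a) := by
      rw [IsScalarTower.algebraMap_apply A L K, ← hds, map_mul]
      exact hk.mul (hs.map _)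
    rw [IsLocalization.AtPrime.isUnit_to_map_iff K q] at hk2
    refine hk2 ?_
    show algebraMap A L a ∈ P
    rw [← hds]
    exact P.mul_mem_right _ (hP.1.2 (Ideal.mem_span_singleton_self _))

end Groth.Agent.FEtFF.FlatEtale

set_option backward.isDefEq.respectTransparency.types false

namespace Groth.Agent.FEtFF.FlatEtale
open AlgebraicGeometry CategoryTheory CategoryTheory.Limits TopologicalSpace Opposite TensorProduct

theorem etale_app_of_le {X Y : Scheme.{u}} (π : Y ⟶ X) [IsFinite π] (U : X.Opens) [Etale (pullback.snd π U.ι)]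
    {V : X.Opens} (hV : IsAffineOpen V) (hVU : V ≤ U) : (π.app V).hom.Etale := by
  haveI : Etale (π ∣_ U) := (MorphismProperty.cancel_left_of_respectsIso @AlgebraicGeometry.Etale.{u} _ _).mpr ‹_›
  let m := (π ⁻¹ᵁ U).ι ≫ π
  haveI : Etale m := by
    show Etale ((π ⁻¹ᵁ U).ι ≫ π)
    rw [← morphismRestrict_ι]; infer_instance
  have e : (π ⁻¹ᵁ U).ι ''ᵁ ((π ⁻¹ᵁ U).ι ⁻¹ᵁ (π ⁻¹ᵁ V)) = π ⁻¹ᵁ V := by
    rw [Scheme.Hom.image_preimage_eq_opensRange_inf, Scheme.Opens.opensRange_ι]
    exact inf_eq_right.mpr (π.preimage_mono hVU)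
  haveI : IsIso ((π ⁻¹ᵁ U).ι.app (π ⁻¹ᵁ V)) := by
    rw [Scheme.Opens.ι_app]
    exact (inferInstance : IsIso (Y.presheaf.map (eqToHom e).op))
  have haff : IsAffineOpen (m ⁻¹ᵁ V) := by
    show IsAffineOpen ((π ⁻¹ᵁ U).ι ⁻¹ᵁ (π ⁻¹ᵁ V))
    rw [← (π ⁻¹ᵁ U).ι.isAffineOpen_iff_of_isOpenImmersion, e]
    exact hV.preimage π
  have h := m.etale_appLE hV haff le_rfl
  rw [← Scheme.Hom.app_eq_appLE, show m.app V = π.app V ≫ (π ⁻¹ᵁ U).ι.app (π ⁻¹ᵁ V) from Scheme.Hom.comp_app _ _ _] at h
  have := RingHom.Etale.respectsIso.1 _ (asIso ((π ⁻¹ᵁ U).ι.app (π ⁻¹ᵁ V))).symm.commRingCatIsoToRingEquiv h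
  convert this using 1
  ext x
  exact (ConcreteCategory.congr_hom (asIso ((π ⁻¹ᵁ U).ι.app (π ⁻¹ᵁ V))).hom_inv_id _).symm

theorem etale_of_flat {X Y : Scheme.{u}} [IsLocallyNoetherian X] (U : X.Opens)
    (hU : ∀ x : X, x ∉ U → (2 : ℕ∞) ≤ _root_.LocCoh.depth (X.presheaf.stalk x) (X.presheaf.stalk x)) (π : Y ⟶ X)
    [IsFinite π] [Etale (pullback.snd π U.ι)] [AlgebraicGeometry.Flat π] : Etale π := by
  have hall : ∀ W : X.affineOpens, Etale (π ∣_ W.1) := by
    intro ⟨W, hW⟩
    haveI : IsAffine W.toScheme := hW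
    haveI : IsAffine (π ⁻¹ᵁ W).toScheme := hW.preimage π
    haveI : IsNoetherianRing Γ(X, W) := IsLocallyNoetherian.component_noetherian ⟨W, hW⟩
    letI := (π.app W).hom.toAlgebra
    haveI : Module.Finite Γ(X, W) Γ(Y, π ⁻¹ᵁ W) := IsFinite.finite_app π W hW
    haveI : Module.Flat Γ(X, W) Γ(Y, π ⁻¹ᵁ W) := by
      have := π.flat_appLE hW (hW.preimage π) le_rfl
      rwa [← Scheme.Hom.app_eq_appLE] at this
    have hptV : ∀ q : PrimeSpectrum Γ(X, W), hW.fromSpec q ∈ W := fun q => by
      rw [← SetLike.mem_coe, ← hW.range_fromSpec]; exact ⟨_, rfl⟩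
    have key : Algebra.Etale Γ(X, W) Γ(Y, π ⁻¹ᵁ W) := by
      refine etale_of_depth {p | ∃ hp : p.IsPrime, hW.fromSpec ⟨p, hp⟩ ∉ U} ?_ ?_
      · rintro p _ ⟨hp, hx⟩
        letI := TopCat.Presheaf.algebra_section_stalk X.presheaf (⟨_, hptV ⟨p, hp⟩⟩ : W)
        haveI : IsLocalization.AtPrime (X.presheaf.stalk (hW.fromSpec ⟨p, hp⟩)) p := hW.isLocalization_stalk' ⟨p, hp⟩ (hptV _)
        let e := IsLocalization.algEquiv p.primeCompl (X.presheaf.stalk (hW.fromSpec ⟨p, hp⟩)) (Localization.AtPrime p)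
        rw [← CAlgH3.depth_ringEquiv e.toRingEquiv]
        exact hU _ hx
      · intro p hp hpZ
        let x := hW.fromSpec ⟨p, hp⟩
        have hxU : x ∈ W ⊓ U := ⟨hptV _, by_contra fun hn => hpZ ⟨hp, hn⟩⟩
        obtain ⟨g, hgU, hxg⟩ := hW.exists_basicOpen_le (V := W ⊓ U) ⟨x, hxU⟩ (hptV _)
        have hgp : g ∉ p := by
          have : (⟨p, hp⟩ : PrimeSpectrum Γ(X, W)) ∈ hW.fromSpec ⁻¹ᵁ X.basicOpen g := hxg
          rw [hW.fromSpec_preimage_basicOpen] at this
          exact this
        let R' := Γ(X, X.basicOpen g)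
        let S' := Γ(Y, π ⁻¹ᵁ X.basicOpen g)
        have het := etale_app_of_le π U (hW.basicOpen g) (le_trans hgU inf_le_right)
        haveI := hW.isLocalization_basicOpen g
        letI : Algebra R' S' := (π.app (X.basicOpen g)).hom.toAlgebra
        letI : Algebra Γ(Y, π ⁻¹ᵁ W) S' :=
          (Y.presheaf.map (homOfLE (π.preimage_mono (X.basicOpen_le g))).op).hom.toAlgebra
        letI : Algebra Γ(X, W) S' := ((π.app W) ≫ Y.presheaf.map (homOfLE (π.preimage_mono (X.basicOpen_le g))).op).hom.toAlgebra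
        haveI : IsScalarTower Γ(X, W) Γ(Y, π ⁻¹ᵁ W) S' := .of_algebraMap_eq fun _ => rfl
        haveI : IsScalarTower Γ(X, W) R' S' := .of_algebraMap_eq fun a => by
          show _ = π.app (X.basicOpen g) (X.presheaf.map (homOfLE (X.basicOpen_le g)).op a)
          exact (ConcreteCategory.congr_hom (π.naturality (homOfLE (X.basicOpen_le g)).op) a).symm
        haveI : IsLocalization.Away (π.app W g) S' :=
          (hW.preimage π).isLocalization_of_eq_basicOpen (π.app W g) _ (π.preimage_basicOpen g)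
        haveI : IsLocalization (Algebra.algebraMapSubmonoid Γ(Y, π ⁻¹ᵁ W) (Submonoid.powers g)) S' := by
          rw [Algebra.algebraMapSubmonoid, Submonoid.map_powers]
          exact ‹IsLocalization.Away (π.app W g) S'›
        haveI : Algebra.IsPushout Γ(X, W) R' Γ(Y, π ⁻¹ᵁ W) S' := (Algebra.isPushout_of_isLocalization (Submonoid.powers g) R' Γ(Y, π ⁻¹ᵁ W) S').symm
        haveI : Algebra.Etale R' S' := het
        haveI : Algebra.Etale R' (R' ⊗[Γ(X, W)] Γ(Y, π ⁻¹ᵁ W)) :=
          Algebra.Etale.of_equiv (Algebra.IsPushout.equiv Γ(X, W) R' Γ(Y, π ⁻¹ᵁ W) S').symm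
        let K := Localization.AtPrime p
        let φ : R' →ₐ[Γ(X, W)] K := IsLocalization.liftAlgHom (M := Submonoid.powers g) (f := Algebra.ofId Γ(X, W) K)
          (by rintro ⟨_, n, rfl⟩; exact IsLocalization.map_units K (⟨g ^ n, fun h => hgp (hp.mem_of_pow_mem n h)⟩ : p.primeCompl))
        letI := φ.toRingHom.toAlgebra
        haveI : IsScalarTower Γ(X, W) R' K := IsScalarTower.of_algebraMap_eq fun a => (φ.commutes a).symm
        exact Algebra.Etale.of_equiv (Algebra.TensorProduct.cancelBaseChange Γ(X, W) R' K K Γ(Y, π ⁻¹ᵁ W))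
    rw [HasRingHomProperty.iff_of_isAffine (P := @AlgebraicGeometry.Etale.{u})]
    have hk : (π.app W).hom.Etale := key
    rw [morphismRestrict_appTop]
    rw [← Scheme.Opens.ι_image_top W] at hk
    exact RingHom.Etale.respectsIso.1 _
      (asIso (Y.presheaf.map (eqToHom (image_morphismRestrict_preimage π W ⊤)).op)).commRingCatIsoToRingEquiv hk
  exact IsZariskiLocalAtTarget.of_iSup_eq_top (fun W : X.affineOpens => W.1) (iSup_affineOpens_eq_top X) hall

end Groth.Agent.FEtFF.FlatEtale
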