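import Groth.Agent.FEtFF.Extend
import Mathlib.AlgebraicGeometry.Morphisms.Flat

/-!
# Extension of sections and morphisms across flat base changes of `j_*O_U = O_X`
-/

set_option autoImplicit false
set_option linter.style.haveILetI false
set_option backward.isDefEq.respectTransparency.types false
set_option backward.isDefEq.respectTransparency false
universe u

namespace Groth.Agent.FEtFF.FlatExtend
open CategoryTheory CategoryTheory.Limits AlgebraicGeometry TopologicalSpace Opposite

variable {X U Z Y : Scheme.{u}}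

/-- Being bijective on sections is local on small affine opens. -/
theorem bijective_of_local (g : Y ⟶ Z) (B : Z.Opens → Prop)
    (hB : ∀ (W : Z.Opens) (z : Z), z ∈ W → ∃ W' : Z.Opens, B W' ∧ z ∈ W' ∧ W' ≤ W)
    (h : ∀ W, B W → Function.Bijective (g.app W)) (W : Z.Opens) : Function.Bijective (g.app W) := by
  have hres : ∀ {O O' : Z.Opens} (hle : O' ≤ O) (s : Γ(Z, O)),
      g.app O' (Z.presheaf.map (homOfLE hle).op s) = Y.presheaf.map (homOfLE (g.preimage_mono hle)).op (g.app O s) :=
    fun hle s => ConcreteCategory.congr_hom (g.naturality (homOfLE hle).op) s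
  have hcomp : ∀ {O O' O'' : Z.Opens} (h₁ : O' ≤ O) (h₂ : O'' ≤ O') (s : Γ(Z, O)),
      Z.presheaf.map (homOfLE h₂).op (Z.presheaf.map (homOfLE h₁).op s) = Z.presheaf.map (homOfLE (h₂.trans h₁)).op s :=
    fun h₁ h₂ s => by
      rw [← CommRingCat.comp_apply, ← Functor.map_comp]
      rfl
  have hcompY : ∀ {O O' O'' : Y.Opens} (h₁ : O' ≤ O) (h₂ : O'' ≤ O') (s : Γ(Y, O)),
      Y.presheaf.map (homOfLE h₂).op (Y.presheaf.map (homOfLE h₁).op s) = Y.presheaf.map (homOfLE (h₂.trans h₁)).op s :=
    fun h₁ h₂ s => by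
      rw [← CommRingCat.comp_apply, ← Functor.map_comp]
      rfl
  have hinj : ∀ O, Function.Injective (g.app O) := fun O s t hst => X_ext O s t hst
  refine ⟨hinj W, fun τ => ?_⟩
  choose N hN hzN hNW using fun z : (W : Set Z) => hB W z.1 z.2
  choose σ hσ using fun z => (h (N z) (hN z)).2 (Y.presheaf.map (homOfLE (g.preimage_mono (hNW z))).op τ)
  have hcov : W ≤ iSup N := fun z hz => Opens.mem_iSup.2 ⟨⟨z, hz⟩, hzN ⟨z, hz⟩⟩
  obtain ⟨s, hs, -⟩ := TopCat.Sheaf.existsUnique_gluing' Z.sheaf N W (fun z => homOfLE (hNW z)) hcov σ fun a b => by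
    apply hinj
    show g.app _ (Z.presheaf.map (homOfLE inf_le_left).op (σ a)) = g.app _ (Z.presheaf.map (homOfLE inf_le_right).op (σ b))
    rw [hres, hres, hσ a, hσ b, hcompY, hcompY]
  refine ⟨s, Y.IsSheaf.section_ext fun y hy => ⟨g ⁻¹ᵁ (N ⟨g y, hy⟩), g.preimage_mono (hNW _), hzN ⟨g y, hy⟩, ?_⟩⟩
  rw [← hres (hNW _) s]
  exact (congrArg _ (hs ⟨g y, hy⟩)).trans (hσ _)
where
  X_ext (O : Z.Opens) (s t : Γ(Z, O)) (hst : g.app O s = g.app O t) : s = t := by
    refine Z.IsSheaf.section_ext fun z hz => ?_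
    obtain ⟨O', hO', hzO, hle⟩ := hB O z hz
    refine ⟨O', hle, hzO, (h O' hO').1 ?_⟩
    have hres : ∀ (s : Γ(Z, O)),
        g.app O' (Z.presheaf.map (homOfLE hle).op s) = Y.presheaf.map (homOfLE (g.preimage_mono hle)).op (g.app O s) :=
      fun s => ConcreteCategory.congr_hom (g.naturality (homOfLE hle).op) s
    rw [hres, hres, hst]

variable (j : U ⟶ X) [IsOpenImmersion j] [QuasiCompact j]

/-- If `O_X = j_*O_U`, then the same holds after any flat base change. -/
theorem bijective_app_fst (hj : ∀ V : X.Opens, IsAffineOpen V → Function.Bijective (j.app V))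
    (h : Z ⟶ X) [Flat h] (W : Z.Opens) : Function.Bijective ((pullback.fst h j).app W) := by
  refine bijective_of_local (pullback.fst h j) (fun W => IsAffineOpen W ∧ ∃ V : X.Opens, IsAffineOpen V ∧ W ≤ h ⁻¹ᵁ V)
    (fun W z hz => ?_) (fun W hW => ?_) W
  · obtain ⟨V, hV, hzV, -⟩ := exists_isAffineOpen_mem_and_subset (x := h z) (U := (⊤ : X.Opens)) trivial
    obtain ⟨W', hW', hzW', hle⟩ := exists_isAffineOpen_mem_and_subset (x := z) (U := W ⊓ h ⁻¹ᵁ V) ⟨hz, hzV⟩
    exact ⟨W', ⟨hW', V, hV, fun a ha => (hle ha).2⟩, hzW', fun a ha => (hle ha).1⟩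
  · obtain ⟨hWa, V, hV, hWV⟩ := hW
    let H : IsPullback (pullback.snd h j) (pullback.fst h j) j h := (IsPullback.of_hasPullback h j).flip
    let UY := pullback.fst h j ⁻¹ᵁ W
    have hUY : UY = pullback.snd h j ⁻¹ᵁ (j ⁻¹ᵁ V) ⊓ pullback.fst h j ⁻¹ᵁ W := by
      refine (inf_eq_right.mpr ?_).symm
      rw [← Scheme.Hom.comp_preimage, H.w, Scheme.Hom.comp_preimage]
      exact (pullback.fst h j).preimage_mono hWV
    have hqs : IsQuasiSeparated ((j ⁻¹ᵁ V : U.Opens) : Set U) := by
      rw [j.isOpenEmbedding.isQuasiSeparated_iff]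
      exact hV.isQuasiSeparated.of_subset (Set.image_preimage_subset _ _)
    have hp := (isIso_pushoutSection_iff H hWV le_rfl hUY).mp
      (isIso_pushoutSection_of_isQuasiSeparated_of_flat_right H hWV le_rfl hUY hV hWa
        (j.isCompact_preimage hV.isCompact) hqs)
    rw [← Scheme.Hom.app_eq_appLE, ← Scheme.Hom.app_eq_appLE] at hp
    haveI : IsIso (j.app V) := (ConcreteCategory.isIso_iff_bijective _).2 (hj V hV)
    haveI := hp.isIso_inr_of_isIso
    exact (ConcreteCategory.isIso_iff_bijective _).1 (inferInstance : IsIso ((pullback.fst h j).app W))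

variable (hj : ∀ V : X.Opens, IsAffineOpen V → Function.Bijective (j.app V))

variable {A T : Scheme.{u}} (a : A ⟶ T) [IsAffineHom a] (h : Z ⟶ X) [Flat h] (m : Z ⟶ T)

include hj in
/-- Morphisms from a flat scheme into an affine one are determined over the open. -/
theorem hom_ext (b b' : Z ⟶ A) (hb : b ≫ a = m) (hb' : b' ≫ a = m)
    (e : pullback.fst h j ≫ b = pullback.fst h j ≫ b') : b = b' := by
  let p := pullback.fst m a
  haveI : IsAffineHom p := MorphismProperty.pullback_fst m a inferInstance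
  let q := pullback.snd m a
  let β : Z ⟶ pullback m a := pullback.lift (𝟙 Z) b (by rw [Category.id_comp, hb])
  let β' : Z ⟶ pullback m a := pullback.lift (𝟙 Z) b' (by rw [Category.id_comp, hb'])
  have := hom_ext_of_injective (𝟙 Z) p (pullback.fst h j)
    (fun W _ => (bijective_app_fst j hj h _).1) β β' (pullback.lift_fst _ _ _) (pullback.lift_fst _ _ _) (by
      apply pullback.hom_ext
      · simp [β, β', p]
      · simpa [β, β', q] using e)
  simpa [β, β', q] using congrArg (· ≫ q) this

include hj in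
/-- Morphisms into an affine scheme extend from the open. -/
theorem exists_hom (c : pullback h j ⟶ A) (hc : c ≫ a = pullback.fst h j ≫ m) :
    ∃ b : Z ⟶ A, b ≫ a = m ∧ pullback.fst h j ≫ b = c := by
  haveI : IsAffineHom (pullback.fst m a) := MorphismProperty.pullback_fst m a inferInstance
  let γ : pullback h j ⟶ pullback m a := pullback.lift (pullback.fst h j) c hc.symm
  obtain ⟨β, h1, h2⟩ := exists_extension (𝟙 Z) (pullback.fst m a) (pullback.fst h j)
    (fun W _ => (bijective_app_fst j hj h _).1) γ (by rw [pullback.lift_fst, Category.comp_id])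
    (fun W _ _ _ => (bijective_app_fst j hj h _).2 _)
  refine ⟨β ≫ pullback.snd m a, ?_, ?_⟩
  · rw [Category.assoc, ← pullback.condition, ← Category.assoc, h1, Category.id_comp]
  · rw [← Category.assoc, h2, pullback.lift_snd]

end Groth.Agent.FEtFF.FlatExtend
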