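import Groth.Agent.FEtFF.CechDepth
import Mathlib.AlgebraicGeometry.AffineScheme
import Mathlib.AlgebraicGeometry.Morphisms.QuasiSeparated

/-!
# Schemes covered by basic opens of global sections, in terms of localizations of the global sections
-/

set_option autoImplicit false
set_option linter.style.haveILetI false
set_option backward.isDefEq.respectTransparency.types false
set_option backward.isDefEq.respectTransparency false
universe u

open CategoryTheory AlgebraicGeometry TopologicalSpace Opposite

namespace Groth.Agent.FEtFF.Cech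

variable {V : Scheme.{u}}

/-- Fractions with denominator a power of `s` as sections over `D(s)`. -/
noncomputable def toSections (s : Γ(V, ⊤)) : Localization.Away s →+* Γ(V, V.basicOpen s) :=
  IsLocalization.Away.lift s (g := (V.presheaf.map (homOfLE le_top).op).hom)
    (V.toRingedSpace.isUnit_res_basicOpen s)

theorem toSections_algebraMap (s x : Γ(V, ⊤)) :
    toSections s (algebraMap _ _ x) = V.presheaf.map (homOfLE le_top).op x :=
  IsLocalization.Away.lift_eq s _ x

theorem bijective_toSections [CompactSpace V] [QuasiSeparatedSpace V] (s : Γ(V, ⊤)) :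
    Function.Bijective (toSections s) := by
  letI := (V.presheaf.map (homOfLE (le_top : V.basicOpen s ≤ ⊤)).op).hom.toAlgebra
  haveI : IsLocalization.Away s Γ(V, V.basicOpen s) :=
    isLocalization_basicOpen_of_qcqs isCompact_univ isQuasiSeparated_univ s
  let e := IsLocalization.algEquiv (Submonoid.powers s) (Localization.Away s) Γ(V, V.basicOpen s)
  have : toSections s = (e : Localization.Away s →+* Γ(V, V.basicOpen s)) := by
    refine IsLocalization.ringHom_ext (Submonoid.powers s) (RingHom.ext fun x => ?_)
    rw [RingHom.comp_apply, RingHom.comp_apply, toSections_algebraMap]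
    exact (e.commutes x).symm
  rw [this]
  exact e.bijective

theorem basicOpen_le_of_dvd {s t : Γ(V, ⊤)} (h : s ∣ t) : V.basicOpen t ≤ V.basicOpen s := by
  obtain ⟨c, rfl⟩ := h
  rw [Scheme.basicOpen_mul]
  exact inf_le_left

theorem toSections_res {s t : Γ(V, ⊤)} (h : s ∣ t) (y : Localization.Away s) :
    toSections t (res h y) = V.presheaf.map (homOfLE (basicOpen_le_of_dvd h)).op (toSections s y) := by
  refine RingHom.congr_fun (f := (toSections t).comp (res h))
    (g := (V.presheaf.map (homOfLE (basicOpen_le_of_dvd h)).op).hom.comp (toSections s)) ?_ y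
  refine IsLocalization.ringHom_ext (Submonoid.powers s) (RingHom.ext fun x => ?_)
  simp only [RingHom.comp_apply, res_algebraMap, toSections_algebraMap]
  rw [← CommRingCat.comp_apply, ← Functor.map_comp]
  rfl

section sheaf

variable {ι : Type} (s : ι → Γ(V, ⊤)) (hcov : ⨆ i, V.basicOpen (s i) = ⊤)

include hcov in
theorem eq_zero_of_forall_loc (x : Γ(V, ⊤)) (h : ∀ i, algebraMap Γ(V, ⊤) (Localization.Away (s i)) x = 0) : x = 0 := by
  refine TopCat.Sheaf.eq_of_locally_eq' V.sheaf (fun i => V.basicOpen (s i)) ⊤ (fun i => homOfLE le_top) hcov.ge x 0 fun i => ?_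
  have := congrArg (toSections (s i)) (h i)
  rw [toSections_algebraMap, map_zero] at this
  show V.presheaf.map (homOfLE le_top).op x = V.presheaf.map (homOfLE le_top).op 0
  rw [this, map_zero]

include hcov in
theorem exists_glue_loc [CompactSpace V] [QuasiSeparatedSpace V] (m : ∀ i, Localization.Away (s i))
    (h : ∀ i j, ∃ (t : Γ(V, ⊤)) (hi : s i ∣ t) (hj : s j ∣ t),
      V.basicOpen (s i) ⊓ V.basicOpen (s j) ≤ V.basicOpen t ∧ res hi (m i) = res hj (m j)) :
    ∃ x : Γ(V, ⊤), ∀ i, algebraMap _ _ x = m i := by
  obtain ⟨x, hx, -⟩ := TopCat.Sheaf.existsUnique_gluing' V.sheaf (fun i => V.basicOpen (s i)) ⊤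
    (fun i => homOfLE le_top) hcov.ge (fun i => toSections (s i) (m i)) fun i j => by
      obtain ⟨t, hi, hj, hle, e⟩ := h i j
      have e2 := congrArg (fun z => V.presheaf.map (homOfLE hle).op (toSections t z)) e
      simp only [toSections_res] at e2
      rw [← CommRingCat.comp_apply, ← Functor.map_comp, ← CommRingCat.comp_apply, ← Functor.map_comp] at e2
      exact e2
  exact ⟨x, fun i => (bijective_toSections (s i)).1 ((toSections_algebraMap _ _).trans (hx i))⟩

end sheaf

section chart

variable [CompactSpace V] [QuasiSeparatedSpace V] {s t : Γ(V, ⊤)}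

/-- The chart `Spec Γ(V)_s ⟶ V`. -/
noncomputable def chart (hs : IsAffineOpen (V.basicOpen s)) : Spec (CommRingCat.of (Localization.Away s)) ⟶ V :=
  Spec.map (RingEquiv.ofBijective _ (bijective_toSections s)).toCommRingCatIso.inv ≫ hs.fromSpec

theorem chart_toSpecΓ (hs : IsAffineOpen (V.basicOpen s)) :
    chart hs ≫ V.toSpecΓ = Spec.map (CommRingCat.ofHom (algebraMap Γ(V, ⊤) (Localization.Away s))) := by
  rw [chart, Category.assoc, IsAffineOpen.fromSpec_toSpecΓ, ← Spec.map_comp]
  congr 1
  ext x
  show (RingEquiv.ofBijective _ (bijective_toSections s)).symm (V.presheaf.map (homOfLE le_top).op x) = _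
  rw [RingEquiv.symm_apply_eq]
  exact (toSections_algebraMap s x).symm

theorem res_chart (hs : IsAffineOpen (V.basicOpen s)) (ht : IsAffineOpen (V.basicOpen t)) (h : s ∣ t) :
    Spec.map (CommRingCat.ofHom (res h)) ≫ chart hs = chart ht := by
  rw [chart, chart, ← IsAffineOpen.map_fromSpec hs ht (homOfLE (basicOpen_le_of_dvd h)).op, ← Category.assoc,
    ← Category.assoc, ← Spec.map_comp, ← Spec.map_comp]
  congr 2
  ext y
  show res h ((RingEquiv.ofBijective _ (bijective_toSections s)).symm y) =
    (RingEquiv.ofBijective _ (bijective_toSections t)).symm _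
  rw [RingEquiv.eq_symm_apply]
  show toSections t (res h _) = _
  rw [toSections_res]
  exact congrArg _ ((RingEquiv.ofBijective _ (bijective_toSections s)).apply_symm_apply y)

theorem range_chart (hs : IsAffineOpen (V.basicOpen s)) : Set.range (chart hs) = V.basicOpen s := by
  haveI : IsIso (Spec.map (RingEquiv.ofBijective _ (bijective_toSections s)).toCommRingCatIso.inv) := inferInstance
  rw [chart, Scheme.Hom.comp_base, TopCat.coe_comp, Set.range_comp, Set.range_eq_univ.2 (Spec.map _).surjective,
    Set.image_univ]
  exact hs.range_fromSpec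

instance (hs : IsAffineOpen (V.basicOpen s)) : IsOpenImmersion (chart hs) := by
  rw [chart]; infer_instance

end chart

end Groth.Agent.FEtFF.Cech
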