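import Groth.Agent.FEtFF.FormalModule
import Mathlib.RingTheory.Etale.Basic
import Mathlib.RingTheory.Flat.Localization
import Mathlib.RingTheory.Flat.EquationalCriterion
import Mathlib.RingTheory.Localization.Finiteness
import Mathlib.RingTheory.Ideal.Quotient.Operations
import Mathlib.RingTheory.Localization.Submodule

/-!
# Algebra maps between finite algebras, étale on the punctured spectrum, from their reduction mod `f`
-/

set_option autoImplicit false
set_option linter.style.haveILetI false
universe u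

namespace Groth.Agent.FEtFF.Cech

variable {A : Type u} [CommRing A] {M : Type u} [CommRing M] [Algebra A M]

/-- The localization of an `A`-algebra at the image of `c`. -/
abbrev Loc (M : Type u) [CommRing M] [Algebra A M] (c : A) : Type u := Localization.Away (algebraMap A M c)

/-- Restriction between localizations of an `A`-algebra, as an algebra map. -/
noncomputable def resA (M : Type u) [CommRing M] [Algebra A M] {a c : A} (h : a ∣ c) : Loc M a →ₐ[A] Loc M c :=
  { res (map_dvd (algebraMap A M) h) with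
    commutes' := fun r => by
      show res (map_dvd (algebraMap A M) h) (algebraMap A (Loc M a) r) = _
      rw [IsScalarTower.algebraMap_apply A M (Loc M a), res_algebraMap, ← IsScalarTower.algebraMap_apply] }

@[simp] theorem resA_algebraMap {a c : A} (h : a ∣ c) (x : M) :
    resA M h (algebraMap M (Loc M a) x) = algebraMap M (Loc M c) x := res_algebraMap (map_dvd (algebraMap A M) h) x

instance isLocalizedModule_loc (c : A) :
    IsLocalizedModule (Submonoid.powers c) (IsScalarTower.toAlgHom A M (Loc M c)).toLinearMap := by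
  rw [isLocalizedModule_iff_isLocalization]
  show IsLocalization (Submonoid.map (algebraMap A M) (Submonoid.powers c)) _
  rw [Submonoid.map_powers]
  infer_instance

/-- `algebraMap` powers of `f` and scalar multiples. -/
theorem exists_smul_iff_dvd {E : Type u} [CommRing E] [Algebra A E] (r : A) (y : E) :
    (∃ t, r • t = y) ↔ algebraMap A E r ∣ y :=
  ⟨fun ⟨t, ht⟩ => ⟨t, by rw [← ht, Algebra.smul_def]⟩, fun ⟨t, ht⟩ => ⟨t, by rw [Algebra.smul_def, ht]⟩⟩

variable {ι : Type} [Finite ι] (g : ι → A) {ix iy iz : ι} [IsNoetherianRing A] (f : A)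
  (H : RegTriple (g ix) (g iy) (g iz)) [Module.Finite A M] [∀ i, Module.Flat A (Loc M (g i))]
  (hM0 : ∀ x : M, (∀ i, algebraMap M (Loc M (g i)) x = 0) → x = 0)
  (hM1 : ∀ m : ∀ i, Loc M (g i), (∀ i j, resA M (dvd_mul_right (g i) (g j)) (m i) =
    resA M (dvd_mul_left (g j) (g i)) (m j)) → ∃ x, ∀ i, algebraMap M _ x = m i)

omit [Finite ι] in
theorem exists_coords_loc (i : ι) :
    ∃ (d : ℕ) (φ : Fin d → (M →ₗ[A] A)) (w : Fin d → Loc M (g i)),
      ∀ x, algebraMap M (Loc M (g i)) x = ∑ k, φ k x • w k := by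
  haveI : Module.FinitePresentation A M := Module.finitePresentation_of_finite A M
  let S := Submonoid.powers (g i)
  let E := LocalizedModule S M
  let ρ := LocalizedModule.mkLinearMap S M
  let e := IsLocalizedModule.linearEquiv S ρ (IsScalarTower.toAlgHom A M (Loc M (g i))).toLinearMap
  haveI : Module.Finite (Localization.Away (g i)) E := Module.Finite.of_isLocalizedModule S ρ
  haveI : Module.Flat A E := Module.Flat.of_linearEquiv e
  haveI : Module.Flat (Localization.Away (g i)) E :=
    (Module.flat_iff_of_isLocalization (Localization.Away (g i)) S E).mpr inferInstance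
  haveI : Module.FinitePresentation (Localization.Away (g i)) E := Module.finitePresentation_of_finite _ _
  haveI : Module.Projective (Localization.Away (g i)) E := Module.Flat.projective_of_finitePresentation
  obtain ⟨d, φ, w, hw⟩ := exists_coords (g i) (E := E) ρ
  refine ⟨d, φ, fun k => e (w k), fun x => ?_⟩
  have := congrArg e (hw x)
  rw [map_sum, IsLocalizedModule.linearEquiv_apply] at this
  simp only [map_smul] at this
  exact this

include H hM0 in
theorem eq_zero_of_locally_alg [IsHausdorff (Ideal.span {f}) A] (x : M)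
    (hx : ∀ (n : ℕ) i, algebraMap A (Loc M (g i)) (f ^ n) ∣ algebraMap M _ x) : x = 0 := by
  classical
  haveI := Fintype.ofFinite ι
  choose d φ w hw using exists_coords_loc (M := M) g
  -- all coordinates at once
  let P := Σ i, Fin (d i)
  refine eq_zero_of_locally_module (L := fun i => Loc M (g i)) g f H
    (fun i => (IsScalarTower.toAlgHom A M (Loc M (g i))).toLinearMap)
    (P := P) (fun p => φ p.1 p.2) (fun i p => if h : p.1 = i then w i (h ▸ p.2) else 0) (fun i x => ?_) hM0 x
    fun n i => (exists_smul_iff_dvd _ _).2 (hx n i)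
  rw [show (IsScalarTower.toAlgHom A M (Loc M (g i))).toLinearMap x = algebraMap M _ x from rfl, hw,
    Fintype.sum_sigma, Finset.sum_eq_single i]
  · exact Finset.sum_congr rfl fun k _ => by rw [dif_pos rfl]
  · intro j _ hj
    exact Finset.sum_eq_zero fun k _ => by rw [dif_neg hj, smul_zero]
  · exact fun h => absurd (Finset.mem_univ i) h

include H hM1 in
theorem exists_of_locally_alg [IsAdicComplete (Ideal.span {f}) A] (s : ℕ → ∀ i, Loc M (g i))
    (h1 : ∀ n i, algebraMap A (Loc M (g i)) (f ^ n) ∣ s (n + 1) i - s n i)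
    (h2 : ∀ n i j, algebraMap A (Loc M (g i * g j)) (f ^ n) ∣
      resA M (dvd_mul_right (g i) (g j)) (s n i) - resA M (dvd_mul_left (g j) (g i)) (s n j)) :
    ∃ x : M, ∀ n i, algebraMap A (Loc M (g i)) (f ^ n) ∣ algebraMap M _ x - s n i := by
  classical
  haveI := Fintype.ofFinite ι
  choose d φ w hw using exists_coords_loc (M := M) g
  let P := Σ i, Fin (d i)
  obtain ⟨x, hx⟩ := exists_of_locally_module (L := fun i => Loc M (g i)) g f H
    (fun i => (IsScalarTower.toAlgHom A M (Loc M (g i))).toLinearMap)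
    (P := P) (fun p => φ p.1 p.2) (fun i p => if h : p.1 = i then w i (h ▸ p.2) else 0) (fun i x => by
      rw [show (IsScalarTower.toAlgHom A M (Loc M (g i))).toLinearMap x = algebraMap M _ x from rfl, hw,
        Fintype.sum_sigma, Finset.sum_eq_single i]
      · exact Finset.sum_congr rfl fun k _ => by rw [dif_pos rfl]
      · intro j _ hj
        exact Finset.sum_eq_zero fun k _ => by rw [dif_neg hj, smul_zero]
      · exact fun h => absurd (Finset.mem_univ i) h)
    (L₂ := fun i j => Loc M (g i * g j)) (fun i j => (IsScalarTower.toAlgHom A M (Loc M (g i * g j))).toLinearMap)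
    (fun i j => (resA M (dvd_mul_right (g i) (g j))).toLinearMap)
    (fun i j => (resA M (dvd_mul_left (g j) (g i))).toLinearMap)
    (fun i j x => resA_algebraMap (dvd_mul_right (g i) (g j)) x) (fun i j x => resA_algebraMap (dvd_mul_left (g j) (g i)) x) hM1 s
    (fun n i => (exists_smul_iff_dvd _ _).2 (h1 n i)) (fun n i j => (exists_smul_iff_dvd _ _).2 (h2 n i j))
  exact ⟨x, fun n i => (exists_smul_iff_dvd _ _).1 (hx n i)⟩

variable (N : Type u) [CommRing N] [Algebra A N] [∀ i, Algebra.FormallyEtale A (Loc N (g i))]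

/-- The ideal of multiples of `f ^ n`. -/
abbrev I (E : Type u) [CommRing E] [Algebra A E] (n : ℕ) : Ideal E := Ideal.span {algebraMap A E (f ^ n)}

omit [IsNoetherianRing A] in
theorem I_mono (E : Type u) [CommRing E] [Algebra A E] {m n : ℕ} (h : m ≤ n) : I f E n ≤ I f E m := by
  rw [I, I, Ideal.span_singleton_le_span_singleton]
  exact map_dvd _ (pow_dvd_pow f h)

omit [IsNoetherianRing A] in
theorem isNilpotent_ker (E : Type u) [CommRing E] [Algebra A E] (n : ℕ) :
    IsNilpotent (RingHom.ker (Ideal.Quotient.factor (I_mono f E (Nat.le_add_left 1 n) : I f E (n + 1) ≤ I f E 1))) := by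
  refine ⟨n + 1, ?_⟩
  rw [Ideal.Quotient.factor_ker, I, Ideal.map_span, Set.image_singleton, Ideal.span_singleton_pow,
    Ideal.zero_eq_bot, Ideal.span_singleton_eq_bot, ← map_pow, Ideal.Quotient.eq_zero_iff_mem, pow_one, map_pow]
  exact Ideal.mem_span_singleton_self _

variable {N}

omit [IsNoetherianRing A] [Finite ι] in
/-- Maps from `N` into an algebra mod `f ^ (n+1)` in which `g i` is invertible are determined mod `f`. -/
theorem algHom_eq_of_mod (i : ι) {E : Type u} [CommRing E] [Algebra A E] (hg : IsUnit (algebraMap A E (g i)))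
    (n : ℕ) (a b : N →ₐ[A] E ⧸ I f E (n + 1))
    (h : ∀ x, Ideal.Quotient.factor (I_mono f E (Nat.le_add_left 1 n) : I f E (n + 1) ≤ I f E 1) (a x) =
      Ideal.Quotient.factor (I_mono f E (Nat.le_add_left 1 n) : I f E (n + 1) ≤ I f E 1) (b x)) : a = b := by
  have hu : ∀ c : N →ₐ[A] E ⧸ I f E (n + 1), IsUnit (c (algebraMap A N (g i))) := fun c => by
    rw [AlgHom.commutes]
    exact hg.map (Ideal.Quotient.mk (I f E (n + 1)))
  let a' : Loc N (g i) →ₐ[A] E ⧸ I f E (n + 1) := IsLocalization.Away.liftAlgHom (algebraMap A N (g i)) (hu a)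
  let b' : Loc N (g i) →ₐ[A] E ⧸ I f E (n + 1) := IsLocalization.Away.liftAlgHom (algebraMap A N (g i)) (hu b)
  have hab : a' = b' := Algebra.FormallyUnramified.ext' _ (isNilpotent_ker f E n) a' b' fun z => by
    refine RingHom.congr_fun (IsLocalization.ringHom_ext (Submonoid.powers (algebraMap A N (g i)))
      (j := (Ideal.Quotient.factor (I_mono f E (Nat.le_add_left 1 n) : I f E (n + 1) ≤ I f E 1)).comp a'.toRingHom)
      (k := (Ideal.Quotient.factor (I_mono f E (Nat.le_add_left 1 n) : I f E (n + 1) ≤ I f E 1)).comp b'.toRingHom)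
      (RingHom.ext fun x => ?_)) z
    simpa [a', b'] using h x
  refine AlgHom.ext fun x => ?_
  have := AlgHom.congr_fun hab (algebraMap N _ x)
  simpa [a', b'] using this

include H hM0 in
theorem algHom_ext_of_mod [IsHausdorff (Ideal.span {f}) A] (γ γ' : N →ₐ[A] M)
    (h : ∀ i x, algebraMap A (Loc M (g i)) f ∣ algebraMap M _ (γ x) - algebraMap M _ (γ' x)) : γ = γ' := by
  refine AlgHom.ext fun x => sub_eq_zero.1 (eq_zero_of_locally_alg g f H hM0 _ fun n i => ?_)
  let j := IsScalarTower.toAlgHom A M (Loc M (g i))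
  let q := Ideal.Quotient.mkₐ A (I f (Loc M (g i)) (n + 1))
  have hg : IsUnit (algebraMap A (Loc M (g i)) (g i)) := by
    rw [IsScalarTower.algebraMap_apply A M (Loc M (g i))]; exact IsLocalization.Away.algebraMap_isUnit _
  have := AlgHom.congr_fun (algHom_eq_of_mod g f i hg n ((q.comp j).comp γ) ((q.comp j).comp γ') fun y => by
    refine Ideal.Quotient.eq.2 ?_
    rw [I, pow_one, Ideal.mem_span_singleton]
    exact h i y) x
  have h2 := Ideal.mem_span_singleton.1 (Ideal.Quotient.eq.1 this)
  rw [map_sub]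
  exact (map_dvd _ (pow_dvd_pow f (Nat.le_succ n))).trans h2

include H hM0 hM1 in
/-- A compatible family of maps mod `f` lifts. -/
theorem exists_algHom_of_mod [IsAdicComplete (Ideal.span {f}) A]
    (τ : ∀ i, N →ₐ[A] Loc M (g i) ⧸ I f (Loc M (g i)) 1)
    (hτ : ∀ i j x y y', Ideal.Quotient.mk _ y = τ i x → Ideal.Quotient.mk _ y' = τ j x →
      algebraMap A (Loc M (g i * g j)) f ∣
        resA M (dvd_mul_right (g i) (g j)) y - resA M (dvd_mul_left (g j) (g i)) y') :
    ∃ γ : N →ₐ[A] M, ∀ i x, Ideal.Quotient.mk (I f (Loc M (g i)) 1) (algebraMap M _ (γ x)) = τ i x := by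
  have hg : ∀ i, IsUnit (algebraMap A (Loc M (g i)) (g i)) := fun i => by
    rw [IsScalarTower.algebraMap_apply A M (Loc M (g i))]; exact IsLocalization.Away.algebraMap_isUnit _
  -- the lifts
  have hlift : ∀ n i, ∃ σ : N →ₐ[A] Loc M (g i) ⧸ I f (Loc M (g i)) (n + 1), ∀ x,
      Ideal.Quotient.factor (I_mono f _ (Nat.le_add_left 1 n) : I f (Loc M (g i)) (n + 1) ≤ I f _ 1) (σ x) = τ i x := by
    intro n i
    let B := Loc M (g i) ⧸ I f (Loc M (g i)) (n + 1)
    let J : Ideal B := RingHom.ker (Ideal.Quotient.factor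
      (I_mono f _ (Nat.le_add_left 1 n) : I f (Loc M (g i)) (n + 1) ≤ I f _ 1))
    let π : B →ₐ[A] Loc M (g i) ⧸ I f (Loc M (g i)) 1 :=
      Ideal.Quotient.factorₐ A (I_mono f _ (Nat.le_add_left 1 n))
    have hπ : Function.Surjective π := Ideal.Quotient.factor_surjective (I_mono f (Loc M (g i)) (Nat.le_add_left 1 n))
    let e : (B ⧸ J) ≃ₐ[A] Loc M (g i) ⧸ I f (Loc M (g i)) 1 := Ideal.quotientKerAlgEquivOfSurjective (f := π) hπ
    have hu : IsUnit (τ i (algebraMap A N (g i))) := by
      rw [AlgHom.commutes]; exact (hg i).map (Ideal.Quotient.mk _)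
    let τ' : Loc N (g i) →ₐ[A] B ⧸ J :=
      e.symm.toAlgHom.comp (IsLocalization.Away.liftAlgHom (algebraMap A N (g i)) hu)
    obtain ⟨σ', hσ'⟩ := Algebra.FormallySmooth.exists_lift (R := A) J (isNilpotent_ker f _ n) τ'
    refine ⟨σ'.comp (IsScalarTower.toAlgHom A N (Loc N (g i))), fun x => ?_⟩
    have h1 := congrArg e (AlgHom.congr_fun hσ' (algebraMap N _ x))
    simp only [τ', AlgHom.coe_comp, Function.comp_apply, AlgEquiv.coe_toAlgHom, AlgEquiv.apply_symm_apply,
      IsLocalization.Away.coe_liftAlgHom, IsLocalization.Away.lift_eq] at h1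
    exact h1
  choose σ hσ using hlift
  choose s hs using fun n x i => Ideal.Quotient.mk_surjective (σ n i x)
  have h1 : ∀ x n i, algebraMap A (Loc M (g i)) (f ^ (n + 1)) ∣ s (n + 1) x i - s n x i := by
    intro x n i
    have := AlgHom.congr_fun (algHom_eq_of_mod g f i (hg i) n
      ((Ideal.Quotient.factorₐ A (I_mono f _ (Nat.le_succ (n + 1)))).comp (σ (n + 1) i)) (σ n i) fun y => by
        rw [hσ, AlgHom.comp_apply, ← hσ (n + 1) i y]
        obtain ⟨z, hz⟩ := Ideal.Quotient.mk_surjective (σ (n + 1) i y)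
        rw [← hz]
        rfl) x
    rw [AlgHom.comp_apply, ← hs (n + 1) x i, ← hs n x i] at this
    exact Ideal.mem_span_singleton.1 (Ideal.Quotient.eq.1 this)
  have h2 : ∀ x n i j, algebraMap A (Loc M (g i * g j)) (f ^ (n + 1)) ∣
      resA M (dvd_mul_right (g i) (g j)) (s n x i) - resA M (dvd_mul_left (g j) (g i)) (s n x j) := by
    intro x n i j
    let E := Loc M (g i * g j)
    have hle : ∀ (k : ι) (h : g k ∣ g i * g j) (m : ℕ), I f (Loc M (g k)) m ≤ (I f E m).comap (resA M h) := by
      intro k h m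
      rw [I, Ideal.span_le, Set.singleton_subset_iff, SetLike.mem_coe, Ideal.mem_comap, AlgHom.commutes]
      exact Ideal.mem_span_singleton_self _
    let r : ∀ (k : ι) (h : g k ∣ g i * g j) (m : ℕ), (Loc M (g k) ⧸ I f (Loc M (g k)) m) →ₐ[A] E ⧸ I f E m :=
      fun k h m => Ideal.quotientMapₐ _ (resA M h) (hle k h m)
    have hgE : IsUnit (algebraMap A E (g i)) := by
      have := (hg i).map (resA M (dvd_mul_right (g i) (g j)))
      rwa [AlgHom.commutes] at this
    have := AlgHom.congr_fun (algHom_eq_of_mod g f i hgE n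
      ((r i (dvd_mul_right _ _) (n + 1)).comp (σ n i)) ((r j (dvd_mul_left _ _) (n + 1)).comp (σ n j)) fun y => by
        rw [AlgHom.comp_apply, AlgHom.comp_apply, ← hs n y i, ← hs n y j]
        refine Ideal.Quotient.eq.2 ?_
        rw [I, pow_one, Ideal.mem_span_singleton]
        refine hτ i j y _ _ ?_ ?_
        · rw [← hσ n i y, ← hs n y i]; rfl
        · rw [← hσ n j y, ← hs n y j]; rfl) x
    rw [AlgHom.comp_apply, AlgHom.comp_apply, ← hs n x i, ← hs n x j] at this
    exact Ideal.mem_span_singleton.1 (Ideal.Quotient.eq.1 this)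
  choose γ hγ using fun x => exists_of_locally_alg g f H hM1 (fun n i => s n x i)
    (fun n i => (map_dvd _ (pow_dvd_pow f (Nat.le_succ n))).trans (h1 x n i))
    (fun n i j => (map_dvd _ (pow_dvd_pow f (Nat.le_succ n))).trans (h2 x n i j))
  have huniq : ∀ a b : M, (∀ n i, algebraMap A (Loc M (g i)) (f ^ n) ∣ algebraMap M _ a - algebraMap M _ b) → a = b :=
    fun a b h => sub_eq_zero.1 (eq_zero_of_locally_alg g f H hM0 _ fun n i => by rw [map_sub]; exact h n i)
  have hmk : ∀ n i x, Ideal.Quotient.mk (I f (Loc M (g i)) (n + 1)) (algebraMap M _ (γ x)) = σ n i x := by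
    intro n i x
    rw [← hs n x i, Ideal.Quotient.eq, I, Ideal.mem_span_singleton]
    have := dvd_add (hγ x (n + 1) i) (h1 x n i)
    rwa [sub_add_sub_cancel] at this
  have hlaw : ∀ (a : M) (z : N), (∀ n i, Ideal.Quotient.mk (I f (Loc M (g i)) (n + 1)) (algebraMap M _ a) = σ n i z) →
      a = γ z := fun a z h => huniq _ _ fun n i => by
    have h' := (h n i).trans (hmk n i z).symm
    exact (map_dvd _ (pow_dvd_pow f (Nat.le_succ n))).trans (Ideal.mem_span_singleton.1 (Ideal.Quotient.eq.1 h'))
  refine ⟨{ toFun := γ, map_one' := ?_, map_mul' := ?_, map_zero' := ?_, map_add' := ?_, commutes' := ?_ },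
    fun i x => ?_⟩
  · exact (hlaw 1 1 fun n i => by rw [map_one, map_one, map_one]).symm
  · exact fun x y => (hlaw (γ x * γ y) (x * y) fun n i => by rw [map_mul, map_mul, map_mul, hmk, hmk]).symm
  · exact (hlaw 0 0 fun n i => by rw [map_zero, map_zero, map_zero]).symm
  · exact fun x y => (hlaw (γ x + γ y) (x + y) fun n i => by rw [map_add, map_add, map_add, hmk, hmk]).symm
  · exact fun r => (hlaw (algebraMap A M r) (algebraMap A N r) fun n i => by
      rw [AlgHom.commutes, ← IsScalarTower.algebraMap_apply]; rfl).symm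
  · show Ideal.Quotient.mk _ (algebraMap M _ (γ x)) = _
    rw [← hσ 0 i x, ← hmk 0 i x, Ideal.Quotient.factor_mk]

end Groth.Agent.FEtFF.Cech
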