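import Groth.Agent.FEtFF.Hartogs
import Groth.Agent.FEtFF.Extend

/-!
# Full faithfulness of restriction across points of depth at least two
-/

set_option autoImplicit false
set_option linter.style.haveILetI false
set_option backward.isDefEq.respectTransparency.types false
universe u

namespace Groth.Agent.FEtFF.Hartogs
open CategoryTheory CategoryTheory.Limits AlgebraicGeometry TopologicalSpace Opposite

theorem restrict_full_faithful_of_depth {X : Scheme.{u}} [IsLocallyNoetherian X] (U : X.Opens)
    (h : ∀ x : X, x ∉ U → (2 : ℕ∞) ≤ _root_.LocCoh.depth (X.presheaf.stalk x) (X.presheaf.stalk x)) :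
    (FEt.restrict U.ι).Full ∧ (FEt.restrict U.ι).Faithful :=
  FEtFF.restrict_full_faithful U.ι
    (fun Y V hV => (FEtFF.bijective_app U.ι Y.hom (IsPullback.of_hasPullback Y.hom U.ι) hV (bijective_ι_app U h hV)).1)
    (fun Y V hV z _ => (FEtFF.bijective_app U.ι Y.hom (IsPullback.of_hasPullback Y.hom U.ι) hV (bijective_ι_app U h hV)).2 z)

/-- The local ring at the closed point of the spectrum of a local ring. -/
theorem depth_stalk_closedPoint (A : Type u) [CommRing A] [IsLocalRing A]
    (x : Spec (CommRingCat.of A)) (hx : x ∉ FEt.puncturedSpec A) :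
    _root_.LocCoh.depth ((Spec (CommRingCat.of A)).presheaf.stalk x) ((Spec (CommRingCat.of A)).presheaf.stalk x) =
      _root_.LocCoh.depth A A := by
  obtain rfl : x = IsLocalRing.closedPoint A := by
    by_contra hne
    exact hx hne
  exact CAlgH3.depth_ringEquiv (stalkClosedPointIso (CommRingCat.of A)).commRingCatIsoToRingEquiv

theorem two_le_depth_stalk {A : Type u} [CommRing A] [IsLocalRing A] (hA : (2 : ℕ∞) ≤ _root_.LocCoh.depth A A) :
    ∀ x : Spec (CommRingCat.of A), x ∉ FEt.puncturedSpec A → (2 : ℕ∞) ≤
      _root_.LocCoh.depth ((Spec (CommRingCat.of A)).presheaf.stalk x) ((Spec (CommRingCat.of A)).presheaf.stalk x) :=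
  fun x hx => hA.trans_eq (depth_stalk_closedPoint A x hx).symm

end Groth.Agent.FEtFF.Hartogs
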