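import Groth.Agent.FEtFF.Pushforward

/-!
# The extension of a finite étale cover across points of depth at least two
-/

set_option autoImplicit false
set_option linter.style.haveILetI false
set_option linter.unusedSectionVars false
set_option backward.isDefEq.respectTransparency.types false
universe u v

namespace Groth.Agent.FEtFF.Pushforward
open IsLocalRing
open scoped Pointwise

theorem two_le_depth {B : Type u} [CommRing B] [IsNoetherianRing B] {ι : Type} [Finite ι] (g : ι → B)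
    (hB : ∀ b : B, (∀ k, ∃ n, g k ^ n * b = 0) → b = 0)
    (hglue : ∀ N (c : ι → B), (∀ k l, g l ^ N * c k = g k ^ N * c l) → ∃ a, ∀ k, g k ^ N * a = c k)
    (q : Ideal B) [q.IsPrime] (hq : ∀ k, g k ∈ q) :
    2 ≤ _root_.LocCoh.depth (Localization.AtPrime q) (Localization.AtPrime q) := by
  classical
  cases nonempty_fintype ι
  let L := Localization.AtPrime q
  let J := Ideal.span (Set.range g)
  obtain ⟨t, htJ, htn⟩ : ∃ t ∈ J, t ∉ ⋃ p ∈ associatedPrimes B B, (p : Set B) := by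
    by_contra hc
    push_neg at hc
    have hle : (J : Set B) ⊆ ⋃ p ∈ ((associatedPrimes.finite B B).toFinset : Set (Ideal B)), id p := by
      intro x hx
      rw [Set.Finite.coe_toFinset]
      exact hc x hx
    obtain ⟨p, hp, hle'⟩ := (Ideal.subset_union_prime ⊥ ⊥ (fun p hp _ _ =>
      IsAssociatedPrime.isPrime ((associatedPrimes.finite B B).mem_toFinset.1 hp))).1 hle
    rw [Set.Finite.mem_toFinset] at hp
    obtain ⟨hpp, x, hx⟩ := (isAssociatedPrime_iff.mp hp)
    have hx0 : x = 0 := hB x fun k => by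
      have : g k ∈ (⊥ : Submodule B B).colon {x} := hx ▸ hle' (Ideal.subset_span ⟨k, rfl⟩)
      exact ⟨1, by simpa [Submodule.mem_colon_singleton] using this⟩
    subst hx0
    refine hpp.ne_top ?_
    rw [hx]
    exact (Ideal.eq_top_iff_one _).mpr (by simp [Submodule.mem_colon_singleton])
  have htreg : ∀ b, t * b = 0 → b = 0 := fun b hb => by
    by_contra hb0
    rw [biUnion_associatedPrimes_eq_zero_divisors] at htn
    exact htn ⟨b, hb0, hb⟩
  have hdiv : ∀ b, (∀ k, ∃ n c, g k ^ n * b = t * c) → ∃ c, b = t * c := by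
    intro b hb
    choose n c hc using hb
    let N := ∑ k, n k
    have hN : ∀ k, N = (N - n k) + n k := fun k =>
      (Nat.sub_add_cancel (Finset.single_le_sum (fun j _ => Nat.zero_le (n j)) (Finset.mem_univ k))).symm
    have hc' : ∀ k, g k ^ N * b = t * (g k ^ (N - n k) * c k) := fun k => by
      conv_lhs => rw [hN k, pow_add, mul_assoc, hc k]
      ring
    obtain ⟨a, ha⟩ := hglue N (fun k => g k ^ (N - n k) * c k) fun k l => sub_eq_zero.mp (htreg _ (by
      linear_combination (-(g l ^ N)) * hc' k + g k ^ N * hc' l))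
    refine ⟨a, sub_eq_zero.mp (hB _ fun k => ⟨N, ?_⟩)⟩
    rw [mul_sub, mul_left_comm, ha k, hc' k, sub_self]
  have htq : t ∈ q := (Ideal.span_le.mpr (by rintro _ ⟨k, rfl⟩; exact hq k)) htJ
  have htL : algebraMap B L t ∈ maximalIdeal L :=
    (IsLocalization.AtPrime.to_map_mem_maximal_iff L q t).mpr htq
  have hreg : IsSMulRegular L (algebraMap B L t) := by
    rw [isSMulRegular_iff_right_eq_zero_of_smul]
    intro z hz
    obtain ⟨⟨b, s⟩, hb⟩ := IsLocalization.surj q.primeCompl z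
    dsimp only at hb
    have h1 : algebraMap B L (t * b) = 0 := by
      rw [map_mul, ← hb, ← mul_assoc, show algebraMap B L t * z = 0 from hz, zero_mul]
    obtain ⟨⟨u, hu⟩, hub⟩ := (IsLocalization.map_eq_zero_iff q.primeCompl L _).mp h1
    have h2 : algebraMap B L b = 0 :=
      (IsLocalization.map_eq_zero_iff q.primeCompl L _).mpr ⟨⟨u, hu⟩, htreg _ (by linear_combination hub)⟩
    rw [h2] at hb
    exact (IsLocalization.map_units L s).mul_left_eq_zero.mp hb
  have hmem : ∀ z, z ∈ (algebraMap B L t • (⊤ : Submodule L L)) ↔ algebraMap B L t ∣ z := fun z => by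
    rw [Submodule.mem_smul_pointwise_iff_exists]
    exact ⟨fun ⟨c, _, hc⟩ => ⟨c, hc.symm⟩, fun ⟨c, hc⟩ => ⟨c, trivial, hc.symm⟩⟩
  haveI : Nontrivial (QuotSMulTop (algebraMap B L t) L) := by
    refine Submodule.Quotient.nontrivial_iff.mpr fun htop => ?_
    have := (hmem 1).mp (by rw [htop]; trivial)
    exact htL (isUnit_of_dvd_one this)
  have h1 : 1 ≤ _root_.LocCoh.depth L (QuotSMulTop (algebraMap B L t) L) := by
    rw [CAlgH3.one_le_depth_iff]
    intro hm
    obtain ⟨hmp, x, hx⟩ := isAssociatedPrime_iff.mp hm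
    obtain ⟨z, rfl⟩ := Submodule.Quotient.mk_surjective _ x
    obtain ⟨⟨b, s⟩, hb⟩ := IsLocalization.surj q.primeCompl z
    dsimp only at hb
    have hk : ∀ k, ∃ n, ∃ c, ∃ u ∉ q, u * (g k ^ n * b) = t * c := fun k => by
      have : algebraMap B L (g k) ∈ maximalIdeal L := (IsLocalization.AtPrime.to_map_mem_maximal_iff L q _).mpr (hq k)
      rw [hx] at this
      refine ⟨1, ?_⟩
      have hn := this
      rw [← pow_one (algebraMap B L (g k))] at hn
      rw [Submodule.mem_colon_singleton, Submodule.mem_bot, ← Submodule.Quotient.mk_smul,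
        Submodule.Quotient.mk_eq_zero, hmem, smul_eq_mul] at hn
      obtain ⟨w, hw⟩ := hn
      obtain ⟨⟨d, s'⟩, hd⟩ := IsLocalization.surj q.primeCompl w
      dsimp only at hd
      have e : algebraMap B L (s' * (g k ^ 1 * b)) = algebraMap B L (t * (d * s)) := by
        rw [map_mul, map_mul, map_pow, map_mul, map_mul, ← hb, ← hd]
        linear_combination (algebraMap B L s' * algebraMap B L s) * hw
      obtain ⟨⟨v, hv⟩, he⟩ := (IsLocalization.eq_iff_exists q.primeCompl L).mp e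
      exact ⟨v * d * s, v * s', fun h => (‹q.IsPrime›.mem_or_mem h).elim hv s'.2,
        by linear_combination he⟩
    choose n c u hu hc using hk
    obtain ⟨w, hw⟩ := hdiv ((∏ k, u k) * b) fun k => ⟨n k, (∏ l ∈ Finset.univ.erase k, u l) * c k, by
      rw [← Finset.prod_erase_mul _ _ (Finset.mem_univ k)]
      linear_combination (∏ l ∈ Finset.univ.erase k, u l) * hc k⟩
    have hP : ∏ k, u k ∉ q := fun h => by
      obtain ⟨k, _, hk⟩ := ‹q.IsPrime›.prod_mem_iff.mp h
      exact hu k hk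
    refine hmp.ne_top ?_
    rw [hx]
    refine (Ideal.eq_top_iff_one _).mpr ?_
    rw [Submodule.mem_colon_singleton, Submodule.mem_bot, one_smul, Submodule.Quotient.mk_eq_zero, hmem]
    have hu' : IsUnit (algebraMap B L (∏ k, u k) * algebraMap B L s) :=
      (IsLocalization.map_units L (⟨_, hP⟩ : q.primeCompl)).mul (IsLocalization.map_units L s)
    refine hu'.dvd_mul_left.mp ⟨algebraMap B L w, ?_⟩
    rw [← map_mul, ← map_mul (algebraMap B L) t, ← hw, map_mul, map_mul, ← hb]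
    ring
  rw [← CAlgH3.depth_quotSMulTop_add_one htL hreg]
  exact (CAlgH3.natCast_add_one_le_iff (n := 1)).mpr (by exact_mod_cast h1)

end Groth.Agent.FEtFF.Pushforward

namespace Groth.Agent.FEtFF.Pushforward
open AlgebraicGeometry CategoryTheory CategoryTheory.Limits TopologicalSpace Opposite

theorem eq_zero_of_pow_mul {X : Scheme.{u}} {O : X.Opens} {ι : Type} (s : ι → Γ(X, O))
    (hcov : O ≤ ⨆ k, X.basicOpen (s k)) (a : Γ(X, O)) (ha : ∀ k, ∃ n, s k ^ n * a = 0) : a = 0 := by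
  refine X.IsSheaf.section_ext fun x hx => ?_
  obtain ⟨k, hk⟩ := Opens.mem_iSup.mp (hcov hx)
  refine ⟨X.basicOpen (s k), X.basicOpen_le _, hk, ?_⟩
  obtain ⟨n, hn⟩ := ha k
  have h := congrArg (X.presheaf.map (homOfLE (X.basicOpen_le (s k))).op) hn
  rw [map_mul, map_zero, map_pow] at h
  rw [map_zero]
  exact ((X.toRingedSpace.isUnit_res_basicOpen (s k)).pow n).mul_right_eq_zero.mp h

theorem glue_pow {X : Scheme.{u}} {O : X.Opens} {ι : Type} (s : ι → Γ(X, O))
    (hcov : O ≤ ⨆ k, X.basicOpen (s k)) (N : ℕ) (c : ι → Γ(X, O)) (hc : ∀ k l, s l ^ N * c k = s k ^ N * c l) :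
    ∃ a, ∀ k, s k ^ N * a = c k := by
  let r : ∀ {O' : X.Opens}, O' ≤ O → Γ(X, O) →+* Γ(X, O') := fun h => (X.presheaf.map (homOfLE h).op).hom
  have hu : ∀ k, IsUnit (r (X.basicOpen_le (s k)) (s k ^ N)) := fun k => by
    rw [map_pow]; exact (X.toRingedSpace.isUnit_res_basicOpen (s k)).pow N
  let σ : ∀ k, Γ(X, X.basicOpen (s k)) := fun k => ↑(hu k).unit⁻¹ * r (X.basicOpen_le (s k)) (c k)
  have hσ : ∀ k, r (X.basicOpen_le (s k)) (s k ^ N) * σ k = r (X.basicOpen_le (s k)) (c k) := fun k => by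
    simp only [σ, ← mul_assoc, IsUnit.mul_val_inv, one_mul]
  have hcomp : TopCat.Presheaf.IsCompatible X.sheaf.obj (fun k => X.basicOpen (s k)) σ := fun k l => by
    let r₁ := (X.presheaf.map (Opens.infLELeft (X.basicOpen (s k)) (X.basicOpen (s l))).op).hom
    let r₂ := (X.presheaf.map (Opens.infLERight (X.basicOpen (s k)) (X.basicOpen (s l))).op).hom
    show r₁ (σ k) = r₂ (σ l)
    have e : ∀ a, r₁ (r (X.basicOpen_le (s k)) a) = r₂ (r (X.basicOpen_le (s l)) a) := fun a => by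
      show (X.presheaf.map _ ≫ X.presheaf.map _) a = (X.presheaf.map _ ≫ X.presheaf.map _) a
      rw [← Functor.map_comp, ← Functor.map_comp]; rfl
    have h1 := congrArg r₁ (hσ k)
    have h2 := congrArg r₂ (hσ l)
    have h3 := congrArg (r (X.basicOpen_le (s l))) (hc k l)
    rw [map_mul] at h1 h2
    rw [map_mul, map_mul] at h3
    have h4 := congrArg r₂ h3
    rw [map_mul, map_mul] at h4
    refine (((hu k).map r₁).mul ((hu l).map r₂)).mul_left_cancel ?_
    rw [mul_right_comm, h1, e, mul_comm (r₂ (r (X.basicOpen_le (s l)) (c k))), h4,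
      mul_assoc (r₁ (r (X.basicOpen_le (s k)) (s k ^ N))), h2, e]
  obtain ⟨(a : Γ(X, O)), ha, -⟩ := X.sheaf.existsUnique_gluing' (fun k => X.basicOpen (s k)) O
    (fun k => homOfLE (X.basicOpen_le _)) hcov σ hcomp
  refine ⟨a, fun k => sub_eq_zero.mp (eq_zero_of_pow_mul s hcov _ fun l => ⟨N, ?_⟩)⟩
  refine X.IsSheaf.section_ext fun x hx => ?_
  obtain ⟨m, hm⟩ := Opens.mem_iSup.mp (hcov hx)
  refine ⟨X.basicOpen (s m), X.basicOpen_le _, hm, ?_⟩
  show r (X.basicOpen_le (s m)) _ = r (X.basicOpen_le (s m)) 0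
  have e1 : r (X.basicOpen_le (s m)) a = σ m := ha m
  have e2 : r (X.basicOpen_le (s m)) (s k ^ N * a - c k) = 0 := by
    refine (hu m).mul_right_eq_zero.mp ?_
    rw [← map_mul, mul_sub, mul_left_comm, hc, map_sub, map_mul, map_mul, map_mul, e1, hσ, sub_self]
  rw [map_mul, e2, mul_zero, map_zero]

variable {X : Scheme.{u}} [IsLocallyNoetherian X] {U : X.Opens} {V : Scheme.{u}} (h : V ⟶ U) [IsFinite h] [Etale h]

theorem isFinite_fromNormalization
    (hU : ∀ x : X, x ∉ U → (2 : ℕ∞) ≤ _root_.LocCoh.depth (X.presheaf.stalk x) (X.presheaf.stalk x)) :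
    IsFinite (h ≫ U.ι).fromNormalization := by
  refine ⟨fun W hW => ?_⟩
  set f := h ≫ U.ι
  haveI : IsNoetherianRing Γ(X, W) := IsLocallyNoetherian.component_noetherian ⟨W, hW⟩
  letI := (f.app W).hom.toAlgebra
  haveI : Module.Finite Γ(X, W) Γ(V, f ⁻¹ᵁ W) := finite_app h hU hW
  haveI : Module.Finite Γ(X, W) (integralClosure Γ(X, W) Γ(V, f ⁻¹ᵁ W)) :=
    Module.Finite.of_injective (integralClosure Γ(X, W) Γ(V, f ⁻¹ᵁ W)).val.toLinearMap Subtype.val_injective
  rw [f.fromNormalization_app hW]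
  exact RingHom.finite_respectsIso.1 _ (f.normalizationObjIso hW).symm.commRingCatIsoToRingEquiv
    (RingHom.finite_algebraMap.mpr inferInstance)

theorem two_le_depth_normalization
    (hU : ∀ x : X, x ∉ U → (2 : ℕ∞) ≤ _root_.LocCoh.depth (X.presheaf.stalk x) (X.presheaf.stalk x))
    (y : (h ≫ U.ι).normalization) (hy : (h ≫ U.ι).fromNormalization.base y ∉ U) :
    (2 : ℕ∞) ≤ _root_.LocCoh.depth ((h ≫ U.ι).normalization.presheaf.stalk y)
      ((h ≫ U.ι).normalization.presheaf.stalk y) := by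
  classical
  set f := h ≫ U.ι with hf
  set π := f.fromNormalization with hπ
  haveI : IsFinite π := isFinite_fromNormalization h hU
  obtain ⟨W, hW, hyW, -⟩ := exists_isAffineOpen_mem_and_subset (U := (⊤ : X.Opens)) (x := π y) trivial
  haveI : IsNoetherianRing Γ(X, W) := IsLocallyNoetherian.component_noetherian ⟨W, hW⟩
  letI := (f.app W).hom.toAlgebra
  haveI : Module.Finite Γ(X, W) Γ(V, f ⁻¹ᵁ W) := finite_app h hU hW
  have htop : integralClosure Γ(X, W) Γ(V, f ⁻¹ᵁ W) = ⊤ :=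
    eq_top_iff.mpr fun b _ => Algebra.IsIntegral.isIntegral b
  have le : f ⁻¹ᵁ W ≤ f.toNormalization ⁻¹ᵁ (π ⁻¹ᵁ W) := by
    rw [← Scheme.Hom.comp_preimage, hπ, f.toNormalization_fromNormalization]
  have hbij : Function.Bijective (f.toNormalization.appLE (π ⁻¹ᵁ W) (f ⁻¹ᵁ W) le) := by
    have := f.normalizationObjIso_hom_val hW
    rw [← this]
    show Function.Bijective (Subtype.val ∘ (f.normalizationObjIso hW).hom)
    refine Function.Bijective.comp ⟨Subtype.val_injective, fun b => ⟨⟨b, by rw [htop]; trivial⟩, rfl⟩⟩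
      (ConcreteCategory.bijective_of_isIso (f.normalizationObjIso hW).hom)
  let e : Γ(f.normalization, π ⁻¹ᵁ W) ≃+* Γ(V, f ⁻¹ᵁ W) := RingEquiv.ofBijective (f.toNormalization.appLE _ _ le).hom hbij
  have he : ∀ a, e (π.app W a) = f.app W a := fun a => by
    show (π.app W ≫ f.toNormalization.appLE _ _ le) a = _
    rw [Scheme.Hom.app_eq_appLE, Scheme.Hom.appLE_comp_appLE]
    have hk : ∀ (m : V ⟶ X) (l : f ⁻¹ᵁ W ≤ m ⁻¹ᵁ W), m = f → m.appLE W (f ⁻¹ᵁ W) l a = f.app W a := by
      rintro m l rfl; rw [Scheme.Hom.app_eq_appLE]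
    exact hk _ _ f.toNormalization_fromNormalization
  have hWU : IsCompact ((W ⊓ U : X.Opens) : Set X) := by
    have e : ((W ⊓ U : X.Opens) : Set X) = U.ι '' (U.ι ⁻¹' (W : Set X)) := by
      rw [Set.image_preimage_eq_inter_range, Scheme.Opens.range_ι]; rfl
    rw [e]
    exact (U.ι.isCompact_preimage hW.isCompact).image U.ι.continuous
  have hx : ∀ x : (W ⊓ U : X.Opens), ∃ g : Γ(X, W), X.basicOpen g ≤ W ⊓ U ∧ (x : X) ∈ X.basicOpen g :=
    fun x => hW.exists_basicOpen_le x x.2.1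
  choose g₀ hg₀ hxg₀ using hx
  obtain ⟨t, ht⟩ := hWU.elim_finite_subcover (fun x : (W ⊓ U : X.Opens) => (X.basicOpen (g₀ x) : Set X))
    (fun x => (X.basicOpen (g₀ x)).2) (fun x hx => Set.mem_iUnion.mpr ⟨⟨x, hx⟩, hxg₀ ⟨x, hx⟩⟩)
  let g : Fin t.card → Γ(X, W) := fun k => g₀ (t.equivFin.symm k).1
  have hg : ∀ k, X.basicOpen (g k) ≤ W ⊓ U := fun k => hg₀ _
  have hcov : f ⁻¹ᵁ W ≤ ⨆ k, V.basicOpen (f.app W (g k)) := fun x hx => by
    obtain ⟨z, hzt, hz⟩ := Set.mem_iUnion₂.mp (ht (⟨hx, (h x).2⟩ : f x ∈ W ⊓ U))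
    refine Opens.mem_iSup.mpr ⟨t.equivFin ⟨z, hzt⟩, ?_⟩
    rw [← Scheme.preimage_basicOpen]
    show f x ∈ X.basicOpen (g₀ (t.equivFin.symm (t.equivFin ⟨z, hzt⟩)).1)
    rw [Equiv.symm_apply_apply]; exact hz
  have hY : IsAffineOpen (π ⁻¹ᵁ W) := hW.preimage π
  haveI : IsNoetherianRing Γ(f.normalization, π ⁻¹ᵁ W) :=
    haveI : IsNoetherianRing Γ(V, f ⁻¹ᵁ W) := IsNoetherianRing.of_finite Γ(X, W) _
    isNoetherianRing_of_ringEquiv Γ(V, f ⁻¹ᵁ W) e.symm
  letI := TopCat.Presheaf.algebra_section_stalk f.normalization.presheaf (⟨y, hyW⟩ : π ⁻¹ᵁ W)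
  let q := (hY.primeIdealOf ⟨y, hyW⟩).asIdeal
  haveI : IsLocalization.AtPrime (f.normalization.presheaf.stalk y) q := hY.isLocalization_stalk ⟨y, hyW⟩
  let es := IsLocalization.algEquiv q.primeCompl (f.normalization.presheaf.stalk y) (Localization.AtPrime q)
  rw [CAlgH3.depth_ringEquiv es.toRingEquiv]
  refine two_le_depth (fun k => π.app W (g k)) ?_ ?_ q fun k => ?_
  · intro b hb
    refine e.injective ((eq_zero_of_pow_mul _ hcov (e b) fun k => ?_).trans (map_zero e).symm)
    obtain ⟨n, hn⟩ := hb k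
    exact ⟨n, by rw [← he, ← map_pow, ← map_mul, hn, map_zero]⟩
  · intro N c hc
    obtain ⟨a, ha⟩ := glue_pow _ hcov N (fun k => e (c k)) fun k l => by
      simp only [← he, ← map_pow, ← map_mul]
      exact congrArg e (by simp only [map_pow]; exact hc k l)
    refine ⟨e.symm a, fun k => e.injective ?_⟩
    rw [map_mul, map_pow, he, e.apply_symm_apply, ha]
  · by_contra hk
    have : y ∈ f.normalization.basicOpen (π.app W (g k)) := by
      have h1 : hY.primeIdealOf ⟨y, hyW⟩ ∈ hY.fromSpec ⁻¹ᵁ f.normalization.basicOpen (π.app W (g k)) := by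
        rw [hY.fromSpec_preimage_basicOpen]; exact hk
      have h2 : hY.fromSpec (hY.primeIdealOf ⟨y, hyW⟩) = y := hY.fromSpec_primeIdealOf ⟨y, hyW⟩
      have h3 : hY.fromSpec (hY.primeIdealOf ⟨y, hyW⟩) ∈ f.normalization.basicOpen (π.app W (g k)) := h1
      rwa [h2] at h3
    rw [← Scheme.preimage_basicOpen] at this
    exact hy (hg k this).2

/-- The normalization restricts to the given cover over `U`. -/
theorem exists_pullback_iso :
    ∃ e : pullback (h ≫ U.ι).fromNormalization U.ι ≅ V, e.hom ≫ h = pullback.snd _ _ := by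
  set f := h ≫ U.ι with hf
  have H : IsPullback (𝟙 V) h f U.ι := IsPullback.of_iso (IsPullback.of_hasPullback f U.ι)
    (asIso (pullback.fst f U.ι)) (Iso.refl _) (Iso.refl _) (Iso.refl _)
    (by simp) (by
      simp only [Iso.refl_hom, Category.comp_id, asIso_hom]
      rw [← cancel_mono U.ι, ← pullback.condition, Category.assoc]) (by simp) (by simp)
  haveI : IsFinite (pullback.snd f U.ι) := by
    rw [← H.isoPullback_inv_snd]
    infer_instance
  refine ⟨(asIso (f.normalizationPullback U.ι)).symm ≪≫ (asIso (pullback.snd f U.ι).toNormalization).symm ≪≫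
    H.isoPullback.symm, ?_⟩
  simp only [Iso.trans_hom, Iso.symm_hom, asIso_inv, Category.assoc]
  rw [H.isoPullback_inv_snd, IsIso.inv_comp_eq, IsIso.inv_comp_eq, Scheme.Hom.normalizationPullback_snd,
    Scheme.Hom.toNormalization_fromNormalization]

end Groth.Agent.FEtFF.Pushforward

namespace Groth.Agent.FEtFF.Pushforward
open AlgebraicGeometry CategoryTheory

theorem etale_fromNormalization_app {X Y : Scheme.{u}} (f : X ⟶ Y) [QuasiCompact f] [QuasiSeparated f]
    {W : Y.Opens} (hW : IsAffineOpen W) (hfin : (f.app W).hom.Finite) (het : (f.app W).hom.Etale) :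
    (f.fromNormalization.app W).hom.Etale := by
  letI := (f.app W).hom.toAlgebra
  rw [f.fromNormalization_app hW]
  haveI : Module.Finite Γ(Y, W) Γ(X, f ⁻¹ᵁ W) := hfin
  haveI : Algebra.Etale Γ(Y, W) Γ(X, f ⁻¹ᵁ W) := het
  have htop : integralClosure Γ(Y, W) Γ(X, f ⁻¹ᵁ W) = ⊤ :=
    eq_top_iff.mpr fun b _ => Algebra.IsIntegral.isIntegral b
  haveI : Algebra.Etale Γ(Y, W) (integralClosure Γ(Y, W) Γ(X, f ⁻¹ᵁ W)) :=
    Algebra.Etale.of_equiv ((Subalgebra.equivOfEq _ _ htop).trans Subalgebra.topEquiv).symm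
  exact RingHom.Etale.respectsIso.1 _ (f.normalizationObjIso hW).symm.commRingCatIsoToRingEquiv
    (RingHom.etale_algebraMap.mpr inferInstance)

end Groth.Agent.FEtFF.Pushforward
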