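import Groth.Prelude.Def_FEt
import Groth.Agent.FEtFF.BasicOpenCover
import Groth.Agent.FEtFF.FormalAlgebra
import Groth.Agent.FEtFF.PushforwardDepth
import Groth.Agent.FEtFF.Punctured
import Mathlib.AlgebraicGeometry.Pullbacks

/-!
# Finite étale covers of a punctured spectrum are determined by their restriction to a hypersurface

For a Noetherian local ring `A` which is `f`-adically complete and has a regular triple in the
maximal ideal, the global sections of two finite étale covers of the punctured spectrum which are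
isomorphic over `V(f)` are isomorphic.
-/

set_option autoImplicit false
set_option linter.style.haveILetI false
set_option backward.isDefEq.respectTransparency.types false
set_option backward.isDefEq.respectTransparency false
universe u

open CategoryTheory CategoryTheory.Limits AlgebraicGeometry

namespace Groth.Agent.FEtFF.Hypersurface
open Cech

theorem isPushout_quotient {A E : Type u} [CommRing A] [CommRing E] [Algebra A E] (f : A)
    (hle : Ideal.span {f} ≤ (I f E 1).comap (algebraMap A E)) :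
    IsPushout (CommRingCat.ofHom (algebraMap A E)) (CommRingCat.ofHom (Ideal.Quotient.mk (Ideal.span {f})))
      (CommRingCat.ofHom (Ideal.Quotient.mk (I f E 1))) (CommRingCat.ofHom (Ideal.quotientMap _ (algebraMap A E) hle)) := by
  have sq : CommSq (CommRingCat.ofHom (algebraMap A E)) (CommRingCat.ofHom (Ideal.Quotient.mk (Ideal.span {f})))
      (CommRingCat.ofHom (Ideal.Quotient.mk (I f E 1))) (CommRingCat.ofHom (Ideal.quotientMap _ (algebraMap A E) hle)) :=
    ⟨by ext a; rfl⟩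
  refine IsPushout.of_isColimit' sq (PushoutCocone.isColimitAux' _ fun c => ?_)
  have hc : ∀ a, c.inl (algebraMap A E a) = c.inr (Ideal.Quotient.mk _ a) := fun a =>
    ConcreteCategory.congr_hom c.condition a
  have hI : I f E 1 ≤ RingHom.ker c.inl.hom := by
    rw [I, pow_one, Ideal.span_le, Set.singleton_subset_iff, SetLike.mem_coe, RingHom.mem_ker]
    show c.inl (algebraMap A E f) = 0
    rw [hc, Ideal.Quotient.eq_zero_iff_mem.2 (Ideal.mem_span_singleton_self f), map_zero]
  refine ⟨CommRingCat.ofHom (Ideal.Quotient.lift _ c.inl.hom hI), ?_, ?_, fun {m} h1 _ => ?_⟩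
  · ext e; rfl
  · ext a
    exact hc a
  · ext e
    obtain ⟨e, rfl⟩ := Ideal.Quotient.mk_surjective e
    exact ConcreteCategory.congr_hom h1 e

theorem resA_chart {A : Type u} [CommRing A] {V : Scheme.{u}} [CompactSpace V] [QuasiSeparatedSpace V]
    [Algebra A Γ(V, ⊤)] {a c : A} (hd : a ∣ c) (hs : IsAffineOpen (V.basicOpen (algebraMap A Γ(V, ⊤) a)))
    (ht : IsAffineOpen (V.basicOpen (algebraMap A Γ(V, ⊤) c))) :
    Spec.map (CommRingCat.ofHom (resA Γ(V, ⊤) hd).toRingHom) ≫ chart hs = chart ht :=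
  res_chart hs ht (map_dvd (algebraMap A Γ(V, ⊤)) hd)

variable {A : Type u} [CommRing A] [IsNoetherianRing A] [IsLocalRing A] {ι : Type} [Finite ι] (g : ι → A)
  {ix iy iz : ι} (f : A) (H : RegTriple (g ix) (g iy) (g iz))
  (hgm : ∀ i, g i ∈ IsLocalRing.maximalIdeal A)
  (hgcov : ∀ p : Ideal A, p.IsPrime → p ≠ IsLocalRing.maximalIdeal A → ∃ i, g i ∉ p)
  (hdep : (2 : ℕ∞) ≤ _root_.LocCoh.depth A A)

/-- The structure map to `Spec A`. -/
noncomputable abbrev str {V : Scheme.{u}} (h : V ⟶ (FEt.puncturedSpec A : Scheme.{u})) :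
    V ⟶ Spec (CommRingCat.of A) := h ≫ (FEt.puncturedSpec A).ι

/-- The map `A → Γ(V)`. -/
noncomputable abbrev sect {V : Scheme.{u}} (h : V ⟶ (FEt.puncturedSpec A : Scheme.{u})) : A →+* Γ(V, ⊤) :=
  ((Scheme.ΓSpecIso (CommRingCat.of A)).inv ≫ (str h).appTop).hom

/-- The closed subscheme cut out by `f`. -/
noncomputable abbrev hyp : Spec (CommRingCat.of (A ⧸ Ideal.span {f})) ⟶ Spec (CommRingCat.of A) :=
  Spec.map (CommRingCat.ofHom (Ideal.Quotient.mk (Ideal.span {f})))

variable {V : Scheme.{u}} (h : V ⟶ (FEt.puncturedSpec A : Scheme.{u})) [IsFinite h] [Etale h]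

include hgm in
omit [Finite ι] [IsNoetherianRing A] in
theorem basicOpen_le (i : ι) : PrimeSpectrum.basicOpen (g i) ≤ FEt.puncturedSpec A := fun p hp hm => by
  simp only [Set.mem_singleton_iff] at hm
  subst hm
  exact hp (hgm i)

omit [Finite ι] [IsNoetherianRing A] in
theorem basicOpen_sect (a : A) : V.basicOpen (sect h a) = str h ⁻¹ᵁ PrimeSpectrum.basicOpen a := by
  show V.basicOpen ((str h).appTop ((Scheme.ΓSpecIso (CommRingCat.of A)).inv a)) = _
  rw [← Scheme.preimage_basicOpen_top, basicOpen_eq_of_affine]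

include hgm in
omit [Finite ι] [IsNoetherianRing A] in
theorem isAffineOpen_basicOpen (i : ι) : IsAffineOpen (V.basicOpen (sect h (g i))) := by
  rw [basicOpen_sect, str, Scheme.Hom.comp_preimage]
  refine IsAffineOpen.preimage ?_ h
  rw [← (FEt.puncturedSpec A).ι.isAffineOpen_iff_of_isOpenImmersion, Scheme.Hom.image_preimage_eq_opensRange_inf,
    Scheme.Opens.opensRange_ι, inf_eq_right.2 (basicOpen_le g hgm i)]
  exact IsAffineOpen.Spec_basicOpen _

include hgcov in
omit [Finite ι] [IsNoetherianRing A] in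
theorem iSup_basicOpen : ⨆ i, V.basicOpen (sect h (g i)) = ⊤ := by
  refine top_le_iff.1 fun v _ => ?_
  let p : PrimeSpectrum A := str h v
  have hp : p.asIdeal ≠ IsLocalRing.maximalIdeal A := fun e => (h v).2 (PrimeSpectrum.ext e)
  obtain ⟨i, hi⟩ := hgcov p.asIdeal p.2 hp
  refine TopologicalSpace.Opens.mem_iSup.2 ⟨i, ?_⟩
  rw [basicOpen_sect]
  exact hi

include hdep in
omit [Finite ι] in
theorem sect_finite : (sect h).Finite :=
  RingHom.finite_respectsIso.2 _ (Scheme.ΓSpecIso (CommRingCat.of A)).symm.commRingCatIsoToRingEquiv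
    (Pushforward.finite_app h (Hartogs.two_le_depth_stalk hdep) (isAffineOpen_top _))

include h in
omit [Finite ι] in
theorem compactSpace : CompactSpace V := by
  haveI : CompactSpace (FEt.puncturedSpec A : Scheme.{u}) := by
    haveI : QuasiCompact (FEt.puncturedSpec A).ι := inferInstance
    exact QuasiCompact.compactSpace_of_compactSpace (FEt.puncturedSpec A).ι
  exact QuasiCompact.compactSpace_of_compactSpace h

include h in
omit [Finite ι] [IsNoetherianRing A] in
theorem quasiSeparatedSpace : QuasiSeparatedSpace V :=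
  haveI : QuasiSeparated (str h) := inferInstance
  quasiSeparatedSpace_of_quasiSeparated (str h)

omit [Finite ι] [IsNoetherianRing A] in
theorem toSpecΓ_sect : str h = V.toSpecΓ ≫ Spec.map (CommRingCat.ofHom (sect h)) := by
  rw [show CommRingCat.ofHom (sect h) = (Scheme.ΓSpecIso (CommRingCat.of A)).inv ≫ (str h).appTop from rfl,
    Spec.map_comp, ← Category.assoc, ← Scheme.toSpecΓ_naturality, Category.assoc,
    toSpecΓ_SpecMap_ΓSpecIso_inv, Category.comp_id]

set_option maxHeartbeats 800000 in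
include H hgm hgcov hdep in
/-- Maps of global sections lifting a morphism over `V(f)`, existence and uniqueness. -/
theorem existsUnique_algHom [IsAdicComplete (Ideal.span {f}) A] {V' : Scheme.{u}}
    (h' : V' ⟶ (FEt.puncturedSpec A : Scheme.{u})) [IsFinite h'] [Etale h']
    (θ : pullback (str h) (hyp f) ⟶ pullback (str h') (hyp f))
    (hθ : θ ≫ pullback.snd _ _ = pullback.snd _ _) :
    ∃! γ : Γ(V', ⊤) →+* Γ(V, ⊤), γ.comp (sect h') = sect h ∧
      θ ≫ pullback.fst _ _ ≫ V'.toSpecΓ = pullback.fst _ _ ≫ V.toSpecΓ ≫ Spec.map (CommRingCat.ofHom γ) := by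
  haveI := compactSpace h
  haveI := quasiSeparatedSpace h
  haveI := compactSpace h'
  haveI := quasiSeparatedSpace h'
  letI := (sect h).toAlgebra
  letI := (sect h').toAlgebra
  haveI : Module.Finite A Γ(V, ⊤) := sect_finite hdep h
  have haff := isAffineOpen_basicOpen g hgm h
  have haff' := isAffineOpen_basicOpen g hgm h'
  have hcov := iSup_basicOpen g hgcov h
  have hchart : ∀ i, chart (haff i) ≫ str h =
      Spec.map (CommRingCat.ofHom (algebraMap A (Loc Γ(V, ⊤) (g i)))) := fun i => by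
    conv_lhs => rw [toSpecΓ_sect h, ← Category.assoc, chart_toSpecΓ, ← Spec.map_comp]
    rfl
  have hchart' : ∀ i, chart (haff' i) ≫ str h' =
      Spec.map (CommRingCat.ofHom (algebraMap A (Loc Γ(V', ⊤) (g i)))) := fun i => by
    conv_lhs => rw [toSpecΓ_sect h', ← Category.assoc, chart_toSpecΓ, ← Spec.map_comp]
    rfl
  have hetale : ∀ i, Algebra.Etale A (Loc Γ(V, ⊤) (g i)) := fun i => by
    have : Etale (Spec.map (CommRingCat.ofHom (algebraMap A (Loc Γ(V, ⊤) (g i))))) := by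
      rw [← hchart]; infer_instance
    exact RingHom.etale_algebraMap.1 ((HasRingHomProperty.Spec_iff (P := @Etale)).1 this)
  have hetale' : ∀ i, Algebra.Etale A (Loc Γ(V', ⊤) (g i)) := fun i => by
    have : Etale (Spec.map (CommRingCat.ofHom (algebraMap A (Loc Γ(V', ⊤) (g i))))) := by
      rw [← hchart']; infer_instance
    exact RingHom.etale_algebraMap.1 ((HasRingHomProperty.Spec_iff (P := @Etale)).1 this)
  haveI : ∀ i, Module.Flat A (Loc Γ(V, ⊤) (g i)) := fun i => haveI := hetale i; inferInstance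
  haveI : ∀ i, Algebra.FormallyEtale A (Loc Γ(V', ⊤) (g i)) := fun i => (hetale' i).formallyEtale
  have hM0 : ∀ x : Γ(V, ⊤), (∀ i, algebraMap Γ(V, ⊤) (Loc Γ(V, ⊤) (g i)) x = 0) → x = 0 :=
    fun x hx => eq_zero_of_forall_loc (fun i => sect h (g i)) hcov x hx
  have hM1 : ∀ m : ∀ i, Loc Γ(V, ⊤) (g i), (∀ i j, resA Γ(V, ⊤) (dvd_mul_right (g i) (g j)) (m i) =
      resA Γ(V, ⊤) (dvd_mul_left (g j) (g i)) (m j)) → ∃ x, ∀ i, algebraMap Γ(V, ⊤) _ x = m i :=
    fun m hm => exists_glue_loc (fun i => sect h (g i)) hcov m fun i j =>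
      ⟨sect h (g i * g j), map_dvd _ (dvd_mul_right (g i) (g j)), map_dvd _ (dvd_mul_left (g j) (g i)),
        le_of_eq (by rw [map_mul, Scheme.basicOpen_mul]), hm i j⟩
  let E : ι → Type u := fun i => Loc Γ(V, ⊤) (g i)
  have hle : ∀ c : A, Ideal.span {f} ≤ (I f (Loc Γ(V, ⊤) c) 1).comap (algebraMap A (Loc Γ(V, ⊤) c)) := fun c => by
    rw [I, pow_one, Ideal.span_le, Set.singleton_subset_iff, SetLike.mem_coe, Ideal.mem_comap]
    exact Ideal.mem_span_singleton_self _
  -- the charts of the closed subscheme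
  let mkE : ∀ c : A, Spec (CommRingCat.of (Loc Γ(V, ⊤) c ⧸ I f (Loc Γ(V, ⊤) c) 1)) ⟶
      Spec (CommRingCat.of (Loc Γ(V, ⊤) c)) := fun c => Spec.map (CommRingCat.ofHom (Ideal.Quotient.mk _))
  let snE : ∀ c : A, Spec (CommRingCat.of (Loc Γ(V, ⊤) c ⧸ I f (Loc Γ(V, ⊤) c) 1)) ⟶
      Spec (CommRingCat.of (A ⧸ Ideal.span {f})) := fun c => Spec.map (CommRingCat.ofHom (Ideal.quotientMap _ _ (hle c)))
  have hsq : ∀ c, IsPullback (mkE c) (snE c) (Spec.map (CommRingCat.ofHom (algebraMap A (Loc Γ(V, ⊤) c)))) (hyp f) :=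
    fun c => isPullback_SpecMap_of_isPushout _ _ _ _ (isPushout_quotient f (hle c))
  let c₁ : ∀ i, Spec (CommRingCat.of (E i ⧸ I f (E i) 1)) ⟶ pullback (str h) (hyp f) := fun i =>
    pullback.lift (mkE (g i) ≫ chart (haff i)) (snE (g i)) (by rw [Category.assoc, hchart]; exact (hsq _).w)
  let ψ : ∀ i, Spec (CommRingCat.of (E i ⧸ I f (E i) 1)) ⟶ Spec Γ(V', ⊤) := fun i =>
    c₁ i ≫ θ ≫ pullback.fst _ _ ≫ V'.toSpecΓ
  -- pieces jointly epimorphic
  have hjoint : ∀ {T : Scheme.{u}} (a b : pullback (str h) (hyp f) ⟶ T), (∀ i, c₁ i ≫ a = c₁ i ≫ b) → a = b := by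
    intro T a b hab
    let 𝒰 : V.OpenCover := Scheme.Cover.mkOfCovers ι (fun i => Spec (CommRingCat.of (E i)))
      (fun i => chart (haff i)) (fun v => by
        obtain ⟨i, hi⟩ := TopologicalSpace.Opens.mem_iSup.1 (hcov.ge (Set.mem_univ v))
        have : v ∈ Set.range (chart (haff i)) := by rw [range_chart]; exact hi
        obtain ⟨y, hy⟩ := this
        exact ⟨i, y, hy⟩) (fun i => inferInstanceAs (IsOpenImmersion (chart (haff i))))
    refine Scheme.Cover.hom_ext (𝒰.pullback₁ (pullback.fst (str h) (hyp f))) a b fun i => ?_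
    have H2 : IsPullback (mkE (g i)) (c₁ i) (chart (haff i)) (pullback.fst (str h) (hyp f)) := by
      refine IsPullback.of_bot (v₂₁ := pullback.snd (str h) (hyp f)) (v₂₂ := str h) (h₃₁ := hyp f) ?_ ?_
        (IsPullback.of_hasPullback (str h) (hyp f))
      · rw [pullback.lift_snd, hchart]; exact hsq (g i)
      · exact (pullback.lift_fst _ _ _).symm
    show pullback.fst (pullback.fst (str h) (hyp f)) (chart (haff i)) ≫ a = pullback.fst _ (chart (haff i)) ≫ b
    rw [← H2.flip.isoPullback_inv_fst, Category.assoc, Category.assoc, hab]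
  have hc₁fst : ∀ i, c₁ i ≫ pullback.fst _ _ ≫ V.toSpecΓ =
      Spec.map (CommRingCat.ofHom ((Ideal.Quotient.mk (I f (E i) 1)).comp (algebraMap Γ(V, ⊤) (E i)))) := fun i => by
    rw [← Category.assoc, pullback.lift_fst, Category.assoc, chart_toSpecΓ, ← Spec.map_comp]
    rfl
  -- the maps modulo `f`
  have hτA : ∀ i, (Spec.preimage (ψ i)).hom.comp (sect h') = algebraMap A (E i ⧸ I f (E i) 1) := fun i => by
    have e1 : Spec.map (CommRingCat.ofHom (sect h') ≫ Spec.preimage (ψ i)) =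
        Spec.map (CommRingCat.ofHom (algebraMap A (E i ⧸ I f (E i) 1))) := by
      rw [Spec.map_comp, Spec.map_preimage]
      simp only [ψ, Category.assoc]
      rw [← toSpecΓ_sect h', pullback.condition, ← Category.assoc θ, hθ, ← Category.assoc, pullback.lift_snd,
        ← Spec.map_comp]
      rfl
    exact congrArg (fun φ => φ.hom) (Spec.map_injective e1)
  let τ : ∀ i, Γ(V', ⊤) →ₐ[A] E i ⧸ I f (E i) 1 := fun i =>
    { (Spec.preimage (ψ i)).hom with commutes' := fun a => RingHom.congr_fun (hτA i) a }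
  have hτψ : ∀ i, Spec.map (CommRingCat.ofHom (τ i).toRingHom) = ψ i := fun i => Spec.map_preimage _
  obtain ⟨γ, hγ⟩ := exists_algHom_of_mod g f H hM0 hM1 τ fun i j x y y' hy hy' => by
    let k := g i * g j
    let r₁ := resA Γ(V, ⊤) (dvd_mul_right (g i) (g j))
    let r₂ := resA Γ(V, ⊤) (dvd_mul_left (g j) (g i))
    have hr : ∀ {c : A} (r : Loc Γ(V, ⊤) c →ₐ[A] Loc Γ(V, ⊤) k),
        I f (Loc Γ(V, ⊤) c) 1 ≤ (I f (Loc Γ(V, ⊤) k) 1).comap r := fun r => by
      rw [I, pow_one, Ideal.span_le, Set.singleton_subset_iff, SetLike.mem_coe, Ideal.mem_comap, AlgHom.commutes, I, pow_one]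
      exact Ideal.mem_span_singleton_self _
    let R₁ := Ideal.quotientMapₐ (I f (Loc Γ(V, ⊤) k) 1) r₁ (hr r₁)
    let R₂ := Ideal.quotientMapₐ (I f (Loc Γ(V, ⊤) k) 1) r₂ (hr r₂)
    have hk : IsAffineOpen (V.basicOpen (sect h k)) := by
      rw [map_mul, Scheme.basicOpen_mul]
      rw [← Scheme.basicOpen_res V (sect h (g j)) (homOfLE (le_top : V.basicOpen (sect h (g i)) ≤ ⊤)).op]
      exact (haff i).basicOpen _
    have e2 : Spec.map (CommRingCat.ofHom R₁.toRingHom) ≫ c₁ i = Spec.map (CommRingCat.ofHom R₂.toRingHom) ≫ c₁ j := by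
      apply pullback.hom_ext
      · simp only [Category.assoc, c₁, pullback.lift_fst, mkE]
        rw [← Category.assoc, ← Category.assoc, ← Spec.map_comp, ← Spec.map_comp]
        have f1 : CommRingCat.ofHom (Ideal.Quotient.mk (I f (E i) 1)) ≫ CommRingCat.ofHom R₁.toRingHom =
            CommRingCat.ofHom r₁.toRingHom ≫ CommRingCat.ofHom (Ideal.Quotient.mk (I f (Loc Γ(V, ⊤) k) 1)) := rfl
        have f2 : CommRingCat.ofHom (Ideal.Quotient.mk (I f (E j) 1)) ≫ CommRingCat.ofHom R₂.toRingHom =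
            CommRingCat.ofHom r₂.toRingHom ≫ CommRingCat.ofHom (Ideal.Quotient.mk (I f (Loc Γ(V, ⊤) k) 1)) := rfl
        rw [f1, f2, Spec.map_comp, Spec.map_comp, Category.assoc, Category.assoc]
        congr 1
        exact (resA_chart (dvd_mul_right (g i) (g j)) (haff i) hk).trans
          (resA_chart (dvd_mul_left (g j) (g i)) (haff j) hk).symm
      · simp only [Category.assoc, c₁, pullback.lift_snd, snE]
        rw [← Spec.map_comp, ← Spec.map_comp]
        congr 1
        ext a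
        show Ideal.Quotient.mk _ (r₁ (algebraMap A _ a)) = Ideal.Quotient.mk _ (r₂ (algebraMap A _ a))
        rw [AlgHom.commutes, AlgHom.commutes]
    have e3 := congrArg (· ≫ θ ≫ pullback.fst _ _ ≫ V'.toSpecΓ) e2
    simp only [Category.assoc] at e3
    rw [show c₁ i ≫ θ ≫ pullback.fst _ _ ≫ V'.toSpecΓ = ψ i from rfl,
      show c₁ j ≫ θ ≫ pullback.fst _ _ ≫ V'.toSpecΓ = ψ j from rfl, ← hτψ, ← hτψ, ← Spec.map_comp, ← Spec.map_comp] at e3
    have e4 : R₁ (τ i x) = R₂ (τ j x) := ConcreteCategory.congr_hom (Spec.map_injective e3) x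
    rw [← hy, ← hy'] at e4
    have := Ideal.mem_span_singleton.1 (Ideal.Quotient.eq.1 (e4 : Ideal.Quotient.mk _ (r₁ y) = Ideal.Quotient.mk _ (r₂ y')))
    rwa [pow_one] at this
  have hprop : ∀ i, c₁ i ≫ θ ≫ pullback.fst _ _ ≫ V'.toSpecΓ =
      c₁ i ≫ pullback.fst _ _ ≫ V.toSpecΓ ≫ Spec.map (CommRingCat.ofHom γ.toRingHom) := fun i => by
    rw [← Category.assoc (pullback.fst (str h) (hyp f)), ← Category.assoc (c₁ i) (pullback.fst _ _ ≫ V.toSpecΓ),
      hc₁fst, ← Spec.map_comp]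
    show ψ i = _
    rw [← hτψ]
    congr 1
    ext x
    exact (hγ i x).symm
  refine ⟨γ.toRingHom, ⟨RingHom.ext fun a => γ.commutes a, hjoint _ _ hprop⟩, ?_⟩
  rintro γ₁ ⟨h1, h2⟩
  let γ₁' : Γ(V', ⊤) →ₐ[A] Γ(V, ⊤) := { γ₁ with commutes' := fun a => RingHom.congr_fun h1 a }
  refine congrArg AlgHom.toRingHom (algHom_ext_of_mod g f H hM0 γ₁' γ fun i x => ?_)
  have e : c₁ i ≫ pullback.fst _ _ ≫ V.toSpecΓ ≫ Spec.map (CommRingCat.ofHom γ₁) = ψ i :=
    congrArg (c₁ i ≫ ·) h2.symm
  rw [← Category.assoc (pullback.fst (str h) (hyp f)), ← Category.assoc (c₁ i) (pullback.fst _ _ ≫ V.toSpecΓ),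
    hc₁fst, ← Spec.map_comp, ← hτψ] at e
  have e' : Ideal.Quotient.mk (I f (E i) 1) (algebraMap Γ(V, ⊤) (E i) (γ₁ x)) = τ i x :=
    ConcreteCategory.congr_hom (Spec.map_injective e) x
  rw [← hγ i x] at e'
  have := Ideal.mem_span_singleton.1 (Ideal.Quotient.eq.1 e')
  rwa [pow_one] at this

include H hgm hgcov hdep in
/-- Covers isomorphic over `V(f)` have isomorphic global sections. -/
theorem exists_ringEquiv [IsAdicComplete (Ideal.span {f}) A] {V' : Scheme.{u}}
    (h' : V' ⟶ (FEt.puncturedSpec A : Scheme.{u})) [IsFinite h'] [Etale h']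
    (θ : pullback (str h) (hyp f) ≅ pullback (str h') (hyp f))
    (hθ : θ.hom ≫ pullback.snd _ _ = pullback.snd _ _) :
    ∃ e : Γ(V', ⊤) ≃+* Γ(V, ⊤), ∀ a, e (sect h' a) = sect h a := by
  obtain ⟨γ, ⟨hγA, hγ⟩, -⟩ := existsUnique_algHom g f H hgm hgcov hdep h h' θ.hom hθ
  obtain ⟨δ, ⟨hδA, hδ⟩, -⟩ := existsUnique_algHom g f H hgm hgcov hdep h' h θ.inv (by rw [Iso.inv_comp_eq, hθ])
  have key : ∀ {W W' : Scheme.{u}} (k : W ⟶ (FEt.puncturedSpec A : Scheme.{u}))
      (k' : W' ⟶ (FEt.puncturedSpec A : Scheme.{u})) [IsFinite k] [Etale k] [IsFinite k'] [Etale k']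
      (η : pullback (str k) (hyp f) ≅ pullback (str k') (hyp f))
      (a : Γ(W', ⊤) →+* Γ(W, ⊤)) (b : Γ(W, ⊤) →+* Γ(W', ⊤))
      (_ : a.comp (sect k') = sect k) (_ : b.comp (sect k) = sect k')
      (_ : η.hom ≫ pullback.fst _ _ ≫ W'.toSpecΓ = pullback.fst _ _ ≫ W.toSpecΓ ≫ Spec.map (CommRingCat.ofHom a))
      (_ : η.inv ≫ pullback.fst _ _ ≫ W.toSpecΓ = pullback.fst _ _ ≫ W'.toSpecΓ ≫ Spec.map (CommRingCat.ofHom b)),
      a.comp b = RingHom.id _ := by
    intro W W' k k' _ _ _ _ η a b ha hb e1 e2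
    refine (existsUnique_algHom g f H hgm hgcov hdep k k (𝟙 _) (Category.id_comp _)).unique
      ⟨by rw [RingHom.comp_assoc, hb, ha], ?_⟩ ⟨RingHom.id_comp _, ?_⟩
    · rw [CommRingCat.ofHom_comp, Spec.map_comp, ← Category.assoc W.toSpecΓ,
        ← Category.assoc (pullback.fst (str k) (hyp f)), ← e1, Category.assoc, Category.assoc, ← e2,
        Iso.hom_inv_id_assoc, Category.id_comp]
    · rw [CommRingCat.ofHom_id, Spec.map_id]
      erw [Category.comp_id, Category.id_comp]
  refine ⟨RingEquiv.ofRingHom γ δ (key h h' θ γ δ hγA hδA hγ hδ) (key h' h θ.symm δ γ hδA hγA hδ hγ), fun a => ?_⟩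
  exact RingHom.congr_fun hγA a

end Groth.Agent.FEtFF.Hypersurface
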