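import Groth.Prelude.Def_FEt
import Groth.Agent.FEtFF.Hypersurface
import Groth.Agent.FEtFF.FlatEtale
import Groth.Agent.FEtFF.FlatExtend
import Mathlib.RingTheory.Etale.Locus

/-!
# Purity from purity of the local rings, global form
-/

set_option autoImplicit false
set_option linter.style.haveILetI false
set_option backward.isDefEq.respectTransparency.types false
set_option backward.isDefEq.respectTransparency false
universe u

open CategoryTheory CategoryTheory.Limits AlgebraicGeometry TopologicalSpace TensorProduct

namespace Groth.Agent.FEtFF.PurityGlobal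

theorem purity_exists {L : Type u} [CommRing L] [IsLocalRing L] (hpur : FEt.PurityHolds L) {V : Scheme.{u}}
    (h : V ⟶ (FEt.puncturedSpec L : Scheme.{u})) [IsFinite h] [Etale h] :
    ∃ (Y : Scheme.{u}) (y : Y ⟶ Spec (CommRingCat.of L)) (_ : IsFinite y) (_ : Etale y)
      (i : pullback y (FEt.puncturedSpec L).ι ≅ V), i.hom ≫ h = pullback.snd _ _ := by
  obtain ⟨Y, ⟨e⟩⟩ := hpur.mem_essImage (MorphismProperty.Over.mk ⊤ h ⟨‹_›, ‹_›⟩)
  exact ⟨Y.left, Y.hom, Y.prop.1, Y.prop.2,
    { hom := e.hom.left, inv := e.inv.left
      hom_inv_id := congrArg (fun k => k.left) e.hom_inv_id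
      inv_hom_id := congrArg (fun k => k.left) e.inv_hom_id }, FEtQuot.hom_w e.hom⟩

/-- A finite algebra which is étale on the punctured spectrum and has the sections of a cover. -/
theorem etale_of_purity {L : Type u} [CommRing L] [IsNoetherianRing L] [IsLocalRing L]
    (hdep : (2 : ℕ∞) ≤ _root_.LocCoh.depth L L) (hpur : FEt.PurityHolds L) (S : Type u) [CommRing S] [Algebra L S]
    [Module.Finite L S]
    (het : ∀ Q : PrimeSpectrum S, Q.asIdeal.comap (algebraMap L S) ≠ IsLocalRing.maximalIdeal L →
      Algebra.IsEtaleAt L Q.asIdeal)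
    (hbij : Function.Bijective
      ((pullback.fst (Spec.map (CommRingCat.ofHom (algebraMap L S))) (FEt.puncturedSpec L).ι).app ⊤)) :
    Algebra.Etale L S := by
  haveI : Module.FinitePresentation L S := Module.finitePresentation_of_finite L S
  haveI : Algebra.FinitePresentation L S := Algebra.FinitePresentation.of_finitePresentation L S
  let ζ := Spec.map (CommRingCat.ofHom (algebraMap L S))
  let UL := FEt.puncturedSpec L
  haveI : IsFinite ζ := (IsFinite.SpecMap_iff _).2 (RingHom.finite_algebraMap.2 ‹_›)
  haveI hetU : Etale (pullback.snd ζ UL.ι) := by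
    have hm : Etale ((ζ ⁻¹ᵁ UL).ι ≫ ζ) := by
      have hcov : ∀ z : (ζ ⁻¹ᵁ UL : Scheme.{u}), ∃ s : S, z.1 ∈ PrimeSpectrum.basicOpen s ∧
          PrimeSpectrum.basicOpen s ≤ ζ ⁻¹ᵁ UL := fun z => by
        obtain ⟨_, ⟨_, ⟨s, rfl⟩, rfl⟩, hzs, hle⟩ :=
          PrimeSpectrum.isBasis_basic_opens.exists_subset_of_mem_open z.2 (ζ ⁻¹ᵁ UL).2
        exact ⟨s, hzs, hle⟩
      choose s hzs hle using hcov
      have hle' : ∀ z, Set.range (Spec.map (CommRingCat.ofHom (algebraMap S (Localization.Away (s z))))) ⊆
          Set.range (ζ ⁻¹ᵁ UL).ι := fun z => by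
        rw [Scheme.Opens.range_ι]
        exact (PrimeSpectrum.localization_away_comap_range (Localization.Away (s z)) (s z)).trans_subset (hle z)
      let 𝒰 : (ζ ⁻¹ᵁ UL : Scheme.{u}).OpenCover := Scheme.Cover.mkOfCovers (ζ ⁻¹ᵁ UL : Scheme.{u})
        (fun z => Spec (CommRingCat.of (Localization.Away (s z))))
        (fun z => IsOpenImmersion.lift (ζ ⁻¹ᵁ UL).ι _ (hle' z)) (fun z => by
          have : z.1 ∈ Set.range (Spec.map (CommRingCat.ofHom (algebraMap S (Localization.Away (s z))))) :=
            (PrimeSpectrum.localization_away_comap_range (Localization.Away (s z)) (s z)).symm ▸ hzs z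
          obtain ⟨y, hy⟩ := this
          refine ⟨z, y, (ζ ⁻¹ᵁ UL).ι.isOpenEmbedding.injective ?_⟩
          rw [← Scheme.Hom.comp_apply, IsOpenImmersion.lift_fac]
          exact hy)
        (fun z => by
          haveI : IsOpenImmersion (IsOpenImmersion.lift (ζ ⁻¹ᵁ UL).ι _ (hle' z) ≫ (ζ ⁻¹ᵁ UL).ι) := by
            rw [IsOpenImmersion.lift_fac]; infer_instance
          exact IsOpenImmersion.of_comp _ (ζ ⁻¹ᵁ UL).ι)
      refine (IsZariskiLocalAtSource.iff_of_openCover (P := @Etale) 𝒰).2 fun z => ?_
      show Etale (IsOpenImmersion.lift (ζ ⁻¹ᵁ UL).ι _ (hle' z) ≫ (ζ ⁻¹ᵁ UL).ι ≫ ζ)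
      rw [IsOpenImmersion.lift_fac_assoc, ← Spec.map_comp]
      refine (HasRingHomProperty.Spec_iff (P := @Etale)).2 ?_
      show ((algebraMap S (Localization.Away (s z))).comp (algebraMap L S)).Etale
      rw [← IsScalarTower.algebraMap_eq, RingHom.etale_algebraMap, ← Algebra.basicOpen_subset_etaleLocus_iff_etale]
      exact fun Q hQ => het Q fun e => hle z hQ (PrimeSpectrum.ext e)
    haveI : Etale (ζ ∣_ UL) := by
      rw [← morphismRestrict_ι] at hm
      exact MorphismProperty.of_postcomp (W := @Etale) (W' := @Etale) _ UL.ι inferInstance hm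
    exact (MorphismProperty.cancel_left_of_respectsIso @AlgebraicGeometry.Etale.{u}
      (pullbackRestrictIsoRestrict ζ UL).inv _).mp (by show Etale (ζ ∣_ UL); infer_instance)
  obtain ⟨Y, y, _, _, i, hi⟩ := purity_exists hpur (pullback.snd ζ UL.ι)
  -- compare sections
  let SL := Spec (CommRingCat.of L)
  haveI : IsAffine Y := isAffine_of_isAffineHom y
  haveI : IsIso (pullback.fst ζ UL.ι).appTop := (ConcreteCategory.isIso_iff_bijective _).mpr hbij
  haveI : IsIso (pullback.fst y UL.ι).appTop := (ConcreteCategory.isIso_iff_bijective _).mpr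
    (bijective_app UL.ι y (IsPullback.of_hasPullback y UL.ι) (isAffineOpen_top SL)
      (Hartogs.bijective_ι_app _ (Hartogs.two_le_depth_stalk hdep) (isAffineOpen_top SL)))
  haveI : IsIso i.inv.appTop := by
    refine ⟨i.hom.appTop, ?_, ?_⟩ <;> rw [← Scheme.Hom.comp_appTop]
    · rw [i.hom_inv_id]; rfl
    · rw [i.inv_hom_id]; rfl
  have he : pullback.fst ζ UL.ι ≫ ζ = i.inv ≫ pullback.fst y UL.ι ≫ y := by
    rw [pullback.condition, pullback.condition, ← hi, Category.assoc, i.inv_hom_id_assoc]
  have h2 : y.appTop.hom.Etale := by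
    have := y.etale_appLE (isAffineOpen_top SL) ((isAffineOpen_top SL).preimage y) le_rfl
    rwa [← Scheme.Hom.app_eq_appLE] at this
  have h3 : (pullback.fst ζ UL.ι ≫ ζ).appTop.hom.Etale := by
    rw [he, Scheme.Hom.comp_appTop, Scheme.Hom.comp_appTop]
    exact RingHom.Etale.respectsIso.1 _ (asIso i.inv.appTop).commRingCatIsoToRingEquiv
      (RingHom.Etale.respectsIso.1 _ (asIso (pullback.fst y UL.ι).appTop).commRingCatIsoToRingEquiv h2)
  have h4 : ζ.appTop.hom.Etale := by
    rw [Scheme.Hom.comp_appTop] at h3
    have := RingHom.Etale.respectsIso.1 _ (asIso (pullback.fst ζ UL.ι).appTop).symm.commRingCatIsoToRingEquiv h3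
    convert this using 1
    ext r
    exact (ConcreteCategory.congr_hom (asIso (pullback.fst ζ UL.ι).appTop).hom_inv_id _).symm
  haveI : Etale ζ := (HasRingHomProperty.iff_of_isAffine (P := @Etale)).2 h4
  exact RingHom.etale_algebraMap.1 ((HasRingHomProperty.Spec_iff (P := @Etale)).1 (inferInstance : Etale ζ))

set_option maxHeartbeats 1600000 in
/-- A finite morphism which is étale over `U`, satisfies `O = j_*O` and whose base has pure local rings
of depth at least two outside `U` is étale. -/
theorem etale_of_purityHolds {X Y : Scheme.{u}} [IsLocallyNoetherian X] (U : X.Opens)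
    (hU : ∀ x : X, x ∉ U → (2 : ℕ∞) ≤ _root_.LocCoh.depth (X.presheaf.stalk x) (X.presheaf.stalk x))
    (hpur : ∀ x : X, x ∉ U → FEt.PurityHolds (X.presheaf.stalk x))
    (π : Y ⟶ X) [IsFinite π] [Etale (pullback.snd π U.ι)]
    (hY : ∀ y : Y, π y ∉ U → (2 : ℕ∞) ≤ _root_.LocCoh.depth (Y.presheaf.stalk y) (Y.presheaf.stalk y)) :
    Etale π := by
  haveI : IsLocallyNoetherian Y := LocallyOfFiniteType.isLocallyNoetherian π
  have hall : ∀ W : X.affineOpens, Etale (π ∣_ W.1) := by
    intro ⟨W, hW⟩
    haveI : IsAffine W.toScheme := hW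
    haveI : IsAffine (π ⁻¹ᵁ W).toScheme := hW.preimage π
    let A := Γ(X, W)
    let B := Γ(Y, π ⁻¹ᵁ W)
    haveI : IsNoetherianRing A := IsLocallyNoetherian.component_noetherian ⟨W, hW⟩
    letI := (π.app W).hom.toAlgebra
    haveI : Module.Finite A B := IsFinite.finite_app π W hW
    haveI : Module.FinitePresentation A B := Module.finitePresentation_of_finite A B
    haveI : Algebra.FinitePresentation A B := Algebra.FinitePresentation.of_finitePresentation A B
    have hptV : ∀ q : PrimeSpectrum A, hW.fromSpec q ∈ W := fun q => by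
      rw [← SetLike.mem_coe, ← hW.range_fromSpec]; exact ⟨_, rfl⟩
    have main : ∀ p : PrimeSpectrum A, ∀ Q : PrimeSpectrum B,
        Q.asIdeal.comap (algebraMap A B) = p.asIdeal → Algebra.IsEtaleAt A Q.asIdeal := by
      intro p
      induction hn : p.asIdeal.height using WellFoundedLT.induction generalizing p with
      | _ n ih =>
      intro Q hQ
      by_cases hxU : hW.fromSpec p ∈ U
      · obtain ⟨g, hgU, hxg⟩ := hW.exists_basicOpen_le (V := W ⊓ U) ⟨hW.fromSpec p, hptV p, hxU⟩ (hptV p)
        have hgp : g ∉ p.asIdeal := by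
          have : p ∈ hW.fromSpec ⁻¹ᵁ X.basicOpen g := hxg
          rw [hW.fromSpec_preimage_basicOpen] at this
          exact this
        let S' := Γ(Y, π ⁻¹ᵁ X.basicOpen g)
        let R' := Γ(X, X.basicOpen g)
        have het := FlatEtale.etale_app_of_le π U (hW.basicOpen g) (le_trans hgU inf_le_right)
        haveI := hW.isLocalization_basicOpen g
        letI : Algebra R' S' := (π.app (X.basicOpen g)).hom.toAlgebra
        letI : Algebra B S' := (Y.presheaf.map (homOfLE (π.preimage_mono (X.basicOpen_le g))).op).hom.toAlgebra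
        letI : Algebra A S' := ((π.app W) ≫ Y.presheaf.map (homOfLE (π.preimage_mono (X.basicOpen_le g))).op).hom.toAlgebra
        haveI : IsScalarTower A B S' := .of_algebraMap_eq fun _ => rfl
        haveI : IsScalarTower A R' S' := .of_algebraMap_eq fun a => by
          show _ = π.app (X.basicOpen g) (X.presheaf.map (homOfLE (X.basicOpen_le g)).op a)
          exact (ConcreteCategory.congr_hom (π.naturality (homOfLE (X.basicOpen_le g)).op) a).symm
        haveI : IsLocalization.Away (π.app W g) S' :=
          (hW.preimage π).isLocalization_of_eq_basicOpen (π.app W g) _ (π.preimage_basicOpen g)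
        haveI : Algebra.Etale R' S' := het
        haveI : Algebra.Etale A R' := Algebra.Etale.of_isLocalizationAway g
        haveI : Algebra.Etale A S' := Algebra.Etale.comp A R' S'
        haveI : Algebra.Etale A (Localization.Away (algebraMap A B g)) := Algebra.Etale.of_equiv
          ((IsLocalization.algEquiv (Submonoid.powers (π.app W g)) S' (Localization.Away (algebraMap A B g))).restrictScalars A)
        exact Algebra.basicOpen_subset_etaleLocus_iff_etale.2 ‹Algebra.Etale A (Localization.Away (algebraMap A B g))›
          (show algebraMap A B g ∉ Q.asIdeal from fun hm => hgp (hQ ▸ hm))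
      · let x := hW.fromSpec p
        let L := X.presheaf.stalk x
        letI := TopCat.Presheaf.algebra_section_stalk X.presheaf (⟨x, hptV p⟩ : W)
        haveI : IsLocalization.AtPrime L p.asIdeal := hW.isLocalization_stalk' p (hptV p)
        haveI : IsNoetherianRing L := IsLocalization.isNoetherianRing p.asIdeal.primeCompl L inferInstance
        letI : Algebra B (L ⊗[A] B) := Algebra.TensorProduct.rightAlgebra
        let S := L ⊗[A] B
        haveI : IsLocalization (Algebra.algebraMapSubmonoid B p.asIdeal.primeCompl) S :=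
          (Algebra.isLocalization_iff_isPushout p.asIdeal.primeCompl L).2 (TensorProduct.isPushout (R := A) (S := L) (T := B)).symm
        haveI : Algebra.FormallyEtale A L := Algebra.FormallyEtale.of_isLocalization p.asIdeal.primeCompl
        have hloc : ∀ QS : PrimeSpectrum S, IsLocalization.AtPrime (Localization.AtPrime QS.asIdeal)
            (QS.asIdeal.comap (algebraMap B S)) := fun QS =>
          IsLocalization.isLocalization_isLocalization_atPrime_isLocalization
            (Algebra.algebraMapSubmonoid B p.asIdeal.primeCompl) _ QS.asIdeal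
        have hcompat : ∀ QS : PrimeSpectrum S, (QS.asIdeal.comap (algebraMap B S)).comap (algebraMap A B) =
            (QS.asIdeal.comap (algebraMap L S)).comap (algebraMap A L) := fun QS => by
          rw [Ideal.comap_comap, Ideal.comap_comap, ← IsScalarTower.algebraMap_eq, ← IsScalarTower.algebraMap_eq]
        have hiff : ∀ QS : PrimeSpectrum S, Algebra.FormallyEtale A (Localization.AtPrime QS.asIdeal) ↔
            Algebra.IsEtaleAt A (QS.asIdeal.comap (algebraMap B S)) := fun QS => by
          haveI := hloc QS
          let e := (IsLocalization.algEquiv (QS.asIdeal.comap (algebraMap B S)).primeCompl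
            (Localization.AtPrime QS.asIdeal) (Localization.AtPrime (QS.asIdeal.comap (algebraMap B S)))).restrictScalars A
          exact ⟨fun _ => Algebra.FormallyEtale.of_equiv e, fun _ => Algebra.FormallyEtale.of_equiv e.symm⟩
        let mL := IsLocalRing.maximalIdeal L
        have hmL : mL.comap (algebraMap A L) = p.asIdeal := IsLocalization.AtPrime.comap_maximalIdeal L p.asIdeal
        have hetale : Algebra.Etale L S := by
          refine etale_of_purity (hU x hxU) (hpur x hxU) S (fun QS hne => ?_) ?_
          · have hlt : QS.asIdeal.comap (algebraMap L S) < mL :=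
              lt_of_le_of_ne (IsLocalRing.le_maximalIdeal (Ideal.IsPrime.ne_top inferInstance)) hne
            let p' : PrimeSpectrum A := ⟨(QS.asIdeal.comap (algebraMap L S)).comap (algebraMap A L), inferInstance⟩
            have hp' : p'.asIdeal < p.asIdeal := by
              refine lt_of_le_of_ne (hmL ▸ Ideal.comap_mono hlt.le) fun e => hlt.ne ?_
              rw [← IsLocalization.map_comap p.asIdeal.primeCompl L (QS.asIdeal.comap (algebraMap L S)),
                ← IsLocalization.map_comap p.asIdeal.primeCompl L mL]
              exact congrArg (Ideal.map (algebraMap A L)) (e.trans hmL.symm)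
            haveI := p'.2
            have := ih _ (hn ▸ Ideal.height_strict_mono_of_isPrime hp') p' rfl
              ⟨QS.asIdeal.comap (algebraMap B S), inferInstance⟩ (hcompat QS)
            haveI := (hiff QS).2 this
            exact Algebra.FormallyEtale.of_restrictScalars (R := A)
          · let G : X.Opens := U ⊔ ⟨(closure ({x} : Set X))ᶜ, isClosed_closure.isOpen_compl⟩
            let j := (π ⁻¹ᵁ G).ι
            have hYG : ∀ z : Y, z ∉ π ⁻¹ᵁ G →
                (2 : ℕ∞) ≤ _root_.LocCoh.depth (Y.presheaf.stalk z) (Y.presheaf.stalk z) :=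
              fun z hz => hY z fun hzU => hz (show π z ∈ (U : Set X) ∪ _ from Or.inl hzU)
            let q : Spec (CommRingCat.of S) ⟶ Y := Spec.map (CommRingCat.ofHom (algebraMap B S)) ≫ (hW.preimage π).fromSpec
            haveI : Module.Flat B S := IsLocalization.flat S (Algebra.algebraMapSubmonoid B p.asIdeal.primeCompl)
            haveI : AlgebraicGeometry.Flat (Spec.map (CommRingCat.ofHom (algebraMap B S))) :=
              (HasRingHomProperty.Spec_iff (P := @AlgebraicGeometry.Flat)).2 (RingHom.flat_algebraMap_iff.2 inferInstance)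
            have hb := FlatExtend.bijective_app_fst j (fun O hO => Hartogs.bijective_ι_app _ hYG hO) q ⊤
            let ζ := Spec.map (CommRingCat.ofHom (algebraMap L S))
            let ρ : Spec (CommRingCat.of L) ⟶ X := Spec.map (CommRingCat.ofHom (algebraMap A L)) ≫ hW.fromSpec
            have hqπ : q ≫ π = ζ ≫ ρ := by
              have e1 : (hW.preimage π).fromSpec ≫ π = Spec.map (π.app W) ≫ hW.fromSpec := by
                rw [Scheme.Hom.app_eq_appLE]; exact (hW.SpecMap_appLE_fromSpec π (hW.preimage π) le_rfl).symm
              simp only [q, ρ, ζ, Category.assoc]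
              rw [e1, ← Category.assoc, ← Category.assoc (Spec.map _) (Spec.map _), ← Spec.map_comp, ← Spec.map_comp]
              congr 2
              ext a
              show algebraMap B S (algebraMap A B a) = algebraMap L S (algebraMap A L a)
              rw [← IsScalarTower.algebraMap_apply, ← IsScalarTower.algebraMap_apply]
            have hρ : ρ ⁻¹ᵁ G = FEt.puncturedSpec L := by
              refine Opens.ext (Set.ext fun r => ?_)
              let r' : PrimeSpectrum A := PrimeSpectrum.comap (algebraMap A L) r
              show hW.fromSpec r' ∈ (U : Set X) ∪ (closure {x})ᶜ ↔ r ≠ IsLocalRing.closedPoint L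
              constructor
              · rintro hr rfl
                have hrp : r' = p := PrimeSpectrum.ext hmL
                rw [hrp] at hr
                rcases hr with hr | hr
                exacts [hxU hr, hr (subset_closure rfl)]
              · intro hr
                refine Or.inr fun hc => hr (PrimeSpectrum.ext ?_)
                have hsp : hW.fromSpec p ⤳ hW.fromSpec r' := specializes_iff_mem_closure.2 hc
                rw [hW.fromSpec.isOpenEmbedding.isInducing.specializes_iff, ← PrimeSpectrum.le_iff_specializes] at hsp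
                rw [← IsLocalization.map_comap p.asIdeal.primeCompl L r.asIdeal,
                  ← IsLocalization.map_comap p.asIdeal.primeCompl L (IsLocalRing.closedPoint L).asIdeal]
                refine congrArg (Ideal.map (algebraMap A L)) (le_antisymm ?_ ?_)
                · exact Ideal.comap_mono (IsLocalRing.le_maximalIdeal r.2.ne_top)
                · exact (le_of_eq hmL).trans hsp
            let e := IsOpenImmersion.isoOfRangeEq (pullback.fst ζ (FEt.puncturedSpec L).ι) (pullback.fst q j) (by
              rw [Scheme.Pullback.range_fst, Scheme.Pullback.range_fst, Scheme.Opens.range_ι, Scheme.Opens.range_ι,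
                ← hρ]
              show SetLike.coe ((ζ ≫ ρ) ⁻¹ᵁ G) = SetLike.coe ((q ≫ π) ⁻¹ᵁ G)
              rw [hqπ])
            haveI : IsIso e.hom := e.isIso_hom
            have fac : e.hom ≫ pullback.fst q j = pullback.fst ζ (FEt.puncturedSpec L).ι :=
              IsOpenImmersion.isoOfRangeEq_hom_fac _ _ _
            rw [← fac, Scheme.Hom.comp_app]
            exact (ConcreteCategory.bijective_of_isIso (e.hom.app _)).comp hb
        obtain ⟨QS, hQS⟩ : ∃ QS : PrimeSpectrum S, QS.asIdeal.comap (algebraMap B S) = Q.asIdeal := by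
          have disj : Disjoint ((Algebra.algebraMapSubmonoid B p.asIdeal.primeCompl : Submonoid B) : Set B) Q.asIdeal := by
            refine Set.disjoint_left.2 ?_
            rintro _ ⟨a, ha, rfl⟩ ha'
            exact ha (hQ ▸ ha')
          exact ⟨⟨_, IsLocalization.isPrime_of_isPrime_disjoint _ _ _ Q.2 disj⟩,
            IsLocalization.comap_map_of_isPrime_disjoint _ S Q.2 disj⟩
        haveI : Algebra.FormallyEtale L (Localization.AtPrime QS.asIdeal) :=
          Algebra.FormallyEtale.comp L S (Localization.AtPrime QS.asIdeal)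
        have := (hiff QS).1 (Algebra.FormallyEtale.comp A L (Localization.AtPrime QS.asIdeal))
        convert this using 1
        exact hQS.symm
    have key : Algebra.Etale A B := Algebra.etaleLocus_eq_univ_iff_etale.1 (Set.eq_univ_of_forall fun Q =>
      main ⟨Q.asIdeal.comap (algebraMap A B), inferInstance⟩ Q rfl)
    rw [HasRingHomProperty.iff_of_isAffine (P := @AlgebraicGeometry.Etale.{u})]
    have hk : (π.app W).hom.Etale := key
    rw [morphismRestrict_appTop]
    rw [← Scheme.Opens.ι_image_top W] at hk
    exact RingHom.Etale.respectsIso.1 _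
      (asIso (Y.presheaf.map (eqToHom (image_morphismRestrict_preimage π W ⊤)).op)).commRingCatIsoToRingEquiv hk
  exact IsZariskiLocalAtTarget.of_iSup_eq_top (fun W : X.affineOpens => W.1) (iSup_affineOpens_eq_top X) hall

/-- Essential surjectivity from purity of the local rings of depth at least two. -/
theorem essSurj_of_purityHolds {X : Scheme.{u}} [IsLocallyNoetherian X] (U : X.Opens)
    (hU : ∀ x : X, x ∉ U → (2 : ℕ∞) ≤ _root_.LocCoh.depth (X.presheaf.stalk x) (X.presheaf.stalk x))
    (hpur : ∀ x : X, x ∉ U → FEt.PurityHolds (X.presheaf.stalk x)) : (FEt.restrict U.ι).EssSurj := by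
  refine ⟨fun V => ?_⟩
  haveI : IsFinite V.hom := V.prop.1
  haveI : Etale V.hom := V.prop.2
  haveI hπ := Pushforward.isFinite_fromNormalization V.hom hU
  obtain ⟨e, he⟩ := Pushforward.exists_pullback_iso (U := U) V.hom
  haveI : Etale (pullback.snd (V.hom ≫ U.ι).fromNormalization U.ι) := by rw [← he]; infer_instance
  have := etale_of_purityHolds U hU hpur _ (fun y hy => Pushforward.two_le_depth_normalization V.hom hU y hy)
  exact ⟨MorphismProperty.Over.mk ⊤ (V.hom ≫ U.ι).fromNormalization ⟨hπ, this⟩, ⟨MorphismProperty.Over.isoMk e he⟩⟩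

end Groth.Agent.FEtFF.PurityGlobal
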