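import Groth.Agent.FEtFF.ExtendPoint
import Groth.Agent.FEtFF.PurityGlobal
import Mathlib.Topology.NoetherianSpace

/-!
# Extending finite étale covers across points with pure local rings
-/

set_option autoImplicit false
set_option linter.style.haveILetI false
set_option backward.isDefEq.respectTransparency.types false
set_option backward.isDefEq.respectTransparency false
universe u

open CategoryTheory CategoryTheory.Limits AlgebraicGeometry TopologicalSpace

namespace Groth.Agent.FEtFF.PurityExtend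

/-- Every point outside an open has a generization outside all of whose proper generizations are inside. -/
theorem exists_maximal_generization {X : Scheme.{u}} [IsLocallyNoetherian X] {U : X.Opens} {z : X} (hz : z ∉ U) :
    ∃ x : X, x ⤳ z ∧ x ∉ U ∧ ∀ w : X, w ⤳ x → w ≠ x → w ∈ U := by
  let ρ := X.fromSpecStalk z
  obtain ⟨I, hI⟩ := (PrimeSpectrum.isClosed_iff_zeroLocus_ideal _).1 ((ρ ⁻¹ᵁ U).2.isClosed_compl)
  have hm : IsLocalRing.closedPoint (X.presheaf.stalk z) ∈ PrimeSpectrum.zeroLocus (I : Set (X.presheaf.stalk z)) := by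
    rw [← hI]
    show ρ (IsLocalRing.closedPoint _) ∉ U
    rwa [Scheme.fromSpecStalk_closedPoint]
  obtain ⟨p, hp, -⟩ := Ideal.exists_minimalPrimes_le (J := IsLocalRing.maximalIdeal (X.presheaf.stalk z))
    (fun r hr => hm hr)
  let q : PrimeSpectrum (X.presheaf.stalk z) := ⟨p, hp.1.1⟩
  refine ⟨ρ q, Scheme.range_fromSpecStalk.le ⟨q, rfl⟩, fun h => ?_, fun w hw hne => ?_⟩
  · have : q ∈ PrimeSpectrum.zeroLocus (I : Set (X.presheaf.stalk z)) := hp.1.2
    rw [← hI] at this
    exact this h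
  · have hwz : w ⤳ z := hw.trans (Scheme.range_fromSpecStalk.le ⟨q, rfl⟩)
    obtain ⟨q', hq'⟩ := Scheme.range_fromSpecStalk.ge hwz
    by_contra hwU
    have hsp : q' ⤳ q := by
      rw [← ρ.isEmbedding.isInducing.specializes_iff]
      exact hq'.symm ▸ hw
    have hle : q'.asIdeal ≤ p := (PrimeSpectrum.le_iff_specializes q' q).2 hsp
    have hmem : q' ∈ PrimeSpectrum.zeroLocus (I : Set (X.presheaf.stalk z)) := by
      rw [← hI]
      exact fun h => hwU (hq' ▸ h)
    have : q' = q := PrimeSpectrum.ext (le_antisymm hle (hp.2 ⟨q'.2, hmem⟩ hle))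
    exact hne (hq' ▸ this ▸ rfl)

/-- A point outside an open all of whose proper generizations are inside. -/
theorem exists_maximal_point {X : Scheme.{u}} [IsLocallyNoetherian X] {U : X.Opens} (hU : U ≠ ⊤) :
    ∃ x : X, x ∉ U ∧ ∀ z : X, z ⤳ x → z ≠ x → z ∈ U := by
  obtain ⟨z, hz⟩ : ∃ z : X, z ∉ U := by
    by_contra! h
    exact hU (eq_top_iff.2 fun z _ => h z)
  obtain ⟨x, -, hx⟩ := exists_maximal_generization hz
  exact ⟨x, hx⟩

/-- The punctured local scheme at a maximal point of the complement is the preimage of the open. -/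
theorem isPullback_puncturedSpec {X : Scheme.{u}} {U : X.Opens} {x : X} (hx : x ∉ U)
    (hgen : ∀ z : X, z ⤳ x → z ≠ x → z ∈ U) :
    ∃ p1 : (FEt.puncturedSpec (X.presheaf.stalk x) : Scheme.{u}) ⟶ U,
      IsPullback p1 (FEt.puncturedSpec (X.presheaf.stalk x)).ι U.ι (X.fromSpecStalk x) := by
  let O := FEt.puncturedSpec (X.presheaf.stalk x)
  have key : ∀ r : Spec (X.presheaf.stalk x), X.fromSpecStalk x r ∈ U ↔ r ≠ IsLocalRing.closedPoint _ := fun r =>
    ⟨fun h e => hx (by rwa [e, Scheme.fromSpecStalk_closedPoint] at h), fun h => hgen _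
      (Scheme.range_fromSpecStalk.le ⟨r, rfl⟩) fun e => h ((X.fromSpecStalk x).isEmbedding.injective
        (e.trans Scheme.fromSpecStalk_closedPoint.symm))⟩
  have hr : Set.range (O.ι ≫ X.fromSpecStalk x) ⊆ Set.range U.ι := by
    rintro _ ⟨r, rfl⟩
    rw [Scheme.Opens.range_ι]
    exact (key _).2 r.2
  refine ⟨IsOpenImmersion.lift U.ι _ hr, IsOpenImmersion.isPullback _ O.ι U.ι _ (IsOpenImmersion.lift_fac _ _ hr).symm ?_⟩
  ext r
  simp only [Scheme.Opens.opensRange_ι]
  exact key r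

/-- If the local ring at a maximal point of the complement is pure, covers extend to a larger open. -/
theorem exists_extension_of_purityHolds {X : Scheme.{u}} [IsLocallyNoetherian X] {U : X.Opens} {x : X}
    (hx : x ∉ U) (hgen : ∀ z : X, z ⤳ x → z ≠ x → z ∈ U) (hpur : FEt.PurityHolds (X.presheaf.stalk x))
    {V : Scheme.{u}} (v : V ⟶ U) [IsFinite v] [Etale v] :
    ∃ (N : X.Opens) (V' : Scheme.{u}) (v' : V' ⟶ (U ⊔ N : X.Opens)) (a : V ⟶ V'),
      x ∈ N ∧ IsFinite v' ∧ Etale v' ∧ IsPullback a v v' (X.homOfLE le_sup_left) := by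
  obtain ⟨p1, hP⟩ := isPullback_puncturedSpec hx hgen
  obtain ⟨W, w, hwf, hwe, i, hi⟩ := PurityGlobal.purity_exists hpur (pullback.snd v p1)
  refine ExtendPoint.exists_extension_at U x v w hP (IsPullback.of_hasPullback v p1)
    (r1 := i.inv ≫ pullback.fst _ _) ?_
  refine IsPullback.of_iso_pullback ⟨?_⟩ i.symm rfl ?_
  · rw [Category.assoc, pullback.condition, ← hi, Category.assoc, i.inv_hom_id_assoc]
  · exact (Iso.inv_comp_eq i).2 hi.symm

set_option maxHeartbeats 400000 in
/-- Essential surjectivity of restriction on a Noetherian scheme with pure local rings at the complement. -/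
theorem essSurj_of_purity_noetherian {X : Scheme.{u}} [IsNoetherian X] (U : X.Opens)
    (h : ∀ x : X, x ∉ U → FEt.PurityHolds (X.presheaf.stalk x)) : (FEt.restrict U.ι).EssSurj := by
  refine ⟨fun V₀ => ?_⟩
  let S : Set X.Opens := {U' | ∃ (hle : U ≤ U') (V' : Scheme.{u}) (v' : V' ⟶ U') (a : V₀.left ⟶ V'),
    IsFinite v' ∧ Etale v' ∧ IsPullback a V₀.hom v' (X.homOfLE hle)}
  have hS : U ∈ S := ⟨le_rfl, _, V₀.hom, 𝟙 _, V₀.prop.1, V₀.prop.2, by
    rw [X.homOfLE_rfl]; exact IsPullback.id_horiz V₀.hom⟩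
  obtain ⟨U', ⟨hle, V', v', a, hf, he, sq⟩, hmax⟩ := (wellFounded_gt (α := X.Opens)).has_min S ⟨U, hS⟩
  rcases eq_or_ne U' ⊤ with rfl | hne
  · haveI : IsIso (⊤ : X.Opens).ι := X.topIso.isIso_hom
    haveI : IsFinite (v' ≫ (⊤ : X.Opens).ι) := inferInstance
    haveI : Etale (v' ≫ (⊤ : X.Opens).ι) := inferInstance
    have sq' : IsPullback a V₀.hom (v' ≫ (⊤ : X.Opens).ι) U.ι := by
      have := sq.paste_vert (IsPullback.of_vert_isIso_mono (fst := X.homOfLE hle) (snd := 𝟙 U.toScheme)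
        (f := (⊤ : X.Opens).ι) (g := U.ι) ⟨by simp⟩)
      simpa using this
    refine ⟨MorphismProperty.Over.mk ⊤ (v' ≫ (⊤ : X.Opens).ι) ⟨‹_›, ‹_›⟩,
      ⟨MorphismProperty.Over.isoMk sq'.isoPullback.symm ?_⟩⟩
    exact sq'.isoPullback_inv_snd
  · exfalso
    obtain ⟨x, hx, hgen⟩ := exists_maximal_point hne
    obtain ⟨N, V'', v'', b, hxN, hf', he', sq'⟩ :=
      exists_extension_of_purityHolds hx hgen (h x fun hxU => hx (hle hxU)) v'
    refine hmax (U' ⊔ N) ⟨hle.trans le_sup_left, V'', v'', a ≫ b, hf', he', ?_⟩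
      (lt_of_le_of_ne le_sup_left fun e => hx (e ▸ (Or.inr hxN : x ∈ U' ⊔ N)))
    rw [← X.homOfLE_homOfLE hle (le_sup_left : U' ≤ U' ⊔ N)]
    exact sq.paste_horiz sq'

end Groth.Agent.FEtFF.PurityExtend
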