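import Groth.Agent.FEtFF.ExtendDepthThree
import Groth.Agent.FEtFF.FlatEtale
import Groth.Agent.CAlgH3.ProjDim
import Groth.Agent.CAlgH3.RegularCore
import Mathlib.RingTheory.Regular.Flat

/-!
# Zariski–Nagata purity for regular local rings
-/

set_option autoImplicit false
set_option linter.style.haveILetI false
set_option backward.isDefEq.respectTransparency.types false
set_option backward.isDefEq.respectTransparency false
universe u

open CategoryTheory CategoryTheory.Limits AlgebraicGeometry

namespace Groth.Agent.FEtFF.Hypersurface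
open Cech

variable {A : Type u} [CommRing A] [IsNoetherianRing A] [IsLocalRing A]

theorem isRegPair_of_flat {x y : A} (hreg : RingTheory.Sequence.IsWeaklyRegular A [x, y]) (E : Type u) [CommRing E]
    [Algebra A E] [Module.Flat A E] :
    (∀ b : E, algebraMap A E x * b = 0 → b = 0) ∧
      ∀ b : E, algebraMap A E x ∣ algebraMap A E y * b → algebraMap A E x ∣ b := by
  have h := RingTheory.Sequence.IsWeaklyRegular.of_flat (S := E) hreg
  simp only [List.map_cons, List.map_nil] at h
  have h0 := h.regular_mod_prev 0 (by simp)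
  have h1 := h.regular_mod_prev 1 (by simp)
  rw [isSMulRegular_quotient_iff_mem_of_smul_mem] at h0 h1
  simp only [List.getElem_cons_zero, List.getElem_cons_succ, List.take_zero, List.take_succ_cons,
    Ideal.ofList_nil, Submodule.mem_bot, smul_eq_mul, Ideal.mul_top, Ideal.ofList_singleton,
    Ideal.mem_span_singleton] at h0 h1
  exact ⟨h0, h1⟩

theorem etale_loc (hdep : (2 : ℕ∞) ≤ _root_.LocCoh.depth A A) {V : Scheme.{u}}
    (h : V ⟶ (FEt.puncturedSpec A : Scheme.{u})) [IsFinite h] [Etale h] [CompactSpace V] [QuasiSeparatedSpace V]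
    {c : A} (hc : c ∈ IsLocalRing.maximalIdeal A) :
    letI := (sect h).toAlgebra
    Algebra.Etale A (Loc Γ(V, ⊤) c) := by
  letI := (sect h).toAlgebra
  have haff := isAffineOpen_basicOpen (ι := Unit) (fun _ => c) (fun _ => hc) h ()
  have hchart : chart haff ≫ str h = Spec.map (CommRingCat.ofHom (algebraMap A (Loc Γ(V, ⊤) c))) := by
    conv_lhs => rw [toSpecΓ_sect h, ← Category.assoc, chart_toSpecΓ, ← Spec.map_comp]
    rfl
  have : Etale (Spec.map (CommRingCat.ofHom (algebraMap A (Loc Γ(V, ⊤) c)))) := by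
    rw [← hchart]; infer_instance
  exact RingHom.etale_algebraMap.1 ((HasRingHomProperty.Spec_iff (P := @Etale)).1 this)

/-- The sections of a finite étale cover of the punctured spectrum have depth at least two. -/
theorem two_le_depth_sect (hdep : (2 : ℕ∞) ≤ _root_.LocCoh.depth A A) {V : Scheme.{u}}
    (h : V ⟶ (FEt.puncturedSpec A : Scheme.{u})) [IsFinite h] [Etale h] :
    letI := (sect h).toAlgebra
    (2 : ℕ∞) ≤ _root_.LocCoh.depth A Γ(V, ⊤) := by
  letI := (sect h).toAlgebra
  haveI := compactSpace h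
  haveI := quasiSeparatedSpace h
  let M := Γ(V, ⊤)
  haveI : Module.Finite A M := sect_finite hdep h
  rcases subsingleton_or_nontrivial M with hM | hM
  · rw [CAlgH3.depth_eq_top_of_subsingleton]; exact le_top
  obtain ⟨rs, hlen, hm, hreg⟩ := (LocCoh.natCast_le_idealDepth_iff_exists (IsLocalRing.maximalIdeal A) A
    CAlgH3.maximal_smul_top_ne_top 2).1 hdep
  match rs, hlen with
  | x :: y :: rest, _ =>
    have hxy : RingTheory.Sequence.IsWeaklyRegular A [x, y] := by
      rw [RingTheory.Sequence.isWeaklyRegular_cons_iff, RingTheory.Sequence.isWeaklyRegular_cons_iff]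
      have := hreg.toIsWeaklyRegular
      rw [RingTheory.Sequence.isWeaklyRegular_cons_iff, RingTheory.Sequence.isWeaklyRegular_cons_iff] at this
      exact ⟨this.1, this.2.1, RingTheory.Sequence.IsWeaklyRegular.nil _ _⟩
    obtain ⟨n, g, hg⟩ := Submodule.fg_iff_exists_fin_generating_family.1
      (IsNoetherian.noetherian (IsLocalRing.maximalIdeal A))
    have hgm : ∀ i, g i ∈ IsLocalRing.maximalIdeal A := fun i => hg ▸ Submodule.subset_span ⟨i, rfl⟩
    have hgcov : ∀ p : Ideal A, p.IsPrime → p ≠ IsLocalRing.maximalIdeal A → ∃ i, g i ∉ p := by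
      intro p hp hne
      by_contra hcon
      push Not at hcon
      refine hne (le_antisymm (IsLocalRing.le_maximalIdeal hp.ne_top) ?_)
      rw [← hg, Submodule.span_le]
      rintro _ ⟨i, rfl⟩
      exact hcon i
    have hcov := iSup_basicOpen g hgcov h
    have hfl : ∀ {c : A}, c ∈ IsLocalRing.maximalIdeal A → Module.Flat A (Loc M c) := fun hc =>
      haveI := etale_loc hdep h hc; inferInstance
    have key : ∀ {c : A}, c ∈ IsLocalRing.maximalIdeal A → (∀ b : Loc M c, algebraMap A _ x * b = 0 → b = 0) ∧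
        ∀ b : Loc M c, algebraMap A _ x ∣ algebraMap A _ y * b → algebraMap A _ x ∣ b := fun hc =>
      haveI := hfl hc; isRegPair_of_flat hxy _
    have hM0 : ∀ b : M, (∀ i, algebraMap M (Loc M (g i)) b = 0) → b = 0 :=
      fun b hb => eq_zero_of_forall_loc (fun i => sect h (g i)) hcov b hb
    have hx : ∀ b : M, algebraMap A M x * b = 0 → b = 0 := fun b hb => hM0 b fun i => (key (hgm i)).1 _ (by
      rw [IsScalarTower.algebraMap_apply A M (Loc M (g i)), ← map_mul, hb, map_zero])
    have hy : ∀ b : M, algebraMap A M x ∣ algebraMap A M y * b → algebraMap A M x ∣ b := by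
      intro b ⟨c, hc⟩
      have h1 : ∀ i, algebraMap A (Loc M (g i)) x ∣ algebraMap M _ b := fun i => (key (hgm i)).2 _ ⟨algebraMap M _ c, by
        rw [IsScalarTower.algebraMap_apply A M (Loc M (g i)), IsScalarTower.algebraMap_apply A M (Loc M (g i)),
          ← map_mul, ← map_mul, hc]⟩
      choose m hm using h1
      obtain ⟨c', hc'⟩ := exists_glue_loc (fun i => sect h (g i)) hcov m fun i j => by
        refine ⟨sect h (g i * g j), map_dvd _ (dvd_mul_right (g i) (g j)), map_dvd _ (dvd_mul_left (g j) (g i)),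
          le_of_eq (by rw [map_mul, Scheme.basicOpen_mul]), ?_⟩
        show resA M (dvd_mul_right (g i) (g j)) (m i) = resA M (dvd_mul_left (g j) (g i)) (m j)
        rw [← sub_eq_zero]
        refine (key (c := g i * g j) (Ideal.mul_mem_right _ _ (hgm i))).1 _ ?_
        let r₁ := resA M (dvd_mul_right (g i) (g j))
        let r₂ := resA M (dvd_mul_left (g j) (g i))
        have e1 : r₁ (algebraMap M _ b) = algebraMap A _ x * r₁ (m i) := by
          rw [hm i, map_mul r₁, r₁.commutes]
        have e2 : r₂ (algebraMap M _ b) = algebraMap A _ x * r₂ (m j) := by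
          rw [hm j, map_mul r₂, r₂.commutes]
        rw [mul_sub, ← e1, ← e2]
        exact sub_eq_zero.2 ((res_algebraMap (map_dvd (algebraMap A M) (dvd_mul_right (g i) (g j))) b).trans
          (res_algebraMap (map_dvd (algebraMap A M) (dvd_mul_left (g j) (g i))) b).symm)
      refine ⟨c', eq_of_sub_eq_zero (hM0 _ fun i => ?_)⟩
      rw [map_sub, map_mul]
      erw [hc' i]
      rw [hm i, IsScalarTower.algebraMap_apply A M (Loc M (g i)), sub_self]
    refine (LocCoh.natCast_le_idealDepth_iff_exists (IsLocalRing.maximalIdeal A) M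
      CAlgH3.maximal_smul_top_ne_top 2).2 ⟨[x, y], le_rfl, ?_, ⟨?_, ?_⟩⟩
    · simp only [List.mem_cons, List.not_mem_nil, or_false]
      rintro r (rfl | rfl)
      exacts [hm _ (by simp), hm _ (by simp)]
    · rw [RingTheory.Sequence.isWeaklyRegular_cons_iff, RingTheory.Sequence.isWeaklyRegular_singleton_iff,
        isSMulRegular_iff_right_eq_zero_of_smul, isSMulRegular_quotient_iff_mem_of_smul_mem]
      refine ⟨fun b hb => hx b (by rwa [← Algebra.smul_def]), fun b hb => ?_⟩
      rw [Submodule.mem_smul_pointwise_iff_exists] at hb ⊢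
      obtain ⟨c, -, hc⟩ := hb
      obtain ⟨c', hc'⟩ := hy b ⟨c, by rw [← Algebra.smul_def, ← Algebra.smul_def, hc]⟩
      exact ⟨c', trivial, by rw [Algebra.smul_def, hc']⟩
    · intro e
      refine CAlgH3.maximal_smul_top_ne_top (R := A) (M := M) (eq_top_iff.2 (e.le.trans (Submodule.smul_mono
        (Ideal.span_le.2 fun r hr => ?_) le_rfl)))
      simp only [List.mem_cons, List.not_mem_nil, or_false, Set.mem_setOf_eq] at hr
      rcases hr with rfl | rfl
      exacts [hm _ (by simp), hm _ (by simp)]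

theorem flat_fromNormalization_app {X Y : Scheme.{u}} (f : X ⟶ Y) [QuasiCompact f] [QuasiSeparated f]
    {W : Y.Opens} (hW : IsAffineOpen W) (hfin : (f.app W).hom.Finite) (hfl : (f.app W).hom.Flat) :
    (f.fromNormalization.app W).hom.Flat := by
  letI := (f.app W).hom.toAlgebra
  rw [f.fromNormalization_app hW]
  haveI : Module.Finite Γ(Y, W) Γ(X, f ⁻¹ᵁ W) := hfin
  haveI : Module.Flat Γ(Y, W) Γ(X, f ⁻¹ᵁ W) := hfl
  have htop : integralClosure Γ(Y, W) Γ(X, f ⁻¹ᵁ W) = ⊤ :=
    eq_top_iff.mpr fun b _ => Algebra.IsIntegral.isIntegral b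
  haveI : Module.Flat Γ(Y, W) (integralClosure Γ(Y, W) Γ(X, f ⁻¹ᵁ W)) :=
    Module.Flat.of_linearEquiv ((Subalgebra.equivOfEq _ _ htop).trans Subalgebra.topEquiv).toLinearEquiv
  exact RingHom.Flat.respectsIso.1 _ (f.normalizationObjIso hW).symm.commRingCatIsoToRingEquiv
    (RingHom.flat_algebraMap_iff.mpr inferInstance)

/-- Purity in dimension two. -/
theorem exists_extension_of_spanFinrank_eq_two [IsRegularLocalRing A]
    (hd : (IsLocalRing.maximalIdeal A).spanFinrank = 2) {V : Scheme.{u}}
    (h : V ⟶ (FEt.puncturedSpec A : Scheme.{u})) [IsFinite h] [Etale h] :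
    ∃ (Y : Scheme.{u}) (y : Y ⟶ Spec (CommRingCat.of A)) (_ : IsFinite y) (_ : Etale y)
      (i : pullback y (FEt.puncturedSpec A).ι ≅ V), i.hom ≫ h = pullback.snd _ _ := by
  have hdep : (2 : ℕ∞) ≤ _root_.LocCoh.depth A A := by rw [CAlgH3.depth_eq_spanFinrank, hd]; norm_num
  have hU := Hartogs.two_le_depth_stalk hdep
  let S := Spec (CommRingCat.of A)
  let U := FEt.puncturedSpec A
  haveI := compactSpace h
  haveI := quasiSeparatedSpace h
  letI := (sect h).toAlgebra
  haveI : Module.Finite A Γ(V, ⊤) := sect_finite hdep h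
  haveI : Module.Free A Γ(V, ⊤) := CAlgH3.free_of_le_depth 2 A hd _ (two_le_depth_sect hdep h)
  let eS := (Scheme.ΓSpecIso (CommRingCat.of A)).symm.commRingCatIsoToRingEquiv
  have hfl : (str h).appTop.hom.Flat := by
    have := RingHom.Flat.respectsIso.2 _ eS.symm (RingHom.flat_algebraMap_iff.mpr (inferInstance : Module.Flat A Γ(V, ⊤)))
    convert this using 1
    exact RingHom.ext fun r => congrArg _ (eS.apply_symm_apply r).symm
  haveI hπ := Pushforward.isFinite_fromNormalization h hU
  haveI : IsAffine (str h).normalization := isAffine_of_isAffineHom (str h).fromNormalization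
  haveI : AlgebraicGeometry.Flat (str h).fromNormalization := (HasRingHomProperty.iff_of_isAffine (P := @AlgebraicGeometry.Flat)).mpr
    (flat_fromNormalization_app _ (isAffineOpen_top S) (Pushforward.finite_app h hU (isAffineOpen_top S)) hfl)
  obtain ⟨i, hi⟩ := Pushforward.exists_pullback_iso (U := U) h
  haveI : Etale (pullback.snd (str h).fromNormalization U.ι) := by rw [← hi]; infer_instance
  exact ⟨_, (str h).fromNormalization, hπ, FlatEtale.etale_of_flat U hU _, i, hi⟩

/-- Zariski–Nagata purity. -/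
theorem exists_extension_of_regular : ∀ (d : ℕ) (A : Type u) [CommRing A] [IsRegularLocalRing A],
    2 ≤ d → (IsLocalRing.maximalIdeal A).spanFinrank = d → ∀ {V : Scheme.{u}}
    (h : V ⟶ (FEt.puncturedSpec A : Scheme.{u})) [IsFinite h] [Etale h],
    ∃ (Y : Scheme.{u}) (y : Y ⟶ Spec (CommRingCat.of A)) (_ : IsFinite y) (_ : Etale y)
      (i : pullback y (FEt.puncturedSpec A).ι ≅ V), i.hom ≫ h = pullback.snd _ _ := by
  intro d
  induction d using Nat.strong_induction_on with
  | _ d ih =>
  intro A _ _ h2 hd V h _ _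
  rcases eq_or_lt_of_le h2 with rfl | h3
  · exact exists_extension_of_spanFinrank_eq_two hd h
  obtain ⟨x, hxm, hx2⟩ : ∃ x ∈ IsLocalRing.maximalIdeal A, x ∉ IsLocalRing.maximalIdeal A ^ 2 := by
    by_contra! hcon
    have : IsLocalRing.maximalIdeal A = ⊥ := Submodule.eq_bot_of_le_smul_of_le_jacobson_bot
      (IsLocalRing.maximalIdeal A) (IsLocalRing.maximalIdeal A) (IsNoetherian.noetherian _)
      (by rw [smul_eq_mul, ← pow_two]; exact fun y hy => hcon y hy) (IsLocalRing.maximalIdeal_le_jacobson _)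
    rw [this] at hd
    simp at hd
    omega
  let Q := A ⧸ Ideal.span {x}
  haveI : IsRegularLocalRing Q := (CAlgH3.regular_quotient_of_notMem_sq hxm hx2).1
  have hd' : (IsLocalRing.maximalIdeal Q).spanFinrank = d - 1 := by
    exact Nat.eq_sub_of_add_eq ((CAlgH3.spanFinrank_quotient_add_one hxm hx2).trans hd)
  have hA : (3 : ℕ∞) ≤ _root_.LocCoh.depth A A := by rw [CAlgH3.depth_eq_spanFinrank, hd]; exact_mod_cast h3
  let U := FEt.puncturedSpec A
  let UQ := FEt.puncturedSpec Q
  let q := hyp x
  obtain ⟨k, HU⟩ : ∃ k : (UQ : Scheme.{u}) ⟶ U, IsPullback k UQ.ι U.ι q := by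
    have hU' : q ⁻¹ᵁ U = UQ := by
      refine TopologicalSpace.Opens.ext (Set.ext fun p => not_congr ?_)
      show PrimeSpectrum.comap (Ideal.Quotient.mk (Ideal.span {x})) p = IsLocalRing.closedPoint A ↔ p = IsLocalRing.closedPoint Q
      haveI : IsLocalHom (Ideal.Quotient.mk (Ideal.span {x})) := IsLocalHom.of_surjective _ Ideal.Quotient.mk_surjective
      have hc := IsLocalRing.comap_closedPoint (Ideal.Quotient.mk (Ideal.span {x}))
      exact ⟨fun hp => PrimeSpectrum.comap_injective_of_surjective _ Ideal.Quotient.mk_surjective (hp.trans hc.symm),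
        fun hp => hp ▸ hc⟩
    rw [← hU']; exact ⟨_, isPullback_morphismRestrict q U⟩
  let hQ : pullback h k ⟶ (UQ : Scheme.{u}) := pullback.snd h k
  obtain ⟨Y₀, y₀, _, _, i, hi⟩ := ih (d - 1) (by omega) Q (by omega) hd' hQ
  let a : pullback y₀ UQ.ι ⟶ V := i.hom ≫ pullback.fst h k
  have hah : a ≫ h = pullback.snd y₀ UQ.ι ≫ k := by
    rw [← hi, Category.assoc, Category.assoc, pullback.condition]
  have H1 : IsPullback a (pullback.fst y₀ UQ.ι ≫ y₀) (str h) q := by
    rw [pullback.condition]
    refine ((IsPullback.of_hasPullback h k).paste_vert HU).of_iso i.symm (Iso.refl _) (Iso.refl _) (Iso.refl _)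
      ?_ ?_ (by simp [str, U]) (by simp)
    · simp [a]
    · rw [Iso.refl_hom, Category.comp_id, Iso.symm_hom, Iso.eq_inv_comp, ← Category.assoc, hi]
  have H2 : IsPullback (pullback.fst y₀ UQ.ι) (a ≫ h) (y₀ ≫ q) U.ι := by
    rw [hah]
    exact (IsPullback.of_hasPullback y₀ UQ.ι).paste_vert HU.flip
  exact exists_extension_of_hypersurface hA x hxm h y₀ a (pullback.fst y₀ UQ.ι) H1 H2

end Groth.Agent.FEtFF.Hypersurface
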