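import Groth.Agent.FEtFF.FormalExtend
import Groth.Agent.FEtFF.PurityExtend
import Groth.Agent.FEtFF.PurityDescent
import Groth.Agent.FEtFF.PurityGlobal

/-!
# Transfers of purity for local rings

Invariance under ring isomorphisms, descent along faithfully flat local maps, and passage to a
hypersurface quotient of a complete ring.
-/

set_option autoImplicit false
set_option linter.style.haveILetI false
set_option backward.isDefEq.respectTransparency.types false
set_option backward.isDefEq.respectTransparency false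
universe u

open CategoryTheory CategoryTheory.Limits AlgebraicGeometry

namespace Groth.Agent.FEtFF.PurityTransfer

/-- An extension of a cover of the punctured spectrum gives an isomorphism of objects. -/
theorem purityHolds_of_forall (A : Type u) [CommRing A] [IsLocalRing A]
    (h : ∀ {V : Scheme.{u}} (v : V ⟶ (FEt.puncturedSpec A : Scheme.{u})) [IsFinite v] [Etale v],
      ∃ (Y : Scheme.{u}) (y : Y ⟶ Spec (CommRingCat.of A)) (_ : IsFinite y) (_ : Etale y)
        (l : V ⟶ Y), IsPullback l v y (FEt.puncturedSpec A).ι) : FEt.PurityHolds A := by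
  refine ⟨fun V => ?_⟩
  haveI : IsFinite V.hom := V.prop.1
  haveI : Etale V.hom := V.prop.2
  obtain ⟨Y, y, hy, hy', l, hl⟩ := h V.hom
  exact ⟨MorphismProperty.Over.mk ⊤ y ⟨hy, hy'⟩,
    ⟨MorphismProperty.Over.isoMk hl.isoPullback.symm hl.isoPullback_inv_snd⟩⟩

/-- The extension given by purity, as a cartesian square. -/
theorem exists_of_purityHolds {A : Type u} [CommRing A] [IsLocalRing A] (hA : FEt.PurityHolds A) {V : Scheme.{u}}
    (v : V ⟶ (FEt.puncturedSpec A : Scheme.{u})) [IsFinite v] [Etale v] :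
    ∃ (Y : Scheme.{u}) (y : Y ⟶ Spec (CommRingCat.of A)) (_ : IsFinite y) (_ : Etale y)
      (l : V ⟶ Y), IsPullback l v y (FEt.puncturedSpec A).ι := by
  obtain ⟨Y, y, hy, hy', i, hi⟩ := PurityGlobal.purity_exists hA v
  refine ⟨Y, y, hy, hy', i.inv ≫ pullback.fst _ _, ?_⟩
  refine (IsPullback.of_hasPullback y (FEt.puncturedSpec A).ι).of_iso i (Iso.refl _) (Iso.refl _) (Iso.refl _) ?_ ?_ (by simp) (by simp)
  · simp
  · simp [hi]

theorem comap_eq_closedPoint_iff {A B : Type u} [CommRing A] [CommRing B] [IsLocalRing A] [IsLocalRing B]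
    (φ : A →+* B) (h : IsLocalRing.maximalIdeal B ≤ ((IsLocalRing.maximalIdeal A).map φ).radical)
    [IsLocalHom φ] (p : PrimeSpectrum B) :
    PrimeSpectrum.comap φ p = IsLocalRing.closedPoint A ↔ p = IsLocalRing.closedPoint B := by
  refine ⟨fun hp => PrimeSpectrum.ext (le_antisymm (IsLocalRing.le_maximalIdeal p.2.ne_top) ?_), fun hp => ?_⟩
  · show IsLocalRing.maximalIdeal B ≤ p.asIdeal
    refine h.trans (p.2.isRadical.radical_le_iff.2 ?_)
    rw [Ideal.map_le_iff_le_comap]
    exact (congrArg PrimeSpectrum.asIdeal hp).ge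
  · subst hp; exact IsLocalRing.comap_closedPoint _

theorem exists_punctured_square {A B : Type u} [CommRing A] [CommRing B] [IsLocalRing A] [IsLocalRing B]
    (φ : A →+* B) (h : IsLocalRing.maximalIdeal B ≤ ((IsLocalRing.maximalIdeal A).map φ).radical) [IsLocalHom φ] :
    ∃ k : (FEt.puncturedSpec B : Scheme.{u}) ⟶ FEt.puncturedSpec A,
      IsPullback k (FEt.puncturedSpec B).ι (FEt.puncturedSpec A).ι (Spec.map (CommRingCat.ofHom φ)) := by
  have hU' : Spec.map (CommRingCat.ofHom φ) ⁻¹ᵁ FEt.puncturedSpec A = FEt.puncturedSpec B :=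
    TopologicalSpace.Opens.ext (Set.ext fun p => not_congr (comap_eq_closedPoint_iff φ h p))
  rw [← hU']
  exact ⟨_, isPullback_morphismRestrict _ _⟩

theorem purityHolds_of_ringEquiv {A B : Type u} [CommRing A] [CommRing B] [IsLocalRing A] [IsLocalRing B]
    (e : A ≃+* B) (hA : FEt.PurityHolds A) : FEt.PurityHolds B := by
  haveI : IsLocalHom (e.toRingHom : A →+* B) := ⟨fun a ha => by
    have := ha.map e.symm.toRingHom
    simpa using this⟩
  obtain ⟨k, HU⟩ := exists_punctured_square (e.toRingHom : A →+* B) (by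
    refine le_trans ?_ Ideal.le_radical
    intro b hb
    rw [← e.apply_symm_apply b]
    refine Ideal.mem_map_of_mem _ ?_
    rw [IsLocalRing.mem_maximalIdeal, mem_nonunits_iff] at hb ⊢
    exact fun h => hb (by simpa using h.map e.toRingHom))
  haveI : IsIso (Spec.map (CommRingCat.ofHom (e.toRingHom : A →+* B))) :=
    inferInstanceAs (IsIso (Scheme.Spec.mapIso e.toCommRingCatIso.op).hom)
  haveI : IsIso k := by
    rw [← HU.isoPullback_hom_fst]
    infer_instance
  refine purityHolds_of_forall B fun {V} v _ _ => ?_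
  obtain ⟨Y, y, hy, hy', l, hl⟩ := exists_of_purityHolds hA (v ≫ k)
  let ε := Spec.map (CommRingCat.ofHom (e.toRingHom : A →+* B))
  refine ⟨Y, y ≫ inv ε, inferInstance, inferInstance, l, ?_⟩
  refine hl.of_iso (Iso.refl _) (Iso.refl _) (asIso k).symm (asIso ε).symm (by simp) (by simp) (by simp [ε]) ?_
  rw [Iso.symm_hom, Iso.symm_hom, asIso_inv, asIso_inv, IsIso.comp_inv_eq, Category.assoc, IsIso.eq_inv_comp]
  exact HU.w

theorem purityHolds_of_faithfullyFlat {A B : Type u} [CommRing A] [IsNoetherianRing A] [IsLocalRing A] [CommRing B]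
    [IsLocalRing B] [Algebra A B] [Module.FaithfullyFlat A B] [IsLocalHom (algebraMap A B)]
    (h : IsLocalRing.maximalIdeal B ≤ ((IsLocalRing.maximalIdeal A).map (algebraMap A B)).radical)
    (hA : (2 : ℕ∞) ≤ _root_.LocCoh.depth A A) (hB : FEt.PurityHolds B) : FEt.PurityHolds A := by
  let U := FEt.puncturedSpec A
  let U' := FEt.puncturedSpec B
  let gq : Spec (CommRingCat.of B) ⟶ Spec (CommRingCat.of A) := Spec.map (CommRingCat.ofHom (algebraMap A B))
  haveI : Flat gq := (HasRingHomProperty.Spec_iff (P := @Flat)).2 (RingHom.flat_algebraMap_iff.2 inferInstance)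
  haveI : Surjective gq := ⟨PrimeSpectrum.comap_surjective_of_faithfullyFlat⟩
  obtain ⟨k, HU⟩ := exists_punctured_square (algebraMap A B) h
  refine purityHolds_of_forall A fun {V} v _ _ => ?_
  obtain ⟨Y', y', hy1, hy2, l', hl'⟩ := exists_of_purityHolds hB (pullback.snd v k)
  have HV : IsPullback (pullback.fst v k) (pullback.snd v k ≫ U'.ι) (v ≫ U.ι) gq :=
    (IsPullback.of_hasPullback v k).paste_vert HU
  have HY : IsPullback l' (pullback.snd v k ≫ k) (y' ≫ gq) U.ι := hl'.paste_vert HU.flip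
  let w : pullback (y' ≫ gq) U.ι ⟶ V := HY.isoPullback.inv ≫ pullback.fst v k
  have Hw : IsPullback (pullback.fst (y' ≫ gq) U.ι ≫ y') w gq (v ≫ U.ι) := by
    refine HV.flip.of_iso HY.isoPullback (Iso.refl _) (Iso.refl _) (Iso.refl _) ?_ ?_ (by simp [gq]) (by simp)
    · rw [Iso.refl_hom, Category.comp_id, HY.isoPullback_hom_fst_assoc, hl'.w]
    · simp [w]
  obtain ⟨Y, y, hy, hy', i, hi⟩ := PurityDescent.exists_extension U.ι
    (fun W hW => Hartogs.bijective_ι_app U (Hartogs.two_le_depth_stalk hA) hW) gq v y' w Hw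
  refine ⟨Y, y, hy, hy', i.inv ≫ pullback.fst _ _, ?_⟩
  refine (IsPullback.of_hasPullback y U.ι).of_iso i (Iso.refl _) (Iso.refl _) (Iso.refl _) ?_ ?_ (by simp) (by simp [U])
  · simp
  · simp [hi]

open FormalTower in
/-- Purity passes from an `f`-complete ring to `A / f`, given purity at the closed points of `A_f`. -/
theorem purityHolds_quotient {A : Type u} [CommRing A] [IsNoetherianRing A] [IsLocalRing A] (f : A)
    (hf : f ∈ IsLocalRing.maximalIdeal A) (hreg : IsSMulRegular A f) [IsAdicComplete (Ideal.span {f}) A]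
    [IsLocalRing (A ⧸ Ideal.span {f ^ (0 + 1)})]
    (hdep : (3 : ℕ∞) ≤ _root_.LocCoh.depth (A ⧸ Ideal.span {f ^ (0 + 1)}) (A ⧸ Ideal.span {f ^ (0 + 1)}))
    (hA : FEt.PurityHolds A)
    (hloc : ∀ (p : Ideal A) [p.IsPrime], f ∉ p → p ≠ IsLocalRing.maximalIdeal A →
      (∀ q : Ideal A, q.IsPrime → p ≤ q → f ∈ q → q = IsLocalRing.maximalIdeal A) →
      FEt.PurityHolds (Localization.AtPrime p)) :
    FEt.PurityHolds (A ⧸ Ideal.span {f ^ (0 + 1)}) := by
  let R := A ⧸ Ideal.span {f ^ (0 + 1)}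
  let U := FEt.puncturedSpec A
  let UR := FEt.puncturedSpec R
  let q := hp f 0
  haveI : IsLocalHom (Ideal.Quotient.mk (Ideal.span {f ^ (0 + 1)})) := IsLocalHom.of_surjective _ Ideal.Quotient.mk_surjective
  obtain ⟨k, HU⟩ := exists_punctured_square (Ideal.Quotient.mk (Ideal.span {f ^ (0 + 1)})) (by
    refine le_trans ?_ Ideal.le_radical
    intro b hb
    obtain ⟨a, rfl⟩ := Ideal.Quotient.mk_surjective b
    exact Ideal.mem_map_of_mem _ (fun h => hb (h.map _)))
  refine purityHolds_of_forall R fun {V} v _ _ => ?_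
  let V₀ : FEt.Cat (T f 0) := MorphismProperty.Over.mk ⊤ (v ≫ HU.isoPullback.hom) ⟨inferInstance, inferInstance⟩
  obtain ⟨U', u', W, w, a, hle, hu', hwf, hwe, hsq⟩ := FormalExtend.exists_extension_nbhd f hreg hdep V₀
  -- extend to the punctured spectrum
  let U'' : U.toScheme.Opens := U.ι ⁻¹ᵁ U'
  haveI : IsNoetherian U.toScheme := by
    haveI : QuasiCompact U.ι := inferInstance
    haveI : CompactSpace U.toScheme := QuasiCompact.compactSpace_of_compactSpace U.ι
    constructor
  let ρ : (U'' : Scheme.{u}) ⟶ U' := U.ι ∣_ U'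
  haveI : Surjective ρ := ⟨fun x => ⟨⟨⟨x.1, hle x.2⟩, x.2⟩, Subtype.ext (by rw [morphismRestrict_base]; rfl)⟩⟩
  haveI : IsIso ρ := (isIso_iff_isOpenImmersion_and_surjective _).2 ⟨inferInstance, inferInstance⟩
  haveI : ((FEt.restrict U''.ι)).EssSurj := PurityExtend.essSurj_of_purity_noetherian U'' fun x hx => by
    have hx' : U.ι x ∉ U' := hx
    let P : PrimeSpectrum A := U.ι x
    have hfP : f ∉ P.asIdeal := fun h => hx' ?_
    · have hP : P.asIdeal ≠ IsLocalRing.maximalIdeal A := fun e => x.2 (PrimeSpectrum.ext e)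
      have hmax : ∀ q : Ideal A, q.IsPrime → P.asIdeal ≤ q → f ∈ q → q = IsLocalRing.maximalIdeal A := by
        intro q hq hPq hfq
        by_contra hne
        refine hx' (((PrimeSpectrum.le_iff_specializes P ⟨q, hq⟩).1 hPq).mem_open U'.2 ?_)
        exact mem_range_toA hu' ⟨q, hq⟩ (fun e => hne (congrArg PrimeSpectrum.asIdeal e)) hfq
      have h2 := hloc P.asIdeal hfP hP hmax
      exact purityHolds_of_ringEquiv
        (((StructureSheaf.stalkIso A P).toRingEquiv : Localization.AtPrime P.asIdeal ≃+* (Spec (CommRingCat.of A)).presheaf.stalk (U.ι x)).trans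
          (asIso (U.ι.stalkMap x)).commRingCatIsoToRingEquiv) h2
    · exact mem_range_toA hu' P (fun e => x.2 e) h
  let V' : FEt.Cat (U'' : Scheme.{u}) := MorphismProperty.Over.mk ⊤ (w ≫ inv ρ) ⟨inferInstance, inferInstance⟩
  obtain ⟨Y₁, ⟨e₁⟩⟩ := ⟨(FEt.restrict U''.ι).objPreimage V', ⟨(FEt.restrict U''.ι).objObjPreimageIso V'⟩⟩
    |> fun h : ∃ Y, Nonempty ((FEt.restrict U''.ι).obj Y ≅ V') => h
  haveI : IsFinite Y₁.hom := Y₁.prop.1
  haveI : Etale Y₁.hom := Y₁.prop.2
  obtain ⟨Y, y, hy, hy', l, hl⟩ := exists_of_purityHolds hA Y₁.hom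
  -- the comparison square
  let c : W ⟶ Y₁.left := e₁.inv.left ≫ pullback.fst Y₁.hom U''.ι
  have hW : IsPullback c (w ≫ inv ρ) Y₁.hom U''.ι := by
    refine (IsPullback.of_hasPullback Y₁.hom U''.ι).of_iso
      { hom := e₁.hom.left, inv := e₁.inv.left
        hom_inv_id := congrArg (fun k => k.left) e₁.hom_inv_id
        inv_hom_id := congrArg (fun k => k.left) e₁.inv_hom_id } (Iso.refl _) (Iso.refl _) (Iso.refl _) ?_ ?_ (by simp) (by simp)
    · rw [Iso.refl_hom, Category.comp_id]
      show _ = e₁.hom.left ≫ c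
      rw [show c = e₁.inv.left ≫ pullback.fst Y₁.hom U''.ι from rfl, ← Category.assoc,
        show e₁.hom.left ≫ e₁.inv.left = 𝟙 _ from congrArg (fun k => k.left) e₁.hom_inv_id]
      exact (Category.id_comp _).symm
    · rw [Iso.refl_hom, Category.comp_id]
      exact (Over.w e₁.hom.hom).symm
  have hWY : IsPullback (c ≫ l) w y U'.ι := by
    have h1 := hW.paste_horiz hl
    refine h1.of_iso (Iso.refl _) (Iso.refl _) (asIso ρ) (Iso.refl _) (by simp) (by simp) (by simp) ?_
    rw [Iso.refl_hom, Category.comp_id, asIso_hom]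
    exact (morphismRestrict_ι U.ι U').symm
  have hV : IsPullback (a ≫ c ≫ l) v y (UR.ι ≫ q) := by
    have h1 := hsq.paste_horiz hWY
    rw [hu'] at h1
    refine h1.of_iso (Iso.refl _) (Iso.refl _) HU.isoPullback.symm (Iso.refl _) (by simp) (by simp [V₀]) (by simp) ?_
    rw [Iso.refl_hom, Category.comp_id, Iso.symm_hom, Iso.eq_inv_comp, toA]
    rw [HU.isoPullback_hom_fst_assoc, HU.w]
  refine ⟨pullback y q, pullback.snd y q, inferInstance, inferInstance,
    pullback.lift (a ≫ c ≫ l) (v ≫ UR.ι) (by rw [Category.assoc v, hV.w]), ?_⟩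
  refine IsPullback.of_right (h₁₂ := pullback.fst y q) (v₁₃ := y) (h₂₂ := q) ?_ (pullback.lift_snd _ _ _)
    (IsPullback.of_hasPullback y q)
  rw [pullback.lift_fst]
  exact hV
where
  mem_range_toA {A : Type u} [CommRing A] [IsNoetherianRing A] [IsLocalRing A] {f : A}
      {U' : (Spec (CommRingCat.of A)).Opens} {u' : T f 0 ⟶ (U' : Scheme.{u})} (hu' : u' ≫ U'.ι = toA f 0)
      (P : PrimeSpectrum A) (hP : P ≠ IsLocalRing.closedPoint A) (hfP : f ∈ P.asIdeal) : P ∈ U' := by
    let x : (FEt.puncturedSpec A : Scheme.{u}) := ⟨P, hP⟩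
    have hr : P ∈ Set.range (PrimeSpectrum.comap (Ideal.Quotient.mk (Ideal.span {f ^ (0 + 1)}))) := by
      rw [range_comap_of_surjective _ _ Ideal.Quotient.mk_surjective, Ideal.mk_ker, PrimeSpectrum.mem_zeroLocus,
        SetLike.coe_subset_coe, Ideal.span_singleton_le_iff_mem]
      exact Ideal.pow_mem_of_mem _ hfP _ (Nat.succ_pos 0)
    obtain ⟨r, hr⟩ := hr
    obtain ⟨t, ht, -⟩ := Scheme.Pullback.exists_preimage_pullback (f := (FEt.puncturedSpec A).ι) (g := hp f 0) x r hr.symm
    have e : toA f 0 t = P := by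
      show (FEt.puncturedSpec A).ι ((pullback.fst (FEt.puncturedSpec A).ι (hp f 0)) t) = P
      rw [ht]; rfl
    rw [← e, ← hu']
    exact (u' t).2

end Groth.Agent.FEtFF.PurityTransfer
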