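import Groth.Agent.FEtFF.Generic
import Groth.Agent.FEtFF.PurityExtend
import Groth.Agent.FEtFF.PurityRegular
import Groth.Agent.FEtFF.PurityTransfer
import Groth.Agent.FEtFF.UnivHomeo
import Groth.Agent.Coherent.BiratCodimTwo
import Groth.Agent.Coherent.BirationalFibre
import Groth.Agent.Models7.SteinContract
import Groth.Agent.Models7.PointBlowUpIso

/-!
# Proper birational morphisms and finite étale covers
-/

set_option autoImplicit false
set_option linter.style.haveILetI false
set_option backward.isDefEq.respectTransparency.types false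
set_option backward.isDefEq.respectTransparency false
universe u

open CategoryTheory CategoryTheory.Limits AlgebraicGeometry TopologicalSpace

namespace Groth.Agent.FEtFF.BiratPurity

/-- A quasi-sober Noetherian space without proper specializations is finite. -/
theorem finite_of_no_specialization {α : Type*} [TopologicalSpace α] [NoetherianSpace α] [QuasiSober α]
    [T0Space α] (h : ∀ a b : α, a ⤳ b → a = b) : Finite α := by
  have hs : ∀ Z ∈ irreducibleComponents α, Z.Finite := by
    intro Z hZ
    obtain ⟨g, hg⟩ := QuasiSober.sober hZ.1 (isClosed_of_mem_irreducibleComponents Z hZ)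
    refine (Set.finite_singleton g).subset fun a ha => ?_
    exact (h g a (hg.specializes ha)).symm
  have hu := NoetherianSpace.finite_irreducibleComponents.sUnion hs
  rw [sUnion_irreducibleComponents] at hu
  exact Set.finite_univ_iff.mp hu

variable {X Y : Scheme.{u}} [IsIntegral X] [IsIntegral Y]

/-- A proper birational morphism to a normal scheme is an isomorphism over an open containing
all points of codimension at most one. -/
theorem exists_iso_codimOne [IsLocallyNoetherian Y] (hY : Pi1.IsNormalScheme Y) (f : X ⟶ Y) [IsProper f]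
    (V : Y.Opens) (hV : (V : Set Y).Nonempty) [IsIso (f ∣_ V)] :
    ∃ V' : Y.Opens, V ≤ V' ∧ IsIso (f ∣_ V') ∧
      ∀ y : Y, y ∉ V' → 2 ≤ ringKrullDim (Y.presheaf.stalk y) := by
  obtain ⟨hξ, hbir⟩ := Coherent.birational_of_isIso_morphismRestrict f V hV
  haveI : IsIso (f.stalkMap (genericPoint X)) := (ConcreteCategory.isIso_iff_bijective _).2 hbir
  have happ := Coherent.isIso_app_of_birational f hY hξ ‹_›
  let S : Set Y.Opens := {W | ∀ y ∈ W, (f.base ⁻¹' {y}).Finite}
  have hVS : V ∈ S := fun y hy => by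
    refine Set.Subsingleton.finite fun a ha b hb => ?_
    have hbj := (f ∣_ V).isOpenEmbedding.injective
      (a₁ := (⟨a, show f a ∈ V by rw [ha]; exact hy⟩ : (f ⁻¹ᵁ V : X.Opens)))
      (a₂ := (⟨b, show f b ∈ V by rw [hb]; exact hy⟩ : (f ⁻¹ᵁ V : X.Opens))) (Subtype.ext (by
        rw [morphismRestrict_base_coe, morphismRestrict_base_coe]; exact ha.trans hb.symm))
    exact congrArg Subtype.val hbj
  have hmem : ∀ y ∈ sSup S, (f.base ⁻¹' {y}).Finite := fun y hy => by
    obtain ⟨W, hW, hyW⟩ := Opens.mem_sSup.1 hy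
    exact hW y hyW
  refine ⟨sSup S, le_sSup hVS, Models7.isIso_morphismRestrict_of_finite_fibres f happ _ hmem, fun y hy => ?_⟩
  by_contra hlt
  apply hy
  have hne : y ≠ genericPoint Y := by
    rintro rfl
    exact hy (Opens.mem_sSup.2 ⟨V, hVS,
      ((genericPoint_spec Y).mem_open_set_iff V.2).mpr (by simpa using hV)⟩)
  have hdim : ringKrullDim (Y.presheaf.stalk y) ≤ 1 := by
    rw [not_le] at hlt
    revert hlt
    rcases ringKrullDim (Y.presheaf.stalk y) with _ | n
    · intro; exact bot_le
    · intro h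
      have : n < (2 : ℕ∞) := WithBot.coe_lt_coe.mp h
      exact WithBot.coe_le_coe.mpr (Order.le_of_lt_succ (by simpa [one_add_one_eq_two] using this))
  haveI : LocallyOfFiniteType (f.fiberToSpecResidueField y) :=
    (inferInstance : LocallyOfFiniteType (Limits.pullback.snd f (Y.fromSpecResidueField y)))
  haveI : IsLocallyNoetherian (f.fiber y) :=
    LocallyOfFiniteType.isLocallyNoetherian (f.fiberToSpecResidueField y)
  haveI : IsNoetherian (f.fiber y) := { }
  have hrange := f.range_fiberι y
  have hmemf : ∀ z : f.fiber y, f (f.fiberι y z) = y := fun z => by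
    have := Set.mem_range_self (f := f.fiberι y) z
    rw [hrange] at this
    exact this
  haveI : Finite (f.fiber y) := finite_of_no_specialization fun a b hab =>
    (f.fiberι y).isEmbedding.injective (Coherent.eq_of_specializes_of_dim_le_one f hξ hbir y hne hdim _ _
      (hmemf a) (hmemf b) (hab.map (f.fiberι y).continuous))
  have hfin : (f.base ⁻¹' {y}).Finite := hrange ▸ Set.finite_range _
  obtain ⟨W, hyW, hW⟩ := exists_isFinite_morphismRestrict_of_finite_preimage_singleton f y hfin
  refine Opens.mem_sSup.2 ⟨W, fun z hz => ?_, hyW⟩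
  refine Set.Finite.subset (((f ∣_ W).finite_preimage_singleton ⟨z, hz⟩).image (f ⁻¹ᵁ W).ι) ?_
  intro a ha
  exact ⟨⟨a, show f a ∈ W by rw [ha]; exact hz⟩, Subtype.ext (by rw [morphismRestrict_base_coe]; exact ha), rfl⟩

/-- Purity for regular local rings of dimension at least two. -/
theorem purityHolds_of_regular (A : Type u) [CommRing A] [IsRegularLocalRing A] (h : 2 ≤ ringKrullDim A) :
    FEt.PurityHolds A := by
  have hd := (isRegularLocalRing_iff A).1 inferInstance
  refine PurityTransfer.purityHolds_of_forall A fun {W} v _ _ => ?_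
  obtain ⟨Z, z, hz, hz', i, hi⟩ := Hypersurface.exists_extension_of_regular
    (IsLocalRing.maximalIdeal A).spanFinrank A (by rw [← hd] at h; exact_mod_cast h) rfl v
  refine ⟨Z, z, hz, hz', i.inv ≫ pullback.fst _ _, ?_⟩
  refine (IsPullback.of_hasPullback z (FEt.puncturedSpec A).ι).of_iso i (Iso.refl _) (Iso.refl _) (Iso.refl _)
    ?_ ?_ (by simp) (by simp)
  · simp
  · simp [hi]

theorem restrict_isEquivalence_of_isIso {A B : Scheme.{u}} (r : A ⟶ B) [IsIso r] : (FEt.restrict r).IsEquivalence := by
  obtain ⟨h1, h2⟩ := restrict_iso_full_faithful r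
  haveI := UnivHomeo.restrict_essSurj r
  exact { }

omit [IsIntegral X] [IsIntegral Y] in
/-- If a morphism is an isomorphism over an open along which restriction is an equivalence and restriction
to its preimage is fully faithful, restriction along the morphism is an equivalence. -/
theorem restrict_isEquivalence_of_iso_over (f : X ⟶ Y) (V : Y.Opens) [IsIso (f ∣_ V)]
    [(FEt.restrict V.ι).IsEquivalence] [(FEt.restrict (f ⁻¹ᵁ V).ι).Full] [(FEt.restrict (f ⁻¹ᵁ V).ι).Faithful] :
    (FEt.restrict f).IsEquivalence := by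
  haveI := restrict_isEquivalence_of_isIso (f ∣_ V)
  let e : FEt.restrict f ⋙ FEt.restrict (f ⁻¹ᵁ V).ι ≅ FEt.restrict V.ι ⋙ FEt.restrict (f ∣_ V) :=
    (MorphismProperty.Over.pullbackComp (P := FEt.prop) (Q := ⊤) (f ⁻¹ᵁ V).ι f
      ((f ⁻¹ᵁ V).ι ≫ f) rfl).symm ≪≫
      MorphismProperty.Over.pullbackComp (P := FEt.prop) (Q := ⊤) (f ∣_ V) V.ι
        ((f ⁻¹ᵁ V).ι ≫ f) (morphismRestrict_ι f V).symm
  haveI : (FEt.restrict f ⋙ FEt.restrict (f ⁻¹ᵁ V).ι).IsEquivalence := Functor.isEquivalence_of_iso e.symm
  haveI := Functor.Full.of_comp_faithful (FEt.restrict f) (FEt.restrict (f ⁻¹ᵁ V).ι)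
  haveI := Functor.Faithful.of_comp (FEt.restrict f) (FEt.restrict (f ⁻¹ᵁ V).ι)
  haveI : (FEt.restrict f).EssSurj := ⟨fun C =>
    ⟨(FEt.restrict f ⋙ FEt.restrict (f ⁻¹ᵁ V).ι).objPreimage ((FEt.restrict (f ⁻¹ᵁ V).ι).obj C),
      ⟨(FEt.restrict (f ⁻¹ᵁ V).ι).preimageIso
        ((FEt.restrict f ⋙ FEt.restrict (f ⁻¹ᵁ V).ι).objObjPreimageIso _)⟩⟩⟩
  exact { }

/-- Restriction to an open containing all points of codimension at most one of a regular scheme. -/
theorem restrict_isEquivalence_codimTwo [IsNoetherian Y] (hY : ∀ y : Y, IsRegularLocalRing (Y.presheaf.stalk y))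
    (V : Y.Opens) (hne : (V : Set Y).Nonempty) (hdim : ∀ y : Y, y ∉ V → 2 ≤ ringKrullDim (Y.presheaf.stalk y)) :
    (FEt.restrict V.ι).IsEquivalence := by
  obtain ⟨h1, h2⟩ := restrict_open (Models7.isNormalScheme_of_regular hY) V hne
  haveI := PurityExtend.essSurj_of_purity_noetherian V fun y hy =>
    haveI := hY y
    purityHolds_of_regular _ (hdim y hy)
  exact { }

/-- Pullback of finite étale covers along a proper birational morphism from a normal to a regular scheme. -/
theorem restrict_isEquivalence_of_birational [IsNoetherian Y] (hX : Pi1.IsNormalScheme X)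
    (hY : ∀ y : Y, IsRegularLocalRing (Y.presheaf.stalk y)) (f : X ⟶ Y) [IsProper f]
    (V : Y.Opens) (hV : (V : Set Y).Nonempty) [IsIso (f ∣_ V)] : (FEt.restrict f).IsEquivalence := by
  obtain ⟨V', hle, hiso, hdim⟩ := exists_iso_codimOne (Models7.isNormalScheme_of_regular hY) f V hV
  have hne : (V' : Set Y).Nonempty := hV.mono hle
  haveI := restrict_isEquivalence_codimTwo hY V' hne hdim
  have hne' : ((f ⁻¹ᵁ V' : X.Opens) : Set X).Nonempty := by
    obtain ⟨y, hy⟩ := hne
    obtain ⟨x, -⟩ := (f ∣_ V').surjective ⟨y, hy⟩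
    exact ⟨x.1, x.2⟩
  obtain ⟨h1, h2⟩ := restrict_open hX (f ⁻¹ᵁ V') hne'
  exact restrict_isEquivalence_of_iso_over f V'

end Groth.Agent.FEtFF.BiratPurity
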