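import Groth.Prelude.Def_Pi1
import Groth.Agent.FEtFF.PurityTransfer
import Groth.Agent.FEtFF.PurityRegular
import Groth.Agent.CAlgH3.Depth
import Groth.Agent.CAlgH3.RegularCore
import Groth.Agent.CAlgH3.FlatDepth
import Groth.Agent.CAlgH3.CMRing
import Groth.Agent.CAlgH3.QuotientLocal
import Groth.Agent.CAlgH3.Factorial
import Groth.Agent.CommAlg6.FlatEquidim
import Groth.Agent.CommAlg6.CompletionEquidim
import Groth.Agent.CommAlg6.FlatLocalModule
import Groth.Agent.Matlis6.CompletionNoetherian
import Groth.Agent.CAlgH3.RegularHom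
import Groth.Agent.AdicRing.Basic
import Groth.Agent.CAlgMisc1.Basic
import Groth.Agent.S0548
import Mathlib.RingTheory.Ideal.KrullsHeightTheorem

/-!
# Purity for complete intersections of dimension at least three
-/

set_option autoImplicit false
set_option linter.style.haveILetI false
set_option backward.isDefEq.respectTransparency.types false
set_option backward.isDefEq.respectTransparency false
universe u

open IsLocalRing
open scoped CategoryTheory

namespace Groth.Agent.FEtFF.PurityCI

/-- A regular sequence, listed from its last member to its first. -/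
def RevRegular {S : Type u} [CommRing S] : List S → Prop
  | [] => True
  | f :: l => RevRegular l ∧ ∀ a, f * a ∈ Ideal.ofList l → a ∈ Ideal.ofList l

theorem ofList_reverse {S : Type u} [CommRing S] (l : List S) : Ideal.ofList l.reverse = Ideal.ofList l := by
  rw [Ideal.ofList, Ideal.ofList]
  congr 1
  ext x
  simp

theorem revRegular_of_isWeaklyRegular {S : Type u} [CommRing S] :
    ∀ rs : List S, RingTheory.Sequence.IsWeaklyRegular S rs → RevRegular rs.reverse := by
  intro rs
  induction rs using List.reverseRecOn with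
  | nil => exact fun _ => trivial
  | append_singleton rs f ih =>
    intro h
    obtain ⟨h1, h2⟩ := (RingTheory.Sequence.isWeaklyRegular_append_iff S rs [f]).1 h
    rw [RingTheory.Sequence.isWeaklyRegular_singleton_iff, isSMulRegular_quotient_iff_mem_of_smul_mem] at h2
    simp only [smul_eq_mul, Ideal.mul_top] at h2
    rw [List.reverse_append, List.reverse_singleton, List.singleton_append]
    exact ⟨ih h1, fun a ha => by rw [ofList_reverse] at ha ⊢; exact h2 a ha⟩

theorem revRegular_map {S T : Type u} [CommRing S] [CommRing T] [Algebra S T] [Module.Flat S T] :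
    ∀ l : List S, RevRegular l → RevRegular (l.map (algebraMap S T))
  | [], _ => trivial
  | f :: l, ⟨hl, hf⟩ => by
    refine ⟨revRegular_map l hl, fun b hb => ?_⟩
    rw [← Ideal.map_ofList] at hb ⊢
    have hreg : IsSMulRegular (S ⧸ Ideal.ofList l) f := by
      refine isSMulRegular_iff_right_eq_zero_of_smul.2 fun x hx => ?_
      obtain ⟨a, rfl⟩ := Ideal.Quotient.mk_surjective x
      rw [Algebra.smul_def, Ideal.Quotient.algebraMap_eq, ← map_mul, Ideal.Quotient.eq_zero_iff_mem] at hx
      exact Ideal.Quotient.eq_zero_iff_mem.2 (hf a hx)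
    have hinj : Function.Injective ((LinearMap.lsmul S (S ⧸ Ideal.ofList l) f).lTensor T) :=
      Module.Flat.lTensor_preserves_injective_linearMap _ hreg
    let e := (TensorProduct.quotTensorEquivQuotSMul T (Ideal.ofList l))
    let e' : TensorProduct S T (S ⧸ Ideal.ofList l) ≃ₗ[S] T ⧸ (Ideal.ofList l • ⊤ : Submodule S T) :=
      (TensorProduct.comm S T _).trans e
    have hsm : ∀ z, (LinearMap.lsmul S (S ⧸ Ideal.ofList l) f).lTensor T z = f • z := fun z => by
      induction z using TensorProduct.induction_on with
      | zero => simp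
      | tmul t x => simp [TensorProduct.tmul_smul]
      | add x y hx hy => rw [map_add, hx, hy, smul_add]
    have hz : f • e'.symm (Submodule.Quotient.mk b) = 0 := by
      rw [← map_smul, ← Submodule.Quotient.mk_smul]
      rw [(Submodule.Quotient.mk_eq_zero _).2 (by
        rw [Ideal.smul_top_eq_map, Submodule.restrictScalars_mem, Algebra.smul_def]; exact hb), map_zero]
    rw [← hsm] at hz
    have h0 : e'.symm (Submodule.Quotient.mk b) = 0 := hinj (by rw [hz, map_zero])
    rw [LinearEquiv.map_eq_zero_iff, Submodule.Quotient.mk_eq_zero, Ideal.smul_top_eq_map,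
      Submodule.restrictScalars_mem] at h0
    exact h0

/-- The depth of the quotient by a regular sequence. -/
theorem depth_quotient {S : Type u} [CommRing S] [IsLocalRing S] [IsNoetherianRing S] :
    ∀ l : List S, (∀ x ∈ l, x ∈ maximalIdeal S) → RevRegular l →
      _root_.LocCoh.depth S (S ⧸ Ideal.ofList l) + l.length = _root_.LocCoh.depth S S
  | [], _, _ => by
    rw [List.length_nil, Nat.cast_zero, add_zero]
    exact CAlgH3.depth_congr (Submodule.quotEquivOfEqBot _ Ideal.ofList_nil)
  | f :: l, hm, ⟨hl, hf⟩ => by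
    have hle : Ideal.ofList l ≤ Ideal.ofList (f :: l) := by
      rw [Ideal.ofList_cons]; exact le_sup_right
    have hreg : IsSMulRegular (S ⧸ Ideal.ofList l) f := by
      refine isSMulRegular_iff_right_eq_zero_of_smul.2 fun x hx => ?_
      obtain ⟨a, rfl⟩ := Ideal.Quotient.mk_surjective x
      rw [Algebra.smul_def, Ideal.Quotient.algebraMap_eq, ← map_mul, Ideal.Quotient.eq_zero_iff_mem] at hx
      exact Ideal.Quotient.eq_zero_iff_mem.2 (hf a hx)
    have := CAlgH3.depth_eq_add_one_of_exact (M := S ⧸ Ideal.ofList l) (Q := S ⧸ Ideal.ofList (f :: l))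
      (hm f List.mem_cons_self) hreg (Submodule.factor hle) (Submodule.factor_surjective hle) fun z => by
        obtain ⟨a, rfl⟩ := Submodule.Quotient.mk_surjective _ z
        change Submodule.Quotient.mk a = (0 : S ⧸ Ideal.ofList (f :: l)) ↔ _
        rw [Submodule.Quotient.mk_eq_zero, Ideal.ofList_cons, Submodule.mem_sup]
        constructor
        · rintro ⟨y, hy, w, hw, rfl⟩
          obtain ⟨c, rfl⟩ := Ideal.mem_span_singleton.1 hy
          exact ⟨Submodule.Quotient.mk c, by
            rw [← Submodule.Quotient.mk_smul, Submodule.Quotient.eq, smul_eq_mul]; simpa using neg_mem hw⟩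
        · rintro ⟨w, hw⟩
          obtain ⟨c, rfl⟩ := Submodule.Quotient.mk_surjective _ w
          rw [← Submodule.Quotient.mk_smul, Submodule.Quotient.eq, smul_eq_mul] at hw
          exact ⟨f * c, Ideal.mem_span_singleton.2 (dvd_mul_right f c), a - f * c,
            by simpa using neg_mem hw, by ring⟩
    rw [← depth_quotient l (fun x hx => hm x (List.mem_cons_of_mem _ hx)) hl, this, List.length_cons, Nat.cast_succ]
    ring

theorem three_le_depth {S : Type u} [CommRing S] [IsRegularLocalRing S] (l : List S)
    (hm : ∀ x ∈ l, x ∈ maximalIdeal S) (hl : RevRegular l) (hd : l.length + 3 ≤ (maximalIdeal S).spanFinrank)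
    [IsLocalRing (S ⧸ Ideal.ofList l)] :
    (3 : ℕ∞) ≤ _root_.LocCoh.depth (S ⧸ Ideal.ofList l) (S ⧸ Ideal.ofList l) := by
  rw [CAlgH3.depth_quotient_ring]
  have h := depth_quotient l hm hl
  rw [CAlgH3.depth_eq_spanFinrank] at h
  generalize _root_.LocCoh.depth S (S ⧸ Ideal.ofList l) = d at h ⊢
  cases d with
  | top => exact le_top
  | coe d =>
    have : d + l.length = (maximalIdeal S).spanFinrank := by exact_mod_cast h
    exact_mod_cast (by omega : 3 ≤ d)

/-- Primes just below the closed point of a hypersurface have large local rings. -/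
theorem spanFinrank_localization {S : Type u} [CommRing S] [IsRegularLocalRing S] (f : S) (P : Ideal S) [P.IsPrime]
    [IsRegularLocalRing (Localization.AtPrime P)] (hf : f ∈ maximalIdeal S)
    (hmax : ∀ q : Ideal S, q.IsPrime → P ≤ q → f ∈ q → q = maximalIdeal S) :
    (maximalIdeal S).spanFinrank ≤ (maximalIdeal (Localization.AtPrime P)).spanFinrank + 1 := by
  haveI := CAlgH3.isCohenMacaulayLocalRing_of_regular (R := S)
  haveI : IsLocalRing (S ⧸ P) := .of_surjective' _ Ideal.Quotient.mk_surjective
  haveI : IsLocalHom (Ideal.Quotient.mk P) := IsLocalHom.of_surjective _ Ideal.Quotient.mk_surjective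
  have hdim : ringKrullDim (S ⧸ P) ≤ 1 := by
    rw [← IsLocalRing.maximalIdeal_height_eq_ringKrullDim]
    refine WithBot.coe_le_coe.2 (Ideal.height_le_one_of_isPrincipal_of_mem_minimalPrimes
      (Ideal.span {Ideal.Quotient.mk P f}) _ ⟨⟨inferInstance, ?_⟩, fun q hq _ => ?_⟩)
    · rw [Ideal.span_singleton_le_iff_mem]
      exact fun h => hf (by
        obtain ⟨v, hv⟩ := h
        exact isUnit_of_map_unit (Ideal.Quotient.mk P) f ⟨v, hv⟩)
    · have hq' := hmax (q.comap (Ideal.Quotient.mk P)) (hq.1.comap _) (fun x hx => by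
          rw [Ideal.mem_comap, Ideal.Quotient.eq_zero_iff_mem.2 hx]; exact q.zero_mem)
        (hq.2 (Ideal.mem_span_singleton_self _))
      intro x hx
      obtain ⟨a, rfl⟩ := Ideal.Quotient.mk_surjective x
      have : a ∈ q.comap (Ideal.Quotient.mk P) := by
        rw [hq']; exact fun h => hx (h.map _)
      exact this
  have h := CAlgH3.height_add_ringKrullDim_quotient P
  rw [← IsRegularLocalRing.spanFinrank_maximalIdeal (R := S)] at h
  rw [← IsLocalization.AtPrime.ringKrullDim_eq_height P (Localization.AtPrime P),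
    ← IsRegularLocalRing.spanFinrank_maximalIdeal (R := Localization.AtPrime P)] at h
  have h1 : ((maximalIdeal S).spanFinrank : WithBot ℕ∞) ≤
      ((maximalIdeal (Localization.AtPrime P)).spanFinrank + 1 : ℕ) := by
    rw [← h, Nat.cast_add, Nat.cast_one]
    exact add_le_add le_rfl hdim
  exact_mod_cast h1

/-- The depth of a ring is the depth of a flat local extension with the same maximal ideal. -/
theorem depth_eq_of_map_eq (A C : Type u) [CommRing A] [CommRing C] [IsLocalRing A] [IsLocalRing C] [IsNoetherianRing A]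
    [IsNoetherianRing C] [Algebra A C] [IsLocalHom (algebraMap A C)] [Module.Flat A C]
    (hm : (maximalIdeal A).map (algebraMap A C) = maximalIdeal C) :
    _root_.LocCoh.depth C C = _root_.LocCoh.depth A A := by
  have h := CommAlg6.depth_tensor_eq (A := A) (B := C) (N := C) A
  rw [CAlgH3.depth_congr (TensorProduct.AlgebraTensorModule.rid A C C), hm] at h
  haveI : Nontrivial (C ⧸ (maximalIdeal C • (⊤ : Submodule C C))) := Submodule.Quotient.nontrivial_iff.2 (by
    rw [smul_eq_mul, Ideal.mul_top]; exact (maximalIdeal.isMaximal C).ne_top)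
  letI : Field (C ⧸ maximalIdeal C) := Ideal.Quotient.field _
  have h0 := CAlgH3.depth_le_supportDim (R := C) (M := C ⧸ (maximalIdeal C • (⊤ : Submodule C C)))
  rw [Module.supportDim_eq_of_equiv (Submodule.quotEquivOfEq _ (maximalIdeal C) (by rw [smul_eq_mul, Ideal.mul_top])),
    Module.supportDim_quotient_eq_ringKrullDim, ringKrullDim_eq_zero_of_field, ← WithBot.coe_zero, WithBot.coe_le_coe,
    nonpos_iff_eq_zero] at h0
  rw [h, h0, add_zero]

/-- Purity for quotients of regular local rings by regular sequences, of dimension at least three. -/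
theorem purityHolds_quotient_regular : ∀ (r : ℕ) (S : Type u) [CommRing S] [IsRegularLocalRing S] (l : List S),
    l.length = r → (∀ x ∈ l, x ∈ maximalIdeal S) → RevRegular l → r + 3 ≤ (maximalIdeal S).spanFinrank →
    ∀ [IsLocalRing (S ⧸ Ideal.ofList l)], FEt.PurityHolds (S ⧸ Ideal.ofList l) := by
  intro r
  induction r with
  | zero =>
    intro S _ _ l hl _ _ hd _
    obtain rfl := List.length_eq_zero_iff.1 hl
    refine PurityTransfer.purityHolds_of_ringEquiv
      ((RingEquiv.quotientBot S).symm.trans (Ideal.quotEquivOfEq Ideal.ofList_nil.symm)) ?_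
    refine PurityTransfer.purityHolds_of_forall S fun {V} v _ _ => ?_
    obtain ⟨Y, y, hy, hy', i, hi⟩ := Hypersurface.exists_extension_of_regular (maximalIdeal S).spanFinrank S
      (by omega) rfl v
    refine ⟨Y, y, hy, hy', i.inv ≫ CategoryTheory.Limits.pullback.fst _ _, ?_⟩
    refine (CategoryTheory.IsPullback.of_hasPullback y (FEt.puncturedSpec S).ι).of_iso i
      (CategoryTheory.Iso.refl _) (CategoryTheory.Iso.refl _) (CategoryTheory.Iso.refl _) ?_ ?_ (by simp) (by simp)
    · simp
    · simp [hi]
  | succ r ih =>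
    intro S _ _ l₀ hl₀ hm₀ hreg₀ hd _
    obtain ⟨f, l, rfl⟩ : ∃ f l, l₀ = f :: l := by
      cases l₀ with
      | nil => simp at hl₀
      | cons f l => exact ⟨f, l, rfl⟩
    rw [List.length_cons] at hl₀
    -- pass to the completion
    let T := AdicCompletion (maximalIdeal S) S
    haveI : IsRegularLocalRing T := (S0548.result S).1 inferInstance
    haveI : Module.Flat S T := AdicCompletion.flat_of_isNoetherian _
    haveI : Module.FaithfullyFlat S T := Module.FaithfullyFlat.of_flat_of_isLocalHom
    have hmT : maximalIdeal T = (maximalIdeal S).map (algebraMap S T) := AdicCompletion.maximalIdeal_eq_map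
    have hdT : r + 1 + 3 ≤ (maximalIdeal T).spanFinrank := by
      refine hd.trans ?_
      have h1 : _root_.LocCoh.depth S S ≤ _root_.LocCoh.depth T T := le_trans le_self_add CAlgH3.depth_add_depth_fibre_le_self
      rw [CAlgH3.depth_eq_spanFinrank, CAlgH3.depth_eq_spanFinrank] at h1
      exact_mod_cast h1
    let f' := algebraMap S T f
    let l' := l.map (algebraMap S T)
    have hm : ∀ x ∈ f' :: l', x ∈ maximalIdeal T := by
      intro x hx
      rw [show f' :: l' = (f :: l).map (algebraMap S T) from rfl, List.mem_map] at hx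
      obtain ⟨y, hy, rfl⟩ := hx
      rw [hmT]
      exact Ideal.mem_map_of_mem _ (hm₀ y hy)
    have hreg : RevRegular (f' :: l') := revRegular_map (T := T) (f :: l) hreg₀
    have hne : ∀ m : List T, (∀ x ∈ m, x ∈ maximalIdeal T) → IsLocalRing (T ⧸ Ideal.ofList m) := fun m hm => by
      haveI : Nontrivial (T ⧸ Ideal.ofList m) := Ideal.Quotient.nontrivial_iff.2 fun h =>
        (maximalIdeal.isMaximal T).ne_top (top_le_iff.1 (h ▸ Ideal.span_le.2 hm))
      exact .of_surjective' _ Ideal.Quotient.mk_surjective
    haveI := hne l' fun x hx => hm x (List.mem_cons_of_mem _ hx)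
    haveI := hne (f' :: l') hm
    let I := Ideal.ofList (f :: l)
    have hI : I.map (algebraMap S T) = Ideal.ofList (f' :: l') := Ideal.map_ofList _ _
    haveI : IsLocalRing (T ⧸ I.map (algebraMap S T)) := hI ▸ hne (f' :: l') hm
    -- purity upstairs
    let A := T ⧸ Ideal.ofList l'
    let g : A := Ideal.Quotient.mk _ f'
    haveI : IsLocalHom (Ideal.Quotient.mk (Ideal.ofList l')) := IsLocalHom.of_surjective _ Ideal.Quotient.mk_surjective
    have hgm : g ∈ maximalIdeal A := fun h => hm f' List.mem_cons_self (isUnit_of_map_unit (Ideal.Quotient.mk _) f' h)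
    have hgreg : IsSMulRegular A g := by
      refine isSMulRegular_iff_right_eq_zero_of_smul.2 fun x hx => ?_
      obtain ⟨a, rfl⟩ := Ideal.Quotient.mk_surjective x
      rw [smul_eq_mul, ← map_mul, Ideal.Quotient.eq_zero_iff_mem] at hx
      exact Ideal.Quotient.eq_zero_iff_mem.2 (hreg.2 a hx)
    haveI : IsAdicComplete (maximalIdeal A) A := by
      haveI : IsAdicComplete (maximalIdeal T) A := AdicRing.isAdicComplete_of_finite (maximalIdeal T) A
      have hmA : (maximalIdeal T).map (algebraMap T A) = maximalIdeal A :=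
        IsLocalRing.map_maximalIdeal_of_surjective _ Ideal.Quotient.mk_surjective
      rw [← hmA]
      exact (IsAdicComplete.map_algebraMap_iff (maximalIdeal T) A).2 ‹_›
    haveI : IsAdicComplete (Ideal.span {g}) A := CAlgMisc1.isAdicComplete_of_le _ (maximalIdeal A)
      ((Ideal.span_singleton_le_iff_mem _).2 hgm) (IsNoetherian.noetherian _) A
    let e : T ⧸ Ideal.ofList (f' :: l') ≃+* A ⧸ Ideal.span {g ^ (0 + 1)} :=
      (Ideal.quotEquivOfEq (by rw [Ideal.ofList_cons, sup_comm])).trans
        ((DoubleQuot.quotQuotEquivQuotSup (Ideal.ofList l') (Ideal.span {f'})).symm.trans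
          (Ideal.quotEquivOfEq (by rw [Ideal.map_span, Set.image_singleton, zero_add, pow_one])))
    haveI : Nontrivial (A ⧸ Ideal.span {g ^ (0 + 1)}) := e.injective.nontrivial
    haveI : IsLocalRing (A ⧸ Ideal.span {g ^ (0 + 1)}) := .of_surjective' _ Ideal.Quotient.mk_surjective
    have hB : FEt.PurityHolds (T ⧸ I.map (algebraMap S T)) := by
      refine PurityTransfer.purityHolds_of_ringEquiv (e.symm.trans (Ideal.quotEquivOfEq hI.symm)) ?_
      refine PurityTransfer.purityHolds_quotient g hgm hgreg ?_ ?_ fun p _ hgp hp hmax => ?_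
      · rw [CAlgH3.depth_ringEquiv e.symm]
        exact three_le_depth (f' :: l') hm hreg (by rw [List.length_cons, List.length_map]; omega)
      · exact ih T l' (by rw [List.length_map]; omega) (fun x hx => hm x (List.mem_cons_of_mem _ hx)) hreg.1 (by omega)
      · let P := p.comap (Ideal.Quotient.mk (Ideal.ofList l'))
        let SP := Localization.AtPrime P
        have hlP : Ideal.ofList l' ≤ P := fun x hx => by
          rw [Ideal.mem_comap, Ideal.Quotient.eq_zero_iff_mem.2 hx]; exact p.zero_mem
        haveI : IsRegularLocalRing SP := CAlgH3.isRegularLocalRing_localization P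
        have hd' : (maximalIdeal T).spanFinrank ≤ (maximalIdeal SP).spanFinrank + 1 :=
          spanFinrank_localization f' P (hm f' List.mem_cons_self) fun q hq hPq hfq => by
            have hq' : q.map (Ideal.Quotient.mk (Ideal.ofList l')) = maximalIdeal A := by
              refine hmax _ (Ideal.map_isPrime_of_surjective Ideal.Quotient.mk_surjective
                (by rw [Ideal.mk_ker]; exact hlP.trans hPq)) (fun x hx => ?_) (Ideal.mem_map_of_mem _ hfq)
              obtain ⟨a, rfl⟩ := Ideal.Quotient.mk_surjective x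
              exact Ideal.mem_map_of_mem _ (hPq hx)
            refine le_antisymm (le_maximalIdeal hq.ne_top) fun x hx => ?_
            have hx' : Ideal.Quotient.mk (Ideal.ofList l') x ∈ q.map (Ideal.Quotient.mk _) := by
              rw [hq']; exact fun h => hx (isUnit_of_map_unit (Ideal.Quotient.mk _) x h)
            exact (Ideal.mem_quotient_iff_mem (hlP.trans hPq)).1 hx'
        obtain ⟨eP, -⟩ := CAlgH3.exists_quotientLocalEquiv (Ideal.ofList l') p
        have hmap : (Ideal.ofList l').map (algebraMap T SP) = Ideal.ofList (l'.map (algebraMap T SP)) := Ideal.map_ofList _ _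
        let eP' := (Ideal.quotEquivOfEq hmap.symm).trans eP
        have hmem : ∀ x ∈ l'.map (algebraMap T SP), x ∈ maximalIdeal SP := by
          intro x hx
          obtain ⟨y, hy, rfl⟩ := List.mem_map.1 hx
          exact (IsLocalization.AtPrime.to_map_mem_maximal_iff SP P _).2 (hlP (Ideal.subset_span hy))
        haveI : Nontrivial (SP ⧸ Ideal.ofList (l'.map (algebraMap T SP))) := eP'.symm.injective.nontrivial
        haveI : IsLocalRing (SP ⧸ Ideal.ofList (l'.map (algebraMap T SP))) := .of_surjective' _ Ideal.Quotient.mk_surjective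
        refine PurityTransfer.purityHolds_of_ringEquiv eP' ?_
        exact ih SP (l'.map (algebraMap T SP)) (by rw [List.length_map, List.length_map]; omega) hmem
          (revRegular_map (T := SP) l' hreg.1) (by omega)
    -- descend
    haveI : Module.Flat (S ⧸ I) (T ⧸ I.map (algebraMap S T)) := CommAlg6.flat_quotient_map I
    haveI : IsLocalHom (algebraMap (S ⧸ I) (T ⧸ I.map (algebraMap S T))) := ⟨fun x hx => by
      obtain ⟨a, rfl⟩ := Ideal.Quotient.mk_surjective x
      haveI : IsLocalHom (Ideal.Quotient.mk (I.map (algebraMap S T))) := IsLocalHom.of_surjective _ Ideal.Quotient.mk_surjective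
      exact (isUnit_of_map_unit (algebraMap S T) a (isUnit_of_map_unit (Ideal.Quotient.mk _) _ hx)).map _⟩
    haveI : Module.FaithfullyFlat (S ⧸ I) (T ⧸ I.map (algebraMap S T)) := Module.FaithfullyFlat.of_flat_of_isLocalHom
    refine PurityTransfer.purityHolds_of_faithfullyFlat (B := T ⧸ I.map (algebraMap S T)) ?_
      (le_trans (by norm_num) (three_le_depth (f :: l) hm₀ hreg₀ (by rw [List.length_cons]; omega))) hB
    refine le_trans ?_ Ideal.le_radical
    intro x hx
    obtain ⟨y, rfl⟩ := Ideal.Quotient.mk_surjective x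
    have hy : y ∈ (maximalIdeal S).map (algebraMap S T) := by
      rw [← hmT]; exact fun h => hx (h.map _)
    haveI : IsLocalHom (Ideal.Quotient.mk I) := IsLocalHom.of_surjective _ Ideal.Quotient.mk_surjective
    have hle : ((maximalIdeal S).map (algebraMap S T)).map (Ideal.Quotient.mk (I.map (algebraMap S T))) ≤
        (maximalIdeal (S ⧸ I)).map (algebraMap (S ⧸ I) (T ⧸ I.map (algebraMap S T))) := by
      rw [Ideal.map_map, ← IsLocalRing.map_maximalIdeal_of_surjective (Ideal.Quotient.mk I) Ideal.Quotient.mk_surjective,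
        Ideal.map_map]
      exact le_of_eq rfl
    exact hle (Ideal.mem_map_of_mem _ hy)

theorem purityHolds_of_completeIntersection (A : Type u) [CommRing A] [IsNoetherianRing A] [IsLocalRing A]
    (hA : Pi1.IsCompleteIntersection A) (hd : (3 : WithBot ℕ∞) ≤ ringKrullDim A) : FEt.PurityHolds A := by
  obtain ⟨B, _, _, rs, hm, hreg, ⟨e⟩⟩ := hA
  let C := AdicCompletion (maximalIdeal A) A
  haveI : IsNoetherianRing C := Matlis6.isNoetherianRing_adicCompletion _
  haveI : Module.Flat A C := AdicCompletion.flat_of_isNoetherian _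
  haveI : Module.FaithfullyFlat A C := Module.FaithfullyFlat.of_flat_of_isLocalHom
  have hset : Ideal.ofList rs.reverse = Ideal.span {r | r ∈ rs} := by
    rw [ofList_reverse]
  let e' : B ⧸ Ideal.ofList rs.reverse ≃+* C := (Ideal.quotEquivOfEq hset).trans e.symm
  haveI : Nontrivial (B ⧸ Ideal.ofList rs.reverse) := e'.symm.injective.nontrivial
  haveI : IsLocalRing (B ⧸ Ideal.ofList rs.reverse) := .of_surjective' _ Ideal.Quotient.mk_surjective
  have hrev := revRegular_of_isWeaklyRegular rs hreg.toIsWeaklyRegular
  have hmem : ∀ x ∈ rs.reverse, x ∈ maximalIdeal B := fun x hx => hm x (List.mem_reverse.1 hx)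
  -- dimensions
  haveI := CAlgH3.isCohenMacaulayLocalRing_of_regular (R := B)
  have hdep := depth_quotient rs.reverse hmem hrev
  rw [CAlgH3.depth_eq_spanFinrank, ← CAlgH3.depth_quotient_ring, CAlgH3.depth_ringEquiv e'] at hdep
  have hdim : (3 : WithBot ℕ∞) + rs.length ≤ ((maximalIdeal B).spanFinrank : WithBot ℕ∞) := by
    rw [IsRegularLocalRing.spanFinrank_maximalIdeal]
    calc (3 : WithBot ℕ∞) + rs.length ≤ ringKrullDim C + rs.length := by
          refine add_le_add ?_ le_rfl
          rw [CommAlg6.ringKrullDim_completion]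
          exact hd
      _ = ringKrullDim (B ⧸ Ideal.ofList rs) + rs.length := by
          rw [ringKrullDim_eq_of_ringEquiv (e.trans (Ideal.quotEquivOfEq rfl))]
      _ = ringKrullDim B := ringKrullDim_add_length_eq_ringKrullDim_of_isRegular rs hreg
  have hd3 : rs.reverse.length + 3 ≤ (maximalIdeal B).spanFinrank := by
    rw [List.length_reverse]
    have h1 : ((3 + rs.length : ℕ) : WithBot ℕ∞) ≤ ((maximalIdeal B).spanFinrank : WithBot ℕ∞) := by exact_mod_cast hdim
    have : 3 + rs.length ≤ (maximalIdeal B).spanFinrank := by exact_mod_cast h1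
    omega
  have hC : FEt.PurityHolds C :=
    PurityTransfer.purityHolds_of_ringEquiv e' (purityHolds_quotient_regular rs.reverse.length B rs.reverse rfl hmem hrev hd3)
  refine PurityTransfer.purityHolds_of_faithfullyFlat (B := C) (le_trans (le_of_eq AdicCompletion.maximalIdeal_eq_map) Ideal.le_radical) ?_ hC
  -- depth of `A` from that of its completion
  rw [← depth_eq_of_map_eq A C AdicCompletion.maximalIdeal_eq_map.symm, ← CAlgH3.depth_ringEquiv e']
  exact le_trans (by norm_num) (three_le_depth rs.reverse hmem hrev hd3)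

end Groth.Agent.FEtFF.PurityCI
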