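import Groth.Agent.FlatMorWeight.UnramifiedEtale
import Groth.Agent.FlatLocal.StalkCrit
import Mathlib.RingTheory.Localization.BaseChange
import Mathlib.RingTheory.Unramified.LocalRing

/-!
# Unramified and injective on local rings over a geometrically unibranch domain implies flat
-/

set_option autoImplicit false
set_option linter.style.haveILetI false
set_option backward.isDefEq.respectTransparency.types false
universe u

namespace Groth.Agent.FEtFF

open TensorProduct CategoryTheory AlgebraicGeometry

theorem flat_atPrime_of_unramified_of_injective {A L B T : Type u} [CommRing A] [CommRing L] [IsLocalRing L]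
    [Algebra A L] [IsDomain L] (p : Ideal A) [p.IsPrime] [IsLocalization.AtPrime L p]
    (hL : CAlg2.IsGeomUnibranch L) [CommRing B] [Algebra A B] [Algebra.FiniteType A B]
    (q : Ideal B) [q.IsPrime] (hq : q.comap (algebraMap A B) = p) [Algebra.IsUnramifiedAt A q]
    [CommRing T] [Algebra B T] [IsLocalization.AtPrime T q] [Algebra A T] [IsScalarTower A B T]
    [Algebra L T] [IsScalarTower A L T] (hinj : Function.Injective (algebraMap L T)) :
    Module.Flat L T := by
  letI := Algebra.TensorProduct.rightAlgebra (R := A) (A := L) (B := B)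
  set M := Algebra.algebraMapSubmonoid B p.primeCompl
  haveI hloc : IsLocalization M (L ⊗[A] B) := IsLocalization.tensorRight L p.primeCompl
  have hdisj : Disjoint (M : Set B) q := by
    rw [Set.disjoint_left]
    rintro _ ⟨s, hs, rfl⟩ hsq
    exact hs (hq ▸ hsq)
  let q' : Ideal (L ⊗[A] B) := q.map (algebraMap B _)
  have hq'c : q'.comap (algebraMap B _) = q := IsLocalization.under_map_of_isPrime_disjoint M _ ‹_› hdisj
  haveI : q'.IsPrime := IsLocalization.isPrime_of_isPrime_disjoint M _ q ‹_› hdisj
  have hmax : q'.comap (algebraMap L (L ⊗[A] B)) = IsLocalRing.maximalIdeal L := by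
    rw [← IsLocalization.map_under p.primeCompl L (q'.comap (algebraMap L (L ⊗[A] B))),
      ← IsLocalization.map_under p.primeCompl L (IsLocalRing.maximalIdeal L)]
    congr 1
    rw [IsLocalization.AtPrime.under_maximalIdeal L p, Ideal.under, Ideal.comap_comap,
      ← IsScalarTower.algebraMap_eq, ← hq, ← hq'c, Ideal.comap_comap]
    congr 1
    exact ((Algebra.TensorProduct.includeRight : B →ₐ[A] L ⊗[A] B).comp_algebraMap).symm
  let T' := Localization.AtPrime q'
  have hl2 : IsLocalization.AtPrime T' q := by
    have := IsLocalization.isLocalization_isLocalization_atPrime_isLocalization M T' q'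
    convert this using 2
    exact hq'c.symm
  haveI : IsScalarTower A B T' := IsScalarTower.of_algebraMap_eq' (by
    rw [IsScalarTower.algebraMap_eq B (L ⊗[A] B) T', RingHom.comp_assoc,
      show (algebraMap B (L ⊗[A] B)).comp (algebraMap A B) = algebraMap A (L ⊗[A] B) from
        (Algebra.TensorProduct.includeRight : B →ₐ[A] L ⊗[A] B).comp_algebraMap,
      ← IsScalarTower.algebraMap_eq])
  let ψ : T' ≃ₐ[A] T := (IsLocalization.algEquiv q.primeCompl T' T).restrictScalars A
  have hψ : ∀ l : L, ψ (algebraMap L T' l) = algebraMap L T l := by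
    have h : ψ.toAlgHom.comp (IsScalarTower.toAlgHom A L T') = IsScalarTower.toAlgHom A L T :=
      IsLocalization.algHom_ext p.primeCompl (Subsingleton.elim _ _)
    exact fun l => DFunLike.congr_fun h l
  let ψL : T' ≃ₐ[L] T := { ψ with commutes' := hψ }
  haveI : Algebra.FormallyUnramified A T' := Algebra.FormallyUnramified.of_equiv
    ((IsLocalization.algEquiv q.primeCompl (Localization.AtPrime q) T').restrictScalars A)
  haveI : Algebra.IsUnramifiedAt L q' := Algebra.FormallyUnramified.of_restrictScalars A L T'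
  have hinj' : Function.Injective (algebraMap L T') := fun a b hab => hinj (by rw [← hψ, ← hψ, hab])
  obtain ⟨P', hP', -, hP⟩ := Ideal.exists_comap_eq_of_mem_minimalPrimes (algebraMap L T') (I := ⊥) ⊥ (by
    rw [show (⊥ : Ideal T').comap (algebraMap L T') = ⊥ from RingHom.ker_eq_bot_iff_eq_zero _ |>.mpr
      fun x hx => hinj' (by rw [map_zero]; exact hx)]
    simp [Ideal.minimalPrimes_eq_subsingleton_self])
  haveI := hP'
  let P := P'.comap (algebraMap (L ⊗[A] B) T')
  haveI : P.IsPrime := Ideal.comap_isPrime _ _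
  have hPq : P ≤ q' :=
    (Ideal.comap_mono (IsLocalRing.le_maximalIdeal hP'.ne_top)).trans_eq (IsLocalization.AtPrime.under_maximalIdeal T' q')
  have hPbot : P.comap (algebraMap L (L ⊗[A] B)) = ⊥ := by
    rw [Ideal.comap_comap, ← IsScalarTower.algebraMap_eq, hP]
  haveI : IsLocalization.AtPrime L (IsLocalRing.maximalIdeal L) :=
    IsLocalization.self (fun x hx => show IsUnit x by simpa using hx)
  obtain ⟨g, hg, het⟩ := FlatMorWeight.exists_etale_away (A := L) (L := L) q' (IsLocalRing.maximalIdeal L)
    hmax hL P hPq hPbot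
  have hle : Submonoid.powers g ≤ q'.primeCompl := Submonoid.powers_le.mpr hg
  letI : Algebra (Localization.Away g) T' :=
    IsLocalization.localizationAlgebraOfSubmonoidLe _ _ _ _ hle
  haveI : IsScalarTower (L ⊗[A] B) (Localization.Away g) T' :=
    IsLocalization.localization_isScalarTower_of_submonoid_le _ _ _ _ hle
  haveI : IsScalarTower L (Localization.Away g) T' := IsScalarTower.to₁₃₄ L (L ⊗[A] B) (Localization.Away g) T'
  haveI := IsLocalization.isLocalization_of_submonoid_le (Localization.Away g) T' _ _ hle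
  haveI : Module.Flat (Localization.Away g) T' :=
    IsLocalization.flat T' (q'.primeCompl.map (algebraMap (L ⊗[A] B) (Localization.Away g)))
  haveI : Module.Flat L T' := Module.Flat.trans L (Localization.Away g) T'
  exact Module.Flat.of_linearEquiv ψL.symm.toLinearEquiv

theorem flat_stalkMap_of_unramified_of_injective {X Y : Scheme.{u}} (f : X ⟶ Y) [LocallyOfFiniteType f] (x : X)
    (hY : IsDomain (Y.presheaf.stalk (f x))) (hY' : CAlg2.IsGeomUnibranch (Y.presheaf.stalk (f x)))
    (hu : (f.stalkMap x).hom.FormallyUnramified) (hinj : Function.Injective (f.stalkMap x)) :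
    (f.stalkMap x).hom.Flat := by
  obtain ⟨W, hW, V, hV, hxW, hxV, e⟩ := FlatLocal.exists_chart f x
  have hft : (f.appLE W V e).hom.FiniteType :=
    HasRingHomProperty.appLE @LocallyOfFiniteType f inferInstance ⟨W, hW⟩ ⟨V, hV⟩ e
  haveI := FlatLocal.isUnramifiedAt_of_stalkMap f hW hV e hxV hu
  algebraize [(f.appLE W V e).hom]
  letI := Y.presheaf.algebra_section_stalk (⟨f x, hxW⟩ : W)
  letI := X.presheaf.algebra_section_stalk (⟨x, hxV⟩ : V)
  have := hW.isLocalization_stalk ⟨f x, hxW⟩
  have := hV.isLocalization_stalk ⟨x, hxV⟩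
  letI : Algebra (Y.presheaf.stalk (f x)) (X.presheaf.stalk x) := (f.stalkMap x).hom.toAlgebra
  letI : Algebra Γ(Y, W) (X.presheaf.stalk x) :=
    ((algebraMap Γ(X, V) (X.presheaf.stalk x)).comp (algebraMap Γ(Y, W) Γ(X, V))).toAlgebra
  haveI : IsScalarTower Γ(Y, W) Γ(X, V) (X.presheaf.stalk x) := IsScalarTower.of_algebraMap_eq' rfl
  haveI : IsScalarTower Γ(Y, W) (Y.presheaf.stalk (f x)) (X.presheaf.stalk x) := by
    refine IsScalarTower.of_algebraMap_eq' ?_
    have h2 : Y.presheaf.germ W (f x) hxW ≫ f.stalkMap x = f.appLE W V e ≫ X.presheaf.germ V x hxV := by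
      simp only [Scheme.Hom.germ_stalkMap, Scheme.Hom.appLE, Category.assoc, TopCat.Presheaf.germ_res]
    exact (congrArg CommRingCat.Hom.hom h2).symm
  exact flat_atPrime_of_unramified_of_injective (T := X.presheaf.stalk x) (hW.primeIdealOf ⟨f x, hxW⟩).asIdeal hY'
    (hV.primeIdealOf ⟨x, hxV⟩).asIdeal
    (congrArg PrimeSpectrum.asIdeal (IsAffineOpen.comap_primeIdealOf_appLE W hW V hV e hxV)) hinj

end Groth.Agent.FEtFF
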