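import Groth.Agent.FEtFF.EtaleGeomUnibranch
import Groth.Agent.FlatLocal.StalkCrit
import Mathlib.RingTheory.Localization.BaseChange

/-!
# Étale morphisms preserve geometrically unibranch local domains
-/

set_option autoImplicit false
set_option linter.style.haveILetI false
set_option backward.isDefEq.respectTransparency.types false
universe u

namespace Groth.Agent.FEtFF

open TensorProduct CategoryTheory AlgebraicGeometry

theorem isGeomUnibranch_of_ringEquiv {A B : Type u} [CommRing A] [IsLocalRing A] [CommRing B] [IsLocalRing B]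
    [IsDomain A] (e : A ≃+* B) (hA : CAlg2.IsGeomUnibranch A) : IsDomain B ∧ CAlg2.IsGeomUnibranch B := by
  haveI hB : IsDomain B := e.symm.injective.isDomain e.symm.toRingHom
  obtain ⟨⟨hdom, hloc⟩, hins⟩ := hA
  haveI := hdom
  haveI := hloc
  haveI : IsIntegrallyClosed (CAlg2.normRed A) :=
    integralClosure.isIntegrallyClosedOfFiniteExtension (FractionRing (CAlg2.red A))
  haveI : Algebra.IsIntegral A (CAlg2.normRed A) := Algebra.IsIntegral.trans (CAlg2.red A)
  letI : Algebra B (CAlg2.normRed A) := ((algebraMap A (CAlg2.normRed A)).comp e.symm.toRingHom).toAlgebra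
  have hmap : ∀ b, algebraMap B (CAlg2.normRed A) b = algebraMap A (CAlg2.normRed A) (e.symm b) := fun _ => rfl
  haveI : Algebra.IsIntegral B (CAlg2.normRed A) :=
    ⟨RingHom.IsIntegral.trans e.symm.toRingHom _ (RingHom.isIntegral_of_surjective _ e.symm.surjective)
      (Algebra.IsIntegral.isIntegral (R := A) (A := CAlg2.normRed A))⟩
  have hn : Function.Injective (Ideal.Quotient.mk (nilradical A)) := by
    rw [RingHom.injective_iff_ker_eq_bot, Ideal.mk_ker]; exact nilradical_eq_zero A
  refine ⟨hB, isGeomUnibranch_of_normalization B (CAlg2.normRed A) ?_ ?_ ?_⟩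
  · intro a b hab
    exact e.symm.injective (hn (IsFractionRing.injective (CAlg2.red A) _ (congrArg Subtype.val hab)))
  · intro c
    obtain ⟨x, y, hy, hc⟩ := IsFractionRing.div_surjective (A := CAlg2.red A) c.1
    obtain ⟨s, rfl⟩ := Ideal.Quotient.mk_surjective y
    obtain ⟨a, rfl⟩ := Ideal.Quotient.mk_surjective x
    refine ⟨e s, fun h => nonZeroDivisors.ne_zero hy (by rw [(map_eq_zero_iff _ e.injective).mp h, map_zero]), e a,
      Subtype.ext ?_⟩
    rw [hmap, hmap, e.symm_apply_apply, e.symm_apply_apply]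
    show algebraMap (CAlg2.red A) (FractionRing (CAlg2.red A)) (Ideal.Quotient.mk _ s) * c.1 =
      algebraMap (CAlg2.red A) _ (Ideal.Quotient.mk _ a)
    rw [← hc, mul_div_cancel₀]
    exact IsFractionRing.to_map_ne_zero_of_mem_nonZeroDivisors hy
  · intro x
    obtain ⟨n, a, ha⟩ := hins _ x
    refine ⟨n, e a, ?_⟩
    rw [RingHom.comp_apply, hmap, e.symm_apply_apply]
    exact ha

/-- At a point where the local ring of the base is a geometrically unibranch domain. -/
theorem isDomain_and_isGeomUnibranch_atPrime_of_etale {A L B T : Type u} [CommRing A] [CommRing L] [IsLocalRing L]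
    [Algebra A L] [IsDomain L] (p : Ideal A) [p.IsPrime] [IsLocalization.AtPrime L p]
    (hL : CAlg2.IsGeomUnibranch L) [CommRing B] [Algebra A B] [Algebra.Etale A B]
    (q : Ideal B) [q.IsPrime] (hq : q.comap (algebraMap A B) = p)
    [CommRing T] [IsLocalRing T] [Algebra B T] [IsLocalization.AtPrime T q] :
    IsDomain T ∧ CAlg2.IsGeomUnibranch T := by
  letI := Algebra.TensorProduct.rightAlgebra (R := A) (A := L) (B := B)
  set M := Algebra.algebraMapSubmonoid B p.primeCompl
  haveI hloc : IsLocalization M (L ⊗[A] B) := IsLocalization.tensorRight L p.primeCompl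
  have hdisj : Disjoint (M : Set B) q := by
    rw [Set.disjoint_left]
    rintro _ ⟨s, hs, rfl⟩ hsq
    exact hs (hq ▸ hsq)
  let q' : Ideal (L ⊗[A] B) := q.map (algebraMap B _)
  have hq'c : q'.comap (algebraMap B _) = q := IsLocalization.under_map_of_isPrime_disjoint M _ ‹_› hdisj
  haveI : q'.IsPrime := IsLocalization.isPrime_of_isPrime_disjoint M _ q ‹_› hdisj
  have hmax : q'.comap (algebraMap L (L ⊗[A] B)) = IsLocalRing.maximalIdeal L := by
    rw [← IsLocalization.map_under p.primeCompl L (q'.comap (algebraMap L (L ⊗[A] B))),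
      ← IsLocalization.map_under p.primeCompl L (IsLocalRing.maximalIdeal L)]
    congr 1
    rw [IsLocalization.AtPrime.under_maximalIdeal L p, Ideal.under, Ideal.comap_comap,
      ← IsScalarTower.algebraMap_eq, ← hq, ← hq'c, Ideal.comap_comap]
    congr 1
    exact ((Algebra.TensorProduct.includeRight : B →ₐ[A] L ⊗[A] B).comp_algebraMap).symm
  obtain ⟨hd, hg⟩ := isDomain_and_isGeomUnibranch_of_etale hL q' hmax
  haveI := hd
  have hl2 : IsLocalization.AtPrime (Localization.AtPrime q') q := by
    have := IsLocalization.isLocalization_isLocalization_atPrime_isLocalization M (Localization.AtPrime q') q'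
    convert this using 2
    exact hq'c.symm
  exact isGeomUnibranch_of_ringEquiv (IsLocalization.algEquiv q.primeCompl (Localization.AtPrime q') T).toRingEquiv hg

theorem isDomain_and_isGeomUnibranch_stalk {X Y : Scheme.{u}} (f : X ⟶ Y) [Etale f] (x : X)
    (hY : IsDomain (Y.presheaf.stalk (f x))) (hY' : CAlg2.IsGeomUnibranch (Y.presheaf.stalk (f x))) :
    IsDomain (X.presheaf.stalk x) ∧ CAlg2.IsGeomUnibranch (X.presheaf.stalk x) := by
  obtain ⟨W, hW, V, hV, hxW, hxV, e⟩ := FlatLocal.exists_chart f x
  have het : (f.appLE W V e).hom.Etale := HasRingHomProperty.appLE @Etale f inferInstance ⟨W, hW⟩ ⟨V, hV⟩ e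
  algebraize [(f.appLE W V e).hom]
  letI := Y.presheaf.algebra_section_stalk (⟨f x, hxW⟩ : W)
  letI := X.presheaf.algebra_section_stalk (⟨x, hxV⟩ : V)
  have := hW.isLocalization_stalk ⟨f x, hxW⟩
  have := hV.isLocalization_stalk ⟨x, hxV⟩
  exact isDomain_and_isGeomUnibranch_atPrime_of_etale (hW.primeIdealOf ⟨f x, hxW⟩).asIdeal hY'
    (hV.primeIdealOf ⟨x, hxV⟩).asIdeal
    (congrArg PrimeSpectrum.asIdeal (IsAffineOpen.comap_primeIdealOf_appLE W hW V hV e hxV))

end Groth.Agent.FEtFF
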