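import Groth.Prelude.Def_FEt
import Groth.Agent.HenselLib.FiniteEtaleLift
import Groth.Agent.HenselLib.Unique
import Mathlib.RingTheory.TensorProduct.Quotient
import Mathlib.AlgebraicGeometry.Pullbacks

/-!
# Finite étale covers over henselian pairs
-/

set_option autoImplicit false
set_option linter.style.haveILetI false
set_option backward.isDefEq.respectTransparency.types false
set_option backward.isDefEq.respectTransparency false
universe u

open CategoryTheory CategoryTheory.Limits AlgebraicGeometry TensorProduct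

namespace Groth.Agent.FEtFF.HenselPair

/-- A finite étale cover of an affine scheme is the spectrum of a finite étale algebra. -/
theorem exists_affine_form {A : Type u} [CommRing A] (Y : FEt.Cat (Spec (CommRingCat.of A))) :
    ∃ (B : Type u) (_ : CommRing B) (_ : Algebra A B) (_ : Module.Finite A B) (_ : Algebra.Etale A B)
      (e : Y.left ≅ Spec (CommRingCat.of B)), e.hom ≫ Spec.map (CommRingCat.ofHom (algebraMap A B)) = Y.hom := by
  haveI : IsFinite Y.hom := Y.prop.1
  haveI : Etale Y.hom := Y.prop.2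
  haveI : IsAffine Y.left := @isAffine_of_isAffineHom _ _ Y.hom inferInstance (inferInstanceAs (IsAffine (Spec (CommRingCat.of A))))
  let φ : CommRingCat.of A ⟶ Γ(Y.left, ⊤) := Spec.preimage (Y.left.isoSpec.inv ≫ Y.hom)
  have hφ : Spec.map φ = Y.left.isoSpec.inv ≫ Y.hom := Spec.map_preimage _
  have h1 : IsFinite (Spec.map φ) := by rw [hφ]; infer_instance
  have h2 : Etale (Spec.map φ) := by rw [hφ]; infer_instance
  letI := φ.hom.toAlgebra
  exact ⟨Γ(Y.left, ⊤), inferInstance, inferInstance, RingHom.finite_algebraMap.1 ((IsFinite.SpecMap_iff φ).1 h1),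
    RingHom.etale_algebraMap.1 ((HasRingHomProperty.Spec_iff (P := @Etale)).1 h2), Y.left.isoSpec,
    by show Y.left.isoSpec.hom ≫ Spec.map φ = _; rw [hφ, Iso.hom_inv_id_assoc]⟩

variable {A : Type u} [CommRing A] (I : Ideal A)

/-- The base change of `Spec B` to `A ⧸ I` is `Spec (B ⧸ I B)`. -/
theorem isPullback_quotient (B : Type u) [CommRing B] [Algebra A B] :
    ∃ r : Spec (CommRingCat.of (B ⧸ I.map (algebraMap A B))) ⟶ Spec (CommRingCat.of (A ⧸ I)),
      IsPullback (Spec.map (CommRingCat.ofHom (Ideal.Quotient.mk (I.map (algebraMap A B))))) r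
        (Spec.map (CommRingCat.ofHom (algebraMap A B))) (Spec.map (CommRingCat.ofHom (Ideal.Quotient.mk I))) := by
  let e : CommRingCat.of (B ⧸ I.map (algebraMap A B)) ≅ CommRingCat.of (B ⊗[A] (A ⧸ I)) :=
    (Algebra.TensorProduct.quotIdealMapEquivTensorQuot B I).toRingEquiv.toCommRingCatIso
  let E : Spec (CommRingCat.of (B ⧸ I.map (algebraMap A B))) ≅
      pullback (Spec.map (CommRingCat.ofHom (algebraMap A B))) (Spec.map (CommRingCat.ofHom (Ideal.Quotient.mk I))) :=
    (Scheme.Spec.mapIso e.op).symm ≪≫ (pullbackSpecIso A B (A ⧸ I)).symm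
  refine ⟨E.hom ≫ pullback.snd _ _, IsPullback.of_iso_pullback ⟨?_⟩ E ?_ rfl⟩
  · have h : E.hom ≫ pullback.fst _ _ = Spec.map (CommRingCat.ofHom (Ideal.Quotient.mk (I.map (algebraMap A B)))) := by
      show (Spec.map e.inv ≫ (pullbackSpecIso A B (A ⧸ I)).inv) ≫ pullback.fst _ _ = _
      rw [Category.assoc, pullbackSpecIso_inv_fst, ← Spec.map_comp]
      congr 1
      ext b
      show (Algebra.TensorProduct.quotIdealMapEquivTensorQuot B I).symm (b ⊗ₜ[A] 1) = Ideal.Quotient.mk _ b
      exact (AlgEquiv.symm_apply_eq _).2 rfl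
    rw [← h, Category.assoc, Category.assoc, pullback.condition]
  · show (Spec.map e.inv ≫ (pullbackSpecIso A B (A ⧸ I)).inv) ≫ pullback.fst _ _ = _
    rw [Category.assoc, pullbackSpecIso_inv_fst, ← Spec.map_comp]
    congr 1
    ext b
    show (Algebra.TensorProduct.quotIdealMapEquivTensorQuot B I).symm (b ⊗ₜ[A] 1) = Ideal.Quotient.mk _ b
    exact (AlgEquiv.symm_apply_eq _).2 rfl

variable [HenselianRing A I]

/-- Morphisms of covers are the morphisms from the closed fibre. -/
theorem existsUnique_extension (Y Y' : FEt.Cat (Spec (CommRingCat.of A)))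
    (g : pullback Y.hom (Spec.map (CommRingCat.ofHom (Ideal.Quotient.mk I))) ⟶ Y'.left)
    (hg : g ≫ Y'.hom = pullback.fst _ _ ≫ Y.hom) :
    ∃! f : Y.left ⟶ Y'.left, f ≫ Y'.hom = Y.hom ∧
      pullback.fst Y.hom (Spec.map (CommRingCat.ofHom (Ideal.Quotient.mk I))) ≫ f = g := by
  obtain ⟨B, _, _, _, _, eB, heB⟩ := exists_affine_form Y
  obtain ⟨C, _, _, _, _, eC, heC⟩ := exists_affine_form Y'
  obtain ⟨r, sq⟩ := isPullback_quotient I B
  let j := Spec.map (CommRingCat.ofHom (Ideal.Quotient.mk (I.map (algebraMap A B))))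
  have sqY : IsPullback (j ≫ eB.inv) r Y.hom (Spec.map (CommRingCat.ofHom (Ideal.Quotient.mk I))) :=
    sq.of_iso (Iso.refl _) eB.symm (Iso.refl _) (Iso.refl _) (by simp [j]) (by simp)
      (by simp [← heB]) (by simp)
  have hE : sqY.isoPullback.hom ≫ pullback.fst _ _ = j ≫ eB.inv := sqY.isoPullback_hom_fst
  let g₁ : Spec (CommRingCat.of (B ⧸ I.map (algebraMap A B))) ⟶ Spec (CommRingCat.of C) :=
    sqY.isoPullback.hom ≫ g ≫ eC.hom
  let σ₀ := Spec.preimage g₁
  have hσ₀ : Spec.map σ₀ = g₁ := Spec.map_preimage _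
  have hσc : CommRingCat.ofHom (algebraMap A C) ≫ σ₀ =
      CommRingCat.ofHom (algebraMap A B) ≫ CommRingCat.ofHom (Ideal.Quotient.mk (I.map (algebraMap A B))) := by
    apply Spec.map_injective
    rw [Spec.map_comp, Spec.map_comp, hσ₀]
    simp only [g₁, Category.assoc]
    rw [heC, hg, reassoc_of% hE, ← heB, Iso.inv_hom_id_assoc]
  let σ : C →ₐ[A] B ⧸ I.map (algebraMap A B) :=
    { σ₀.hom with commutes' := fun a => congrArg (fun φ => φ.hom a) hσc }
  obtain ⟨τ, hτ, huniq⟩ := Function.bijective_iff_existsUnique _ |>.1 (HenselLib.bijective_comp_mk I C B) σ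
  have hτ' : CommRingCat.ofHom τ.toRingHom ≫ CommRingCat.ofHom (Ideal.Quotient.mk (I.map (algebraMap A B))) = σ₀ :=
    CommRingCat.hom_ext (RingHom.ext fun c => congr($hτ c))
  refine ⟨eB.hom ≫ Spec.map (CommRingCat.ofHom τ.toRingHom) ≫ eC.inv, ⟨?_, ?_⟩, fun f ⟨hf1, hf2⟩ => ?_⟩
  · rw [← heC, Category.assoc, Category.assoc, eC.inv_hom_id_assoc, ← Spec.map_comp, ← heB]
    congr 2
    exact CommRingCat.hom_ext τ.comp_algebraMap
  · rw [← cancel_epi sqY.isoPullback.hom, reassoc_of% hE, eB.inv_hom_id_assoc, ← Category.assoc, ← Spec.map_comp,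
      hτ', hσ₀]
    simp [g₁]
  · let f₁ := eB.inv ≫ f ≫ eC.hom
    let τ₀ := Spec.preimage f₁
    have hτ₀ : Spec.map τ₀ = f₁ := Spec.map_preimage _
    have hc : CommRingCat.ofHom (algebraMap A C) ≫ τ₀ = CommRingCat.ofHom (algebraMap A B) := by
      apply Spec.map_injective
      rw [Spec.map_comp, hτ₀]
      simp only [f₁, Category.assoc]
      rw [heC, hf1, ← heB, Iso.inv_hom_id_assoc]
    let τ₁ : C →ₐ[A] B := { τ₀.hom with commutes' := fun a => congrArg (fun φ => φ.hom a) hc }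
    have h1 : τ₁ = τ := huniq τ₁ (AlgHom.ext fun c => by
      have : τ₀ ≫ CommRingCat.ofHom (Ideal.Quotient.mk (I.map (algebraMap A B))) = σ₀ := by
        apply Spec.map_injective
        rw [Spec.map_comp, hτ₀, hσ₀]
        simp only [f₁, g₁]
        rw [← hf2, Category.assoc, reassoc_of% hE]
      exact congrArg (fun φ => φ.hom c) this)
    have h2 : τ₀ = CommRingCat.ofHom τ.toRingHom := CommRingCat.hom_ext (RingHom.ext fun c => congr($h1 c))
    rw [← h2, hτ₀]
    simp [f₁]

/-- Finite étale covers over a henselian pair are those of the quotient. -/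
theorem restrict_isEquivalence :
    (FEt.restrict (Spec.map (CommRingCat.ofHom (Ideal.Quotient.mk I)))).IsEquivalence := by
  let i := Spec.map (CommRingCat.ofHom (Ideal.Quotient.mk I))
  have hfst : ∀ {Y Y' : FEt.Cat (Spec (CommRingCat.of A))} (φ : Y ⟶ Y'),
      ((FEt.restrict i).map φ).left ≫ pullback.fst Y'.hom i = pullback.fst Y.hom i ≫ φ.left :=
    fun φ => pullback.lift_fst _ _ _
  have : (FEt.restrict i).Faithful := ⟨fun {Y Y'} φ φ' h => by
    obtain ⟨f, -, hu⟩ := existsUnique_extension I Y Y' (pullback.fst Y.hom i ≫ φ.left)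
      (by rw [Category.assoc]; exact congrArg (_ ≫ ·) (Over.w φ.hom))
    refine MorphismProperty.Over.Hom.ext ?_
    refine (hu _ ⟨Over.w φ.hom, rfl⟩).trans (hu _ ⟨Over.w φ'.hom, ?_⟩).symm
    rw [← hfst, ← hfst, h]⟩
  have : (FEt.restrict i).Full := ⟨fun {Y Y'} ψ => by
    obtain ⟨f, ⟨hf1, hf2⟩, -⟩ := existsUnique_extension I Y Y' (ψ.left ≫ pullback.fst Y'.hom i)
      (by
        rw [Category.assoc, pullback.condition, ← Category.assoc]
        exact (congrArg (· ≫ i) (Over.w ψ.hom)).trans pullback.condition.symm)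
    refine ⟨MorphismProperty.Over.homMk f hf1, MorphismProperty.Over.Hom.ext (pullback.hom_ext ?_ ?_)⟩
    · rw [hfst]; exact hf2
    · exact (pullback.lift_snd _ _ _).trans (Over.w ψ.hom).symm⟩
  have : (FEt.restrict i).EssSurj := ⟨fun Z => by
    obtain ⟨C, _, _, _, _, eC, heC⟩ := exists_affine_form Z
    obtain ⟨B, _, _, _, _, ⟨θ⟩⟩ := HenselLib.exists_finiteEtale_lift A I C
    let b := Spec.map (CommRingCat.ofHom (algebraMap A B))
    have hfin : IsFinite b := (IsFinite.SpecMap_iff _).2 (RingHom.finite_algebraMap.2 ‹_›)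
    have het : Etale b := (HasRingHomProperty.Spec_iff (P := @Etale)).2 (RingHom.etale_algebraMap.2 ‹_›)
    let δ : CommRingCat.of C ≅ CommRingCat.of (B ⊗[A] (A ⧸ I)) :=
      (θ.symm.toRingEquiv.trans (Algebra.TensorProduct.comm A (A ⧸ I) B).toRingEquiv).toCommRingCatIso
    refine ⟨MorphismProperty.Over.mk ⊤ b ⟨hfin, het⟩, ⟨MorphismProperty.Over.isoMk
      ((pullbackSpecIso A B (A ⧸ I)) ≪≫ Scheme.Spec.mapIso δ.op ≪≫ eC.symm) ?_⟩⟩
    show ((pullbackSpecIso A B (A ⧸ I)).hom ≫ Spec.map δ.hom ≫ eC.inv) ≫ Z.hom = pullback.snd b i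
    rw [← heC, Category.assoc, Category.assoc, eC.inv_hom_id_assoc, ← Spec.map_comp,
      ← Iso.eq_inv_comp]
    refine Eq.trans ?_ (pullbackSpecIso_inv_snd A B (A ⧸ I)).symm
    congr 1
    ext q
    show Algebra.TensorProduct.comm A (A ⧸ I) B (θ.symm (algebraMap (A ⧸ I) C (Ideal.Quotient.mk I q))) = _
    rw [θ.symm.commutes]
    rfl⟩
  exact { }

end Groth.Agent.FEtFF.HenselPair
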