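import Groth.Agent.FEtFF.PurityExtend
import Groth.Agent.FEtFF.PurityRegular
import Groth.Agent.Et18.EtaleLocalRing
import Groth.Agent.CAlgH3.RegularHom
import Groth.Agent.S0247
import Groth.Agent.CAlgH3.Factorial

/-!
# Extending finite étale covers over regular points of codimension one
-/

set_option autoImplicit false
set_option linter.style.haveILetI false
set_option backward.isDefEq.respectTransparency.types false
set_option backward.isDefEq.respectTransparency false
universe u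

open CategoryTheory CategoryTheory.Limits AlgebraicGeometry TopologicalSpace Opposite

namespace Groth.Agent.FEtFF.ExtendNormal

variable {Y : Scheme.{u}} [IsLocallyNoetherian Y]

/-- A dense open contains every point without proper generization. -/
theorem mem_of_dense_of_minimal {U : Y.Opens} (hU : Dense (U : Set Y)) {η : Y}
    (hη : ∀ z : Y, z ⤳ η → z = η) : η ∈ U := by
  obtain ⟨W, hW, hηW, -⟩ := exists_isAffineOpen_mem_and_subset (X := Y) (x := η) (U := ⊤) trivial
  haveI : IsNoetherianRing Γ(Y, W) := IsLocallyNoetherian.component_noetherian ⟨W, hW⟩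
  let q := hW.primeIdealOf ⟨η, hηW⟩
  have hq : hW.fromSpec q = η := hW.fromSpec_primeIdealOf _
  have hmin : ∀ r : PrimeSpectrum Γ(Y, W), r.asIdeal ≤ q.asIdeal → r = q := fun r hr =>
    hW.fromSpec.isOpenEmbedding.injective ((hη _ (hq ▸ ((PrimeSpectrum.le_iff_specializes r q).1 hr).map
      hW.fromSpec.continuous)).trans hq.symm)
  have hqmin : q.asIdeal ∈ minimalPrimes Γ(Y, W) :=
    ⟨⟨q.2, bot_le⟩, fun p hp hpq => (congrArg PrimeSpectrum.asIdeal (hmin ⟨p, hp.1⟩ hpq)).ge⟩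
  have hfin : (minimalPrimes Γ(Y, W) \ {q.asIdeal}).Finite := (minimalPrimes.finite_of_isNoetherianRing Γ(Y, W)).subset Set.sdiff_subset
  obtain ⟨f, hfq, hf⟩ : ∃ f, f ∉ q.asIdeal ∧ ∀ p ∈ minimalPrimes Γ(Y, W), p ≠ q.asIdeal → f ∈ p := by
    classical
    have hnle : ¬ (hfin.toFinset.inf id : Ideal Γ(Y, W)) ≤ q.asIdeal := by
      intro h
      obtain ⟨p, hp, hpq⟩ := (Ideal.IsPrime.inf_le' q.2).1 h
      rw [Set.Finite.mem_toFinset] at hp
      haveI := hp.1.1.1
      exact hp.2 (congrArg PrimeSpectrum.asIdeal (hmin ⟨p, inferInstance⟩ hpq))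
    obtain ⟨f, hf, hfq⟩ := SetLike.not_le_iff_exists.1 hnle
    exact ⟨f, hfq, fun p hp hne => (Finset.inf_le (f := id) (hfin.mem_toFinset.2 ⟨hp, hne⟩) : _ ≤ p) hf⟩
  let O : Y.Opens := hW.fromSpec ''ᵁ PrimeSpectrum.basicOpen f
  obtain ⟨w, hwU, hw⟩ := hU.exists_mem_open O.2 ⟨η, q, hfq, hq⟩
  obtain ⟨r, hr, rfl⟩ := hw
  obtain ⟨p, hp, hpr⟩ := Ideal.exists_minimalPrimes_le (I := (⊥ : Ideal Γ(Y, W))) (J := r.asIdeal) bot_le
  have hpq : p = q.asIdeal := by_contra fun h => hr (hpr (hf p hp h))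
  have hs : η ⤳ hW.fromSpec r :=
    hq ▸ ((PrimeSpectrum.le_iff_specializes q r).1 (show q.asIdeal ≤ r.asIdeal from hpq ▸ hpr)).map hW.fromSpec.continuous
  exact hs.mem_open U.2 hwU

omit [IsLocallyNoetherian Y] in
/-- The stalk at the generic point of an integral affine open is the fraction field of the other stalks. -/
theorem isFractionRing_stalk {N : Y.Opens} (hN : IsAffineOpen N) {z η : Y} (hzN : z ∈ N) (hηN : η ∈ N)
    (hηz : η ⤳ z) [IsDomain (Y.presheaf.stalk z)] (hinjz : Function.Injective (Y.presheaf.germ N z hzN))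
    (hall : ∀ w ∈ N, η ⤳ w) :
    @IsFractionRing (Y.presheaf.stalk z) _ (Y.presheaf.stalk η) _ (Y.presheaf.stalkSpecializes hηz).hom.toAlgebra := by
  haveI : IsDomain Γ(Y, N) := hinjz.isDomain _
  letI : Algebra (Y.presheaf.stalk z) (Y.presheaf.stalk η) := (Y.presheaf.stalkSpecializes hηz).hom.toAlgebra
  letI : Algebra Γ(Y, N) (Y.presheaf.stalk z) := (Y.presheaf.germ N z hzN).hom.toAlgebra
  letI : Algebra Γ(Y, N) (Y.presheaf.stalk η) := (Y.presheaf.germ N η hηN).hom.toAlgebra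
  haveI : IsScalarTower Γ(Y, N) (Y.presheaf.stalk z) (Y.presheaf.stalk η) := .of_algebraMap_eq fun r => by
    show Y.presheaf.germ N η hηN r = Y.presheaf.stalkSpecializes hηz (Y.presheaf.germ N z hzN r)
    rw [← CommRingCat.comp_apply, TopCat.Presheaf.germ_stalkSpecializes]
  let q := hN.primeIdealOf ⟨η, hηN⟩
  haveI := hN.isLocalization_stalk ⟨η, hηN⟩
  haveI := hN.isLocalization_stalk ⟨z, hzN⟩
  have hq : q.asIdeal = ⊥ := by
    let o : PrimeSpectrum Γ(Y, N) := ⟨⊥, Ideal.isPrime_bot⟩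
    have h : q ⤳ o := by
      rw [← hN.fromSpec.isOpenEmbedding.isInducing.specializes_iff, hN.fromSpec_primeIdealOf]
      exact hall _ (hN.range_fromSpec.le (Set.mem_range_self o))
    exact le_bot_iff.1 ((PrimeSpectrum.le_iff_specializes q o).2 h)
  haveI : IsFractionRing Γ(Y, N) (Y.presheaf.stalk η) := by
    show IsLocalization (nonZeroDivisors Γ(Y, N)) _
    have h : nonZeroDivisors Γ(Y, N) = q.asIdeal.primeCompl := by
      ext r
      rw [mem_nonZeroDivisors_iff_ne_zero, Ideal.primeCompl, Submonoid.mem_mk]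
      show r ≠ 0 ↔ r ∉ q.asIdeal
      rw [hq, Ideal.mem_bot]
    rw [h]
    infer_instance
  exact IsFractionRing.isFractionRing_of_isDomain_of_isLocalization (hN.primeIdealOf ⟨z, hzN⟩).asIdeal.primeCompl
    (Y.presheaf.stalk z) (Y.presheaf.stalk η)

variable (V : Y.Opens) (hdom : ∀ z : Y, z ∉ V → IsDomain (Y.presheaf.stalk z))
  (hgen : ∀ η : Y, (∀ z : Y, z ⤳ η → z = η) → η ∈ V)

include hdom hgen in
/-- Near a point with domain local ring the scheme is integral with generic point in the open. -/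
theorem exists_integral_nhd (z : Y) (hz : z ∉ V) (O : Y.Opens) (hzO : z ∈ O) :
    ∃ (N : Y.Opens) (η : Y) (hzN : z ∈ N), IsAffineOpen N ∧ N ≤ O ∧ η ⤳ z ∧ η ∈ V ∧
      Function.Injective (Y.presheaf.germ N z hzN) ∧ (∀ w ∈ N, η ⤳ w) ∧
      ∀ (O' : Y.Opens) (hO' : O' ≤ N) (hη : η ∈ O'), Function.Injective (Y.presheaf.germ O' η hη) := by
  haveI := hdom z hz
  obtain ⟨N₀, hzN₀, hN₀, hle, hinj⟩ := Y.exists_le_and_germ_injective z O hzO
  haveI : IsDomain Γ(Y, N₀) := hinj.isDomain _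
  haveI : IsIntegral N₀.toScheme := by
    haveI : IsAffine N₀.toScheme := hN₀
    haveI : IsDomain Γ(N₀.toScheme, ⊤) := N₀.topIso.commRingCatIsoToRingEquiv.isDomain_iff.2 ‹_›
    haveI : Nonempty N₀.toScheme := ⟨⟨z, hzN₀⟩⟩
    exact isIntegral_of_isAffine_of_isDomain _
  haveI : Nonempty N₀.toScheme := ⟨⟨z, hzN₀⟩⟩
  let ξ := genericPoint N₀.toScheme
  have hall : ∀ w : Y, w ∈ N₀ → ξ.1 ⤳ w := fun w hw =>
    (genericPoint_specializes (α := N₀.toScheme) ⟨w, hw⟩).map N₀.ι.continuous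
  refine ⟨N₀, ξ.1, hzN₀, hN₀, hle, hall z hzN₀, ?_, hinj, hall, fun O' hO' hη => ?_⟩
  · refine hgen _ fun w hw => ?_
    have hwN : w ∈ N₀ := hw.mem_open N₀.2 ξ.2
    exact (hw.antisymm (hall w hwN)).eq
  · refine (injective_iff_map_eq_zero _).2 fun t ht => ?_
    have hη' : ξ ∈ N₀.ι ⁻¹ᵁ O' := hη
    have h1 : N₀.toScheme.presheaf.germ (N₀.ι ⁻¹ᵁ O') ξ hη' (N₀.ι.app O' t) = 0 := by
      rw [← Scheme.Hom.germ_stalkMap_apply]
      exact (congrArg (N₀.ι.stalkMap ξ) ht).trans (map_zero _)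
    have h2 : N₀.ι.app O' t = 0 :=
      (germ_injective_of_isIntegral N₀.toScheme ξ hη') (h1.trans (map_zero _).symm)
    haveI : IsIso (N₀.ι.app O') := N₀.ι.isIso_app _ (by rw [Scheme.Opens.opensRange_ι]; exact hO')
    exact (ConcreteCategory.bijective_of_isIso (N₀.ι.app O')).1 (h2.trans (map_zero _).symm)

include hdom hgen in
/-- Sections are determined on the open. -/
theorem injective_res (O : Y.Opens) : Function.Injective (Y.presheaf.map (homOfLE (inf_le_left : O ⊓ V ≤ O)).op) := by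
  refine (injective_iff_map_eq_zero _).2 fun t ht => ?_
  refine TopCat.Presheaf.section_ext Y.sheaf O t 0 fun z hzO => ?_
  by_cases hzV : z ∈ V
  · have := congrArg (Y.presheaf.germ (O ⊓ V) z ⟨hzO, hzV⟩) ht
    rw [TopCat.Presheaf.germ_res_apply, map_zero] at this
    exact this.trans (map_zero _).symm
  · obtain ⟨N, η, hzN, -, hNO, hηz, hηV, -, -, hinj⟩ := exists_integral_nhd V hdom hgen z hzV O hzO
    have hηN : η ∈ N := hηz.mem_open N.2 hzN
    have h0 := congrArg (Y.presheaf.germ (O ⊓ V) η ⟨hNO hηN, hηV⟩) ht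
    rw [TopCat.Presheaf.germ_res_apply, map_zero] at h0
    have h1 : Y.presheaf.map (homOfLE hNO).op t = 0 := by
      refine hinj N le_rfl hηN ?_
      rw [TopCat.Presheaf.germ_res_apply, map_zero]
      exact h0
    have := congrArg (Y.presheaf.germ N z hzN) h1
    rw [TopCat.Presheaf.germ_res_apply, map_zero] at this
    exact this.trans (map_zero _).symm

include hdom hgen in
/-- A section on the open which is integral over the sections extends, when the points outside are normal. -/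
theorem exists_extension_of_isIntegral (hnor : ∀ z : Y, z ∉ V → IsIntegrallyClosed (Y.presheaf.stalk z))
    (O : Y.Opens) (s : Γ(Y, O ⊓ V))
    (hs : (Y.presheaf.map (homOfLE (inf_le_left : O ⊓ V ≤ O)).op).hom.IsIntegralElem s) :
    ∃ t : Γ(Y, O), Y.presheaf.map (homOfLE (inf_le_left : O ⊓ V ≤ O)).op t = s := by
  have hloc : ∀ z : O, ∃ (N : Y.Opens) (hNO : N ≤ O) (t : Γ(Y, N)), z.1 ∈ N ∧
      Y.presheaf.map (homOfLE (inf_le_left : N ⊓ V ≤ N)).op t =
        Y.presheaf.map (homOfLE (inf_le_inf_right V hNO)).op s := by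
    intro ⟨z, hzO⟩
    by_cases hzV : z ∈ V
    · refine ⟨O ⊓ V, inf_le_left, s, ⟨hzO, hzV⟩, ?_⟩
      exact congrArg (fun φ => Y.presheaf.map φ s) (Subsingleton.elim (homOfLE _).op (homOfLE _).op)
    obtain ⟨N, η, hzN, hN, hNO, hηz, hηV, hinjz, hall, hinj⟩ := exists_integral_nhd V hdom hgen z hzV O hzO
    haveI := hdom z hzV
    haveI := hnor z hzV
    have hηN : η ∈ N := hηz.mem_open N.2 hzN
    letI : Algebra (Y.presheaf.stalk z) (Y.presheaf.stalk η) := (Y.presheaf.stalkSpecializes hηz).hom.toAlgebra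
    haveI : IsFractionRing (Y.presheaf.stalk z) (Y.presheaf.stalk η) :=
      isFractionRing_stalk hN hzN hηN hηz hinjz hall
    let sη : Y.presheaf.stalk η := Y.presheaf.germ (O ⊓ V) η ⟨hNO hηN, hηV⟩ s
    have hint : _root_.IsIntegral (Y.presheaf.stalk z) sη := by
      obtain ⟨p, hp, hev⟩ := hs
      refine ⟨p.map (Y.presheaf.germ O z hzO).hom, hp.map _, ?_⟩
      rw [Polynomial.eval₂_map]
      have := congrArg (Y.presheaf.germ (O ⊓ V) η ⟨hNO hηN, hηV⟩) hev
      rw [map_zero, Polynomial.hom_eval₂] at this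
      refine Eq.trans ?_ this
      congr 1
      rw [RingHom.algebraMap_toAlgebra, ← CommRingCat.hom_comp, ← CommRingCat.hom_comp,
          TopCat.Presheaf.germ_stalkSpecializes, TopCat.Presheaf.germ_res]
    obtain ⟨b, hb⟩ := IsIntegrallyClosed.isIntegral_iff.1 hint
    obtain ⟨N₁, hzN₁, t₁, ht₁⟩ := Y.presheaf.exists_germ_eq b
    refine ⟨N ⊓ N₁, inf_le_left.trans hNO, Y.presheaf.map (homOfLE inf_le_right).op t₁, ⟨hzN, hzN₁⟩, ?_⟩
    have hη1 : η ∈ N₁ := hηz.mem_open N₁.2 hzN₁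
    refine hinj ((N ⊓ N₁) ⊓ V) (inf_le_left.trans inf_le_left) ⟨⟨hηN, hη1⟩, hηV⟩ ?_
    rw [TopCat.Presheaf.germ_res_apply, TopCat.Presheaf.germ_res_apply, TopCat.Presheaf.germ_res_apply]
    show Y.presheaf.germ N₁ η hη1 t₁ = sη
    rw [← hb, ← ht₁, RingHom.algebraMap_toAlgebra, ← CommRingCat.comp_apply, TopCat.Presheaf.germ_stalkSpecializes]
  choose N hNO t hzN ht using hloc
  have hcomp : TopCat.Presheaf.IsCompatible Y.sheaf.1 N t := by
    intro i j
    refine injective_res V hdom hgen (N i ⊓ N j) ?_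
    have h1 := congrArg (Y.presheaf.map (homOfLE (inf_le_inf_right V (inf_le_left : N i ⊓ N j ≤ N i))).op) (ht i)
    have h2 := congrArg (Y.presheaf.map (homOfLE (inf_le_inf_right V (inf_le_right : N i ⊓ N j ≤ N j))).op) (ht j)
    rw [← CommRingCat.comp_apply, ← CommRingCat.comp_apply, ← Functor.map_comp, ← Functor.map_comp] at h1 h2
    show (Y.presheaf.map _) (Y.presheaf.map _ (t i)) = (Y.presheaf.map _) (Y.presheaf.map _ (t j))
    rw [← CommRingCat.comp_apply, ← CommRingCat.comp_apply, ← Functor.map_comp, ← Functor.map_comp]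
    exact h1.trans (h2.symm)
  obtain ⟨T, hT, -⟩ := Y.sheaf.existsUnique_gluing' N O (fun i => homOfLE (hNO i))
    (fun z hz => Opens.mem_iSup.2 ⟨⟨z, hz⟩, hzN _⟩) t hcomp
  refine ⟨T, TopCat.Presheaf.section_ext Y.sheaf (O ⊓ V) _ s fun z hz => ?_⟩
  have hi := congrArg (Y.presheaf.germ (N ⟨z, hz.1⟩ ⊓ V) z ⟨hzN _, hz.2⟩) (ht ⟨z, hz.1⟩)
  rw [← hT ⟨z, hz.1⟩] at hi
  show Y.presheaf.germ (O ⊓ V) z hz _ = Y.presheaf.germ (O ⊓ V) z hz s
  rw [TopCat.Presheaf.germ_res_apply]
  rw [TopCat.Presheaf.germ_res_apply, TopCat.Presheaf.germ_res_apply] at hi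
  exact ((TopCat.Presheaf.germ_res_apply _ _ _ _ _).symm.trans hi)

/-- The normalization is finite étale where a finite étale cover has the same integral sections. -/
theorem finite_etale_normalization_app {X V V' : Scheme.{u}} (f : V ⟶ X) [QuasiCompact f] [QuasiSeparated f]
    (a : V ⟶ V') (g : V' ⟶ X) (hf : f = a ≫ g) {O : X.Opens} (hO : IsAffineOpen O)
    (hfin : (g.app O).hom.Finite) (het : (g.app O).hom.Etale)
    (hinj : Function.Injective (a.app (g ⁻¹ᵁ O)))
    (himg : ∀ s, ((a ≫ g).app O).hom.IsIntegralElem s → s ∈ Set.range (a.app (g ⁻¹ᵁ O))) :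
    (f.fromNormalization.app O).hom.Finite ∧ (f.fromNormalization.app O).hom.Etale := by
  subst hf
  letI := ((a ≫ g).app O).hom.toAlgebra
  let C := integralClosure Γ(X, O) Γ(V, (a ≫ g) ⁻¹ᵁ O)
  let ψ₀ : Γ(V', g ⁻¹ᵁ O) →+* C := RingHom.codRestrict (a.app (g ⁻¹ᵁ O)).hom C fun b => by
    obtain ⟨p, hp, hev⟩ := hfin.to_isIntegral b
    refine ⟨p, hp, ?_⟩
    have := congrArg (a.app (g ⁻¹ᵁ O)) hev
    rw [map_zero, Polynomial.hom_eval₂] at this
    exact this
  have hb : Function.Bijective ψ₀ :=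
    ⟨fun b b' h => hinj (congrArg Subtype.val h), fun ⟨s, hs⟩ => (himg s hs).imp fun b hb => Subtype.ext hb⟩
  let ψ := RingEquiv.ofBijective ψ₀ hb
  have halg : algebraMap Γ(X, O) C = ψ.toRingHom.comp (g.app O).hom := by
    ext r
    rfl
  rw [(a ≫ g).fromNormalization_app hO]
  refine ⟨?_, ?_⟩
  · refine RingHom.finite_respectsIso.1 (algebraMap Γ(X, O) C) ((a ≫ g).normalizationObjIso hO).symm.commRingCatIsoToRingEquiv ?_
    rw [halg]
    exact RingHom.finite_respectsIso.1 _ ψ hfin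
  · refine RingHom.Etale.respectsIso.1 (algebraMap Γ(X, O) C) ((a ≫ g).normalizationObjIso hO).symm.commRingCatIsoToRingEquiv ?_
    rw [halg]
    exact RingHom.Etale.respectsIso.1 _ ψ het

variable {X : Scheme.{u}} [IsLocallyNoetherian X] {U : X.Opens}

omit [IsLocallyNoetherian X] in
/-- A point which is its own only generization in a regular local ring of dimension zero. -/
theorem eq_of_specializes_of_spanFinrank_zero {x : X} [IsRegularLocalRing (X.presheaf.stalk x)]
    (h0 : (IsLocalRing.maximalIdeal (X.presheaf.stalk x)).spanFinrank = 0) {z : X} (hz : z ⤳ x) : z = x := by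
  obtain ⟨q, rfl⟩ := Scheme.range_fromSpecStalk.ge hz
  have hm : IsLocalRing.maximalIdeal (X.presheaf.stalk x) = ⊥ :=
    (Submodule.spanFinrank_eq_zero_iff_eq_bot (IsNoetherian.noetherian _)).1 h0
  have : q = IsLocalRing.closedPoint _ := PrimeSpectrum.ext (le_antisymm (IsLocalRing.le_maximalIdeal q.2.ne_top)
    (hm.trans_le bot_le))
  rw [this, Scheme.fromSpecStalk_closedPoint]

omit [IsLocallyNoetherian X] in
/-- In a regular local ring of dimension one the only points are the closed and the generic one. -/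
theorem minimal_of_specializes_of_spanFinrank_one {x : X} [IsRegularLocalRing (X.presheaf.stalk x)]
    (h1 : (IsLocalRing.maximalIdeal (X.presheaf.stalk x)).spanFinrank = 1) {z : X} (hz : z ⤳ x) (hne : z ≠ x)
    {w : X} (hw : w ⤳ z) : w = z := by
  haveI := CAlgH3.isDomain_of_isRegularLocalRing (X.presheaf.stalk x)
  have hm : (IsLocalRing.maximalIdeal (X.presheaf.stalk x)).height = 1 := by
    have := IsLocalRing.maximalIdeal_height_eq_ringKrullDim (R := X.presheaf.stalk x)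
    rw [← IsRegularLocalRing.spanFinrank_maximalIdeal, h1] at this
    exact_mod_cast this
  obtain ⟨q, rfl⟩ := Scheme.range_fromSpecStalk.ge hz
  obtain ⟨q', rfl⟩ := Scheme.range_fromSpecStalk.ge (hw.trans hz)
  have hq : q.asIdeal = ⊥ := by_contra fun h => by
    have hlt : q.asIdeal < IsLocalRing.maximalIdeal (X.presheaf.stalk x) :=
      lt_of_le_of_ne (IsLocalRing.le_maximalIdeal q.2.ne_top) fun e => hne (by
        rw [show q = IsLocalRing.closedPoint _ from PrimeSpectrum.ext e, Scheme.fromSpecStalk_closedPoint])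
    have h2 : (⊥ : Ideal (X.presheaf.stalk x)).height < q.asIdeal.height :=
      Ideal.height_strict_mono_of_isPrime (bot_lt_iff_ne_bot.2 h)
    have h3 := Ideal.height_strict_mono_of_isPrime hlt
    rw [hm, ENat.lt_one_iff_eq_zero] at h3
    rw [h3] at h2
    exact not_lt_bot h2
  have hsp : q' ⤳ q := (X.fromSpecStalk x).isEmbedding.isInducing.specializes_iff.1 hw
  have : q'.asIdeal ≤ q.asIdeal := (PrimeSpectrum.le_iff_specializes q' q).2 hsp
  rw [show q' = q from PrimeSpectrum.ext (le_antisymm this (hq.trans_le bot_le))]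

set_option maxHeartbeats 800000 in
/-- The step: extend across one maximal point of the complement. -/
theorem exists_extension_step (hU : Dense (U : Set X))
    (hreg : ∀ x : X, x ∉ U → IsRegularLocalRing (X.presheaf.stalk x))
    (Y : FEt.Cat (U : Scheme.{u}))
    (hunr : ∀ ξ : X, ξ ∉ U → ringKrullDim (X.presheaf.stalk ξ) = 1 →
      ∃ Yξ : FEt.Cat (Spec (X.presheaf.stalk ξ)),
        Nonempty ((FEt.restrict (pullback.snd U.ι (X.fromSpecStalk ξ))).obj Yξ ≅
          (FEt.restrict (pullback.fst U.ι (X.fromSpecStalk ξ))).obj Y))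
    {U' : X.Opens} (hle : U ≤ U') {V' : Scheme.{u}} (v' : V' ⟶ U') [IsFinite v'] [Etale v'] (a : Y.left ⟶ V')
    (sq : IsPullback a Y.hom v' (X.homOfLE hle)) {x : X} (hx : x ∉ U') (hgen : ∀ z, z ⤳ x → z ≠ x → z ∈ U') :
    ∃ (N : X.Opens) (V'' : Scheme.{u}) (v'' : V'' ⟶ (U' ⊔ N : X.Opens)) (b : V' ⟶ V''),
      x ∈ N ∧ IsFinite v'' ∧ Etale v'' ∧ IsPullback b v' v'' (X.homOfLE le_sup_left) := by
  have hxU : x ∉ U := fun h => hx (hle h)
  haveI := hreg x hxU
  rcases lt_or_ge (IsLocalRing.maximalIdeal (X.presheaf.stalk x)).spanFinrank 2 with hlt | h2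
  · have h1 : (IsLocalRing.maximalIdeal (X.presheaf.stalk x)).spanFinrank = 1 := by
      by_contra h
      exact hxU (mem_of_dense_of_minimal hU fun z hz => eq_of_specializes_of_spanFinrank_zero (by omega) hz)
    obtain ⟨Yξ, ⟨e⟩⟩ := hunr x hxU (by rw [← IsRegularLocalRing.spanFinrank_maximalIdeal, h1]; rfl)
    let p1 := pullback.fst U.ι (X.fromSpecStalk x)
    let p2 := pullback.snd U.ι (X.fromSpecStalk x)
    haveI : IsFinite Yξ.hom := Yξ.prop.1
    haveI : Etale Yξ.hom := Yξ.prop.2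
    have hP : IsPullback (p1 ≫ X.homOfLE hle) p2 U'.ι (X.fromSpecStalk x) := by
      refine IsOpenImmersion.isPullback _ p2 U'.ι _ (by rw [Category.assoc, Scheme.homOfLE_ι]; exact pullback.condition.symm) ?_
      ext r
      rw [Scheme.Opens.opensRange_ι]
      show _ ↔ r ∈ Set.range (pullback.snd U.ι (X.fromSpecStalk x))
      rw [Scheme.Pullback.range_snd, Scheme.Opens.range_ι]
      refine ⟨fun hr => ?_, fun hr => hle hr⟩
      have hs : X.fromSpecStalk x r ⤳ x := Scheme.range_fromSpecStalk.le ⟨r, rfl⟩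
      exact mem_of_dense_of_minimal hU fun w hw =>
        minimal_of_specializes_of_spanFinrank_one h1 hs (fun e => hx (e ▸ hr)) hw
    refine ExtendPoint.exists_extension_at U' x v' Yξ.hom hP
      ((IsPullback.of_hasPullback Y.hom p1).paste_horiz sq) (r1 := e.inv.left ≫ pullback.fst Yξ.hom p2) ?_
    let i : pullback Yξ.hom p2 ≅ pullback Y.hom p1 :=
      { hom := e.hom.left, inv := e.inv.left
        hom_inv_id := congrArg (fun k => k.left) e.hom_inv_id
        inv_hom_id := congrArg (fun k => k.left) e.inv_hom_id }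
    have hi : i.hom ≫ pullback.snd Y.hom p1 = pullback.snd Yξ.hom p2 := FEtQuot.hom_w e.hom
    refine IsPullback.of_iso_pullback ⟨?_⟩ i.symm rfl ?_
    · show (i.inv ≫ _) ≫ _ = _
      rw [Category.assoc, pullback.condition, ← hi, Category.assoc, i.inv_hom_id_assoc]
    · exact (Iso.inv_comp_eq i).2 hi.symm
  · refine PurityExtend.exists_extension_of_purityHolds hx hgen (S0247.result _ ?_) v'
    rw [← IsRegularLocalRing.spanFinrank_maximalIdeal]
    exact_mod_cast h2

/-- Extension over a larger open containing a given affine open. -/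
theorem exists_extension_le (hU : Dense (U : Set X))
    (hreg : ∀ x : X, x ∉ U → IsRegularLocalRing (X.presheaf.stalk x))
    (Y : FEt.Cat (U : Scheme.{u}))
    (hunr : ∀ ξ : X, ξ ∉ U → ringKrullDim (X.presheaf.stalk ξ) = 1 →
      ∃ Yξ : FEt.Cat (Spec (X.presheaf.stalk ξ)),
        Nonempty ((FEt.restrict (pullback.snd U.ι (X.fromSpecStalk ξ))).obj Yξ ≅
          (FEt.restrict (pullback.fst U.ι (X.fromSpecStalk ξ))).obj Y))
    {O : X.Opens} (hO : IsAffineOpen O) :
    ∃ (U' : X.Opens) (hle : U ≤ U') (V' : Scheme.{u}) (v' : V' ⟶ U') (a : Y.left ⟶ V'),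
      O ≤ U' ∧ IsFinite v' ∧ Etale v' ∧ IsPullback a Y.hom v' (X.homOfLE hle) := by
  haveI : IsAffine O.toScheme := hO
  haveI : IsLocallyNoetherian O.toScheme := isLocallyNoetherian_of_isOpenImmersion O.ι
  haveI : IsNoetherian O.toScheme := ⟨⟩
  let S : Set X.Opens := {U' | ∃ (hle : U ≤ U') (V' : Scheme.{u}) (v' : V' ⟶ U') (a : Y.left ⟶ V'),
    IsFinite v' ∧ Etale v' ∧ IsPullback a Y.hom v' (X.homOfLE hle)}
  have hS : U ∈ S := ⟨le_rfl, _, Y.hom, 𝟙 _, Y.prop.1, Y.prop.2, by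
    rw [X.homOfLE_rfl]; exact IsPullback.id_horiz Y.hom⟩
  obtain ⟨_, ⟨U', ⟨hle, V', v', a, hf, he, sq⟩, rfl⟩, hmax⟩ :=
    (wellFounded_gt (α := O.toScheme.Opens)).has_min ((fun W => O.ι ⁻¹ᵁ W) '' S) ⟨_, U, hS, rfl⟩
  refine ⟨U', hle, V', v', a, fun z hz => by_contra fun hzU' => ?_, hf, he, sq⟩
  obtain ⟨x, hxz, hx, hgen⟩ := PurityExtend.exists_maximal_generization hzU'
  obtain ⟨N, V'', v'', b, hxN, hf', he', sq'⟩ := exists_extension_step hU hreg Y hunr hle v' a sq hx hgen
  have hxO : x ∈ O := hxz.mem_open O.2 hz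
  refine hmax (O.ι ⁻¹ᵁ (U' ⊔ N)) ⟨U' ⊔ N, ⟨hle.trans le_sup_left, V'', v'', a ≫ b, hf', he', ?_⟩, rfl⟩
    (lt_of_le_of_ne (O.ι.preimage_mono le_sup_left) fun e => hx ?_)
  · rw [← X.homOfLE_homOfLE hle (le_sup_left : U' ≤ U' ⊔ N)]
    exact sq.paste_horiz sq'
  · have : (⟨x, hxO⟩ : O.toScheme) ∈ O.ι ⁻¹ᵁ (U' ⊔ N) := Or.inr hxN
    rwa [← e] at this

set_option maxHeartbeats 800000 in
/-- Over any affine open the normalization of the base in the cover is finite étale. -/
theorem normalization_app_finite_etale (hU : Dense (U : Set X))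
    (hreg : ∀ x : X, x ∉ U → IsRegularLocalRing (X.presheaf.stalk x))
    (Y : FEt.Cat (U : Scheme.{u})) [IsFinite Y.hom]
    (hunr : ∀ ξ : X, ξ ∉ U → ringKrullDim (X.presheaf.stalk ξ) = 1 →
      ∃ Yξ : FEt.Cat (Spec (X.presheaf.stalk ξ)),
        Nonempty ((FEt.restrict (pullback.snd U.ι (X.fromSpecStalk ξ))).obj Yξ ≅
          (FEt.restrict (pullback.fst U.ι (X.fromSpecStalk ξ))).obj Y))
    {O : X.Opens} (hO : IsAffineOpen O) :
    ((Y.hom ≫ U.ι).fromNormalization.app O).hom.Finite ∧ ((Y.hom ≫ U.ι).fromNormalization.app O).hom.Etale := by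
  obtain ⟨U', hle, V', v', a, hOU', hf, he, sq⟩ := exists_extension_le hU hreg Y hunr hO
  let g := v' ≫ U'.ι
  haveI : Etale g := inferInstance
  haveI : IsLocallyNoetherian V' := LocallyOfFiniteType.isLocallyNoetherian g
  haveI : IsOpenImmersion a := MorphismProperty.of_isPullback sq.flip inferInstance
  have hag : Y.hom ≫ U.ι = a ≫ g := by
    show _ = a ≫ v' ≫ U'.ι
    rw [← Category.assoc, sq.w, Category.assoc, Scheme.homOfLE_ι]
  let Vop : V'.Opens := a.opensRange
  have hVop : ∀ z, z ∈ Vop ↔ g z ∈ U := fun z => by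
    constructor
    · rintro ⟨y, rfl⟩
      rw [← Scheme.Hom.comp_apply, ← hag]
      exact (Y.hom y).2
    · intro hz
      have : z ∈ Set.range (pullback.fst v' (X.homOfLE hle)) := by
        rw [Scheme.Pullback.range_fst]
        refine ⟨⟨g z, hz⟩, U'.ι.isOpenEmbedding.injective ?_⟩
        rw [← Scheme.Hom.comp_apply, Scheme.homOfLE_ι]
        rfl
      obtain ⟨y, hy⟩ := this
      exact ⟨sq.isoPullback.inv y, by rw [← Scheme.Hom.comp_apply, sq.isoPullback_inv_fst]; exact hy⟩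
  have hdom : ∀ z, z ∉ Vop → IsRegularLocalRing (V'.presheaf.stalk z) := fun z hz =>
    (Et18.isRegularLocalRing_stalk_iff_of_etale g z).2 (hreg _ fun h => hz ((hVop z).2 h))
  have hgen : ∀ η : V', (∀ z, z ⤳ η → z = η) → η ∈ Vop := fun η hη => by
    refine (hVop η).2 (mem_of_dense_of_minimal hU fun z hz => ?_)
    obtain ⟨η', hη', rfl⟩ := (Flat.generalizingMap (f := g)) hz
    rw [hη η' hη']
  have hd : ∀ z, z ∉ Vop → IsDomain (V'.presheaf.stalk z) := fun z hz => by
    haveI := hdom z hz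
    exact CAlgH3.isDomain_of_isRegularLocalRing _
  have hn : ∀ z, z ∉ Vop → IsIntegrallyClosed (V'.presheaf.stalk z) := fun z hz => by
    haveI := hdom z hz
    haveI := hd z hz
    haveI : UniqueFactorizationMonoid (V'.presheaf.stalk z) := CAlgH3.ufm_of_regular _
    infer_instance
  let O' := g ⁻¹ᵁ O
  have hO'a : IsAffineOpen O' := by
    have h : IsAffineOpen (U'.ι ⁻¹ᵁ O) := hO.preimage_of_isOpenImmersion U'.ι (by rwa [Scheme.Opens.opensRange_ι])
    exact h.preimage v'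
  have hgO : (g.app O).hom.Finite ∧ (g.app O).hom.Etale := by
    have h : IsAffineOpen (U'.ι ⁻¹ᵁ O) := hO.preimage_of_isOpenImmersion U'.ι (by rwa [Scheme.Opens.opensRange_ι])
    haveI : IsIso (U'.ι.app O) := U'.ι.isIso_app _ (by rwa [Scheme.Opens.opensRange_ι])
    have e1 : (v'.app (U'.ι ⁻¹ᵁ O)).hom.Finite := IsFinite.finite_app v' _ h
    have e2 : (v'.app (U'.ι ⁻¹ᵁ O)).hom.Etale := by
      rw [Scheme.Hom.app_eq_appLE]
      exact HasRingHomProperty.appLE (P := @Etale) v' he ⟨_, h⟩ ⟨_, h.preimage v'⟩ le_rfl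
    exact ⟨RingHom.finite_respectsIso.2 (v'.app (U'.ι ⁻¹ᵁ O)).hom (asIso (U'.ι.app O)).commRingCatIsoToRingEquiv e1,
      RingHom.Etale.respectsIso.2 (v'.app (U'.ι ⁻¹ᵁ O)).hom (asIso (U'.ι.app O)).commRingCatIsoToRingEquiv e2⟩
  haveI hiso : IsIso (a.app (O' ⊓ Vop)) := a.isIso_app _ inf_le_right
  have heq : a ⁻¹ᵁ O' ≤ a ⁻¹ᵁ (O' ⊓ Vop) := fun y hy => ⟨hy, y, rfl⟩
  let r := V'.presheaf.map (homOfLE (inf_le_left : O' ⊓ Vop ≤ O')).op
  let m := Y.left.presheaf.map (homOfLE heq).op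
  haveI : IsIso m := by
    have hm : homOfLE heq = eqToHom (le_antisymm heq (a.preimage_mono inf_le_left)) := Subsingleton.elim _ _
    show IsIso (Y.left.presheaf.map (homOfLE heq).op)
    rw [hm]; infer_instance
  have hfac : a.app O' = r ≫ a.app (O' ⊓ Vop) ≫ m := by
    rw [← Category.assoc]
    show _ = (V'.presheaf.map _ ≫ a.app (O' ⊓ Vop)) ≫ _
    rw [a.naturality, Category.assoc, ← Functor.map_comp]
    exact ((congrArg (a.app O' ≫ ·) ((congrArg Y.left.presheaf.map (Subsingleton.elim _ (𝟙 _))).trans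
      (CategoryTheory.Functor.map_id _ _))).trans (Category.comp_id _)).symm
  refine finite_etale_normalization_app _ a g hag hO hgO.1 hgO.2 ?_ fun s hs => ?_
  · rw [hfac]
    exact ((ConcreteCategory.bijective_of_isIso (a.app (O' ⊓ Vop) ≫ m)).1).comp
      (injective_res Vop hd hgen O')
  · obtain ⟨s', hs'⟩ := (ConcreteCategory.bijective_of_isIso (a.app (O' ⊓ Vop) ≫ m)).2 s
    obtain ⟨t, ht⟩ := exists_extension_of_isIntegral Vop hd hgen hn O' s' (by
      obtain ⟨p, hp, hev⟩ := hs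
      refine ⟨p.map (g.app O).hom, hp.map _, ?_⟩
      apply (ConcreteCategory.bijective_of_isIso (a.app (O' ⊓ Vop) ≫ m)).1
      rw [map_zero, Polynomial.eval₂_map, Polynomial.hom_eval₂, ← CommRingCat.hom_comp, ← CommRingCat.hom_comp, Category.assoc, hs']
      have e : g.app O ≫ r ≫ a.app (O' ⊓ Vop) ≫ m = (a ≫ g).app O := by rw [← hfac]; rfl
      exact (congrArg (fun φ => Polynomial.eval₂ (CommRingCat.Hom.hom φ) s p) e).trans hev)
    refine ⟨t, ?_⟩
    rw [hfac]
    exact (congrArg (a.app (O' ⊓ Vop) ≫ m) ht).trans hs'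

/-- The extension theorem. -/
theorem exists_extension_of_unramified_codim_one (hU : Dense (U : Set X))
    (hreg : ∀ x : X, x ∉ U → IsRegularLocalRing (X.presheaf.stalk x))
    (Y : FEt.Cat (U : Scheme.{u}))
    (hunr : ∀ ξ : X, ξ ∉ U → ringKrullDim (X.presheaf.stalk ξ) = 1 →
      ∃ Yξ : FEt.Cat (Spec (X.presheaf.stalk ξ)),
        Nonempty ((FEt.restrict (pullback.snd U.ι (X.fromSpecStalk ξ))).obj Yξ ≅
          (FEt.restrict (pullback.fst U.ι (X.fromSpecStalk ξ))).obj Y)) :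
    ∃ Y' : FEt.Cat X, Nonempty ((FEt.restrict U.ι).obj Y' ≅ Y) := by
  haveI : IsFinite Y.hom := Y.prop.1
  haveI : Etale Y.hom := Y.prop.2
  let π := (Y.hom ≫ U.ι).fromNormalization
  have key := fun (O : X.Opens) (hO : IsAffineOpen O) => normalization_app_finite_etale hU hreg Y hunr hO
  haveI : IsFinite π := { (inferInstance : IsAffineHom π) with finite_app := fun O hO => (key O hO).1 }
  haveI : Etale π := by
    have hall : ∀ W : X.affineOpens, Etale (π ∣_ W.1) := by
      intro ⟨W, hW⟩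
      haveI : IsAffine W.toScheme := hW
      haveI : IsAffine (π ⁻¹ᵁ W).toScheme := hW.preimage π
      rw [HasRingHomProperty.iff_of_isAffine (P := @AlgebraicGeometry.Etale.{u})]
      have hk : (π.app W).hom.Etale := (key W hW).2
      rw [morphismRestrict_appTop]
      rw [← Scheme.Opens.ι_image_top W] at hk
      exact RingHom.Etale.respectsIso.1 _
        (asIso ((Y.hom ≫ U.ι).normalization.presheaf.map (eqToHom (image_morphismRestrict_preimage π W ⊤)).op)).commRingCatIsoToRingEquiv hk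
    exact IsZariskiLocalAtTarget.of_iSup_eq_top (fun W : X.affineOpens => W.1) (iSup_affineOpens_eq_top X) hall
  obtain ⟨e, he⟩ := Pushforward.exists_pullback_iso (U := U) Y.hom
  exact ⟨MorphismProperty.Over.mk ⊤ π ⟨‹_›, ‹_›⟩, ⟨MorphismProperty.Over.isoMk e he⟩⟩

end Groth.Agent.FEtFF.ExtendNormal
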