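import Mathlib.RingTheory.Localization.Away.Basic
import Mathlib.RingTheory.Noetherian.Basic
import Mathlib.RingTheory.AdicCompletion.Basic
import Mathlib.RingTheory.Ideal.Operations
import Mathlib.Tactic.LinearCombination
import Mathlib.Tactic.Ring

/-!
# Čech glueing across a regular triple, and its formal completion

For `g : ι → A` containing a regular sequence `x, y, z`, compatible sections on the `D(g i)` glue,
Čech 1-cocycles are coboundaries, and compatible systems modulo powers of `f` come from the ring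
when it is `f`-adically complete.
-/

set_option autoImplicit false
set_option linter.style.haveILetI false
universe u

namespace Groth.Agent.FEtFF.Cech

variable {A : Type u} [CommRing A]

/-- Restriction between principal localizations. -/
noncomputable def res {a c : A} (h : a ∣ c) : Localization.Away a →+* Localization.Away c :=
  IsLocalization.Away.lift a (g := algebraMap A (Localization.Away c))
    (isUnit_of_dvd_unit (map_dvd _ h) (IsLocalization.Away.algebraMap_isUnit c))

@[simp] theorem res_algebraMap {a c : A} (h : a ∣ c) (r : A) :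
    res h (algebraMap A (Localization.Away a) r) = algebraMap A (Localization.Away c) r :=
  IsLocalization.Away.lift_eq a _ r

theorem res_res {a b c : A} (h : a ∣ b) (h' : b ∣ c) (s : Localization.Away a) :
    res h' (res h s) = res (h.trans h') s := by
  refine RingHom.congr_fun (f := (res h').comp (res h)) (g := res (h.trans h')) ?_ s
  exact IsLocalization.ringHom_ext (Submonoid.powers a) (RingHom.ext fun r => by simp)

theorem exists_pow_mul {a : A} (s : Localization.Away a) :
    ∃ (n : ℕ) (b : A), algebraMap A (Localization.Away a) (a ^ n) * s = algebraMap A _ b := by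
  obtain ⟨n, b, h⟩ := IsLocalization.Away.surj a s
  exact ⟨n, b, by rw [map_pow, mul_comm, h]⟩

theorem exists_pow_of_eq_zero {a b : A} (h : algebraMap A (Localization.Away a) b = 0) :
    ∃ n : ℕ, a ^ n * b = 0 := by
  obtain ⟨⟨_, n, rfl⟩, hn⟩ := (IsLocalization.map_eq_zero_iff (Submonoid.powers a) _ b).1 h
  exact ⟨n, hn⟩

theorem isUnit_pow_algebraMap {a c : A} (h : a ∣ c) (n : ℕ) :
    IsUnit (algebraMap A (Localization.Away c) (a ^ n)) := by
  rw [map_pow]
  exact (isUnit_of_dvd_unit (map_dvd _ h) (IsLocalization.Away.algebraMap_isUnit c)).pow n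

/-- `x, y, z` is a regular sequence. -/
structure RegTriple (x y z : A) : Prop where
  hx : ∀ a, a * x = 0 → a = 0
  hy : ∀ a, x ∣ a * y → x ∣ a
  hz : ∀ a, (∃ u v, a * z = x * u + y * v) → ∃ u v, a = x * u + y * v

variable {x y z : A}

theorem RegTriple.hx_pow (H : RegTriple x y z) : ∀ (k : ℕ) {a : A}, a * x ^ k = 0 → a = 0
  | 0, a, h => by simpa using h
  | k + 1, a, h => H.hx a (H.hx_pow k (by rw [← h]; ring))

theorem RegTriple.hy_pow (H : RegTriple x y z) : ∀ (k l : ℕ) {a : A}, x ^ k ∣ a * y ^ l → x ^ k ∣ a := by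
  have h1 : ∀ (k : ℕ) (a : A), x ^ k ∣ a * y → x ^ k ∣ a := by
    intro k
    induction k with
    | zero => intro a _; simp
    | succ k ih =>
      intro a ha
      obtain ⟨a', rfl⟩ := H.hy a ((dvd_pow_self x (by omega)).trans ha)
      obtain ⟨q, hq⟩ := ha
      have : (a' * y - x ^ k * q) * x = 0 := by linear_combination hq
      obtain ⟨p, hp⟩ := ih a' ⟨q, sub_eq_zero.1 (H.hx _ this)⟩
      exact ⟨p, by rw [hp, pow_succ']; ring⟩
  intro k l
  induction l with
  | zero => intro a h; simpa using h
  | succ l ih => intro a h; exact ih (h1 k _ (by rwa [pow_succ, ← mul_assoc] at h))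

theorem RegTriple.hz_pow (H : RegTriple x y z) (k l : ℕ) : ∀ (e : ℕ) {a : A},
    (∃ u v, a * z ^ e = x ^ k * u + y ^ l * v) → ∃ u v, a = x ^ k * u + y ^ l * v := by
  have h1 : ∀ (k : ℕ) (a : A), (∃ u v, a * z = x ^ k * u + y * v) → ∃ u v, a = x ^ k * u + y * v := by
    intro k
    induction k with
    | zero => intro a _; exact ⟨a, 0, by simp⟩
    | succ k ih =>
      rintro a ⟨u, v, h⟩
      obtain ⟨u', v', rfl⟩ := H.hz a ⟨x ^ k * u, v, by rw [h, pow_succ']; ring⟩
      obtain ⟨q, hq⟩ := H.hy (v - v' * z) ⟨u' * z - x ^ k * u, by linear_combination -h⟩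
      have h2 : (u' * z - x ^ k * u - y * q) * x = 0 := by linear_combination h + y * hq
      obtain ⟨p, w, hp⟩ := ih u' ⟨u, q, by linear_combination H.hx _ h2⟩
      exact ⟨p, x * w + v', by rw [hp, pow_succ']; ring⟩
  have h2 : ∀ (l : ℕ) (k : ℕ) (a : A), (∃ u v, a * z = x ^ k * u + y ^ l * v) → ∃ u v, a = x ^ k * u + y ^ l * v := by
    intro l
    induction l with
    | zero => intro k a _; exact ⟨0, a, by simp⟩
    | succ l ih =>
      rintro k a ⟨u, v, h⟩
      obtain ⟨u', v', rfl⟩ := h1 k a ⟨u, y ^ l * v, by rw [h, pow_succ']; ring⟩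
      obtain ⟨q, hq⟩ := H.hy_pow k 1 (a := v' * z - y ^ l * v) ⟨u - u' * z, by linear_combination h⟩
      obtain ⟨p, w, hp⟩ := ih k v' ⟨q, v, by linear_combination hq⟩
      exact ⟨u' + y * p, w, by rw [hp, pow_succ']; ring⟩
  intro e
  induction e with
  | zero => intro a h; simpa using h
  | succ e ih => rintro a ⟨u, v, h⟩; exact ih (h2 l k _ ⟨u, v, by rw [← h, pow_succ]; ring⟩)

section glue

variable {ι : Type} (g : ι → A) {ix iy iz : ι}

/-- A section vanishing after inverting `x` vanishes. -/
theorem eq_zero_of_res (H : RegTriple x y z) {a : A} (s : Localization.Away a) (h : res (dvd_mul_right a x) s = 0) :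
    s = 0 := by
  obtain ⟨n, b, hb⟩ := exists_pow_mul s
  refine (isUnit_pow_algebraMap dvd_rfl n).mul_right_eq_zero.1 ?_
  rw [hb]
  have h0 := congrArg (res (dvd_mul_right a x)) hb
  rw [map_mul, h, mul_zero, res_algebraMap] at h0
  obtain ⟨m, hm⟩ := exists_pow_of_eq_zero h0.symm
  have : a ^ m * b = 0 := H.hx_pow m (by rw [← hm, mul_pow]; ring)
  refine (isUnit_pow_algebraMap (dvd_refl a) m).mul_right_eq_zero.1 ?_
  rw [← map_mul, this, map_zero]

/-- Divisibility by a power of `x` can be checked after inverting `y`. -/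
theorem dvd_of_res (H : RegTriple x y z) {a : A} (k : ℕ) (s : Localization.Away a)
    (h : algebraMap A (Localization.Away (a * y)) (x ^ k) ∣ res (dvd_mul_right a y) s) :
    algebraMap A (Localization.Away a) (x ^ k) ∣ s := by
  obtain ⟨n, b, hb⟩ := exists_pow_mul s
  obtain ⟨c, hc⟩ := h
  obtain ⟨m, q, hq⟩ := exists_pow_mul c
  have h0 := congrArg (res (dvd_mul_right a y)) hb
  rw [map_mul, res_algebraMap, res_algebraMap, hc] at h0
  have h1 : algebraMap A (Localization.Away (a * y)) ((a * y) ^ m * b - a ^ n * x ^ k * q) = 0 := by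
    rw [map_sub, map_mul, map_mul, map_mul, ← hq, ← h0]; ring
  obtain ⟨p, hp⟩ := exists_pow_of_eq_zero h1
  obtain ⟨q', hq'⟩ := H.hy_pow k (p + m) (a := a ^ (p + m) * b) ⟨(a * y) ^ p * (a ^ n * q), by
    rw [pow_add, pow_add]; linear_combination hp⟩
  have hu := isUnit_pow_algebraMap (dvd_refl a) (p + m + n)
  refine hu.dvd_mul_left.1 ⟨algebraMap A _ q', ?_⟩
  rw [← map_mul, ← hq', map_mul, ← hb, pow_add, map_mul]
  ring

/-- Compatible sections glue. -/
theorem exists_glue (H : RegTriple (g ix) (g iy) z) (c : ∀ i, Localization.Away (g i))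
    (hc : ∀ i j, res (dvd_mul_right (g i) (g j)) (c i) = res (dvd_mul_left (g j) (g i)) (c j)) :
    ∃ a, ∀ i, algebraMap A (Localization.Away (g i)) a = c i := by
  obtain ⟨k, b, hb⟩ := exists_pow_mul (c ix)
  obtain ⟨l, b', hb'⟩ := exists_pow_mul (c iy)
  have h1 := congrArg (res (dvd_mul_right (g ix) (g iy))) hb
  have h2 := congrArg (res (dvd_mul_left (g iy) (g ix))) hb'
  rw [map_mul, res_algebraMap, res_algebraMap] at h1 h2
  rw [hc] at h1
  have h3 : algebraMap A (Localization.Away (g ix * g iy)) (g iy ^ l * b - g ix ^ k * b') = 0 := by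
    rw [map_sub, map_mul, map_mul, ← h1, ← h2]; ring
  obtain ⟨p, hp⟩ := exists_pow_of_eq_zero h3
  have h4 : g iy ^ p * (g iy ^ l * b - g ix ^ k * b') = 0 := H.hx_pow p (by rw [← hp, mul_pow]; ring)
  obtain ⟨a, ha⟩ := H.hy_pow k (p + l) (a := b) ⟨g iy ^ p * b', by rw [pow_add]; linear_combination h4⟩
  have hax : algebraMap A (Localization.Away (g ix)) a = c ix := by
    refine (isUnit_pow_algebraMap (dvd_refl (g ix)) k).mul_left_cancel ?_
    rw [hb, ha, map_mul]
  refine ⟨a, fun i => ?_⟩
  rw [← sub_eq_zero]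
  refine eq_zero_of_res H _ ?_
  rw [map_sub, hc i ix, ← hax, res_algebraMap, res_algebraMap, sub_self]

/-- Čech 1-cocycles are coboundaries. -/
theorem exists_coboundary [Finite ι] (H : RegTriple (g ix) (g iy) (g iz))
    (c : ∀ i j, Localization.Away (g i * g j))
    (hc : ∀ i j k, res (Dvd.intro (g k) rfl : g i * g j ∣ g i * g j * g k) (c i j) +
      res (Dvd.intro (g i) (by ring) : g j * g k ∣ g i * g j * g k) (c j k) =
      res (Dvd.intro (g j) (by ring) : g i * g k ∣ g i * g j * g k) (c i k)) :
    ∃ d : ∀ i, Localization.Away (g i), ∀ i j,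
      c i j = res (dvd_mul_right (g i) (g j)) (d i) - res (dvd_mul_left (g j) (g i)) (d j) := by
  classical
  haveI := Fintype.ofFinite ι
  -- the value at the index of `x`, with bounded denominators
  have hrep : ∀ i, ∃ k, ∀ m, k ≤ m → ∃ a : Localization.Away (g i),
      algebraMap A _ (g ix ^ m) * c i ix = res (dvd_mul_right (g i) (g ix)) a := by
    intro i
    obtain ⟨k, b, hb⟩ := exists_pow_mul (c i ix)
    refine ⟨k, fun m hm => ?_⟩
    obtain ⟨v, hv⟩ := (isUnit_pow_algebraMap (dvd_refl (g i)) k).exists_right_inv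
    refine ⟨v * algebraMap A _ (g ix ^ (m - k) * b), ?_⟩
    have hv' := congrArg (res (dvd_mul_right (g i) (g ix))) hv
    rw [map_mul, res_algebraMap, map_one] at hv'
    rw [map_mul, res_algebraMap, map_mul, ← hb, mul_pow, map_mul, ← pow_sub_mul_pow (g ix) hm, map_mul]
    calc _ = (algebraMap A _ (g i ^ k) * res (dvd_mul_right (g i) (g ix)) v) *
          (algebraMap A _ (g ix ^ (m - k)) * algebraMap A _ (g ix ^ k) * c i ix) := by rw [hv', one_mul]
      _ = _ := by ring
  choose K hK using hrep
  let k := Finset.univ.sup K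
  choose a ha using fun i => hK i k (Finset.le_sup (Finset.mem_univ i))
  have hab : ∀ i j, algebraMap A _ (g ix ^ k) * c i j =
      res (dvd_mul_right (g i) (g j)) (a i) - res (dvd_mul_left (g j) (g i)) (a j) := by
    intro i j
    rw [← sub_eq_zero]
    refine eq_zero_of_res H _ ?_
    have e1 := congrArg (res (Dvd.intro (g j) (by ring) : g i * g ix ∣ g i * g j * g ix)) (ha i)
    have e2 := congrArg (res (Dvd.intro (g i) (by ring) : g j * g ix ∣ g i * g j * g ix)) (ha j)
    rw [map_mul, res_algebraMap, res_res] at e1 e2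
    have e3 := hc i j ix
    rw [map_sub, map_sub, map_mul, res_algebraMap, res_res, res_res, ← e1, ← e2, ← e3]
    ring
  obtain ⟨l, b, hb⟩ := exists_pow_mul (a iy)
  obtain ⟨e, b', hb'⟩ := exists_pow_mul (a iz)
  obtain ⟨m, q, hq⟩ := exists_pow_mul (c iy iz)
  have h1 := congrArg (res (dvd_mul_right (g iy) (g iz))) hb
  have h2 := congrArg (res (dvd_mul_left (g iz) (g iy))) hb'
  rw [map_mul, res_algebraMap, res_algebraMap] at h1 h2
  have h3 : algebraMap A (Localization.Away (g iy * g iz))
      ((g iy * g iz) ^ m * (g iz ^ e * b - g iy ^ l * b') - g iy ^ l * g iz ^ e * g ix ^ k * q) = 0 := by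
    simp only [map_sub, map_mul]
    rw [← h1, ← h2, ← hq]
    linear_combination -(algebraMap A _ ((g iy * g iz) ^ m) * algebraMap A _ (g iy ^ l) * algebraMap A _ (g iz ^ e)) * hab iy iz
  obtain ⟨p, hp⟩ := exists_pow_of_eq_zero h3
  obtain ⟨s, hs⟩ := H.hy_pow k (p + m) (a := g iz ^ (p + m) * (g iz ^ e * b - g iy ^ l * b'))
    ⟨(g iy * g iz) ^ p * (g iy ^ l * g iz ^ e * q), by rw [pow_add, pow_add]; linear_combination hp⟩
  obtain ⟨u, a₀, hu⟩ := H.hz_pow k l (p + m + e) (a := b) ⟨s, g iz ^ (p + m) * b', by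
    rw [pow_add]; linear_combination hs⟩
  have hdy : algebraMap A (Localization.Away (g iy)) (g ix ^ k) ∣ a iy - algebraMap A _ a₀ := by
    refine (isUnit_pow_algebraMap (dvd_refl (g iy)) l).dvd_mul_left.1 ⟨algebraMap A _ u, ?_⟩
    rw [mul_sub, hb, hu, map_add, map_mul, map_mul]; ring
  have hd : ∀ i, algebraMap A (Localization.Away (g i)) (g ix ^ k) ∣ a i - algebraMap A _ a₀ := fun i => by
    refine dvd_of_res H k _ ?_
    obtain ⟨w, hw⟩ := hdy
    refine ⟨c i iy + res (dvd_mul_left (g iy) (g i)) w, ?_⟩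
    have := congrArg (res (dvd_mul_left (g iy) (g i))) hw
    rw [map_sub, map_mul, res_algebraMap, res_algebraMap] at this
    rw [map_sub, res_algebraMap, mul_add, hab i iy, ← this]
    ring
  choose d hd using hd
  refine ⟨d, fun i j => ?_⟩
  have e1 := congrArg (res (dvd_mul_right (g i) (g j))) (hd i)
  have e2 := congrArg (res (dvd_mul_left (g j) (g i))) (hd j)
  rw [map_sub, map_mul, res_algebraMap, res_algebraMap] at e1 e2
  have hz : algebraMap A (Localization.Away (g i * g j)) (g ix ^ k) *
      (c i j - (res (dvd_mul_right (g i) (g j)) (d i) - res (dvd_mul_left (g j) (g i)) (d j))) = 0 := by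
    rw [mul_sub, mul_sub, ← e1, ← e2, hab i j]; ring
  rw [← sub_eq_zero]
  refine eq_zero_of_res H _ ((isUnit_pow_algebraMap (dvd_mul_left (g ix) (g i * g j)) k).mul_right_eq_zero.1 ?_)
  have := congrArg (res (dvd_mul_right (g i * g j) (g ix))) hz
  rwa [map_mul, res_algebraMap, map_zero] at this

end glue

section formal

variable {ι : Type} [Finite ι] (g : ι → A) {ix iy iz : ι} [IsNoetherianRing A] (f : A)

theorem exists_stable : ∃ N : ℕ, ∀ (n : ℕ) (c : A) (s : Localization.Away c),
    algebraMap A _ (f ^ (n + N)) * s = 0 → algebraMap A _ (f ^ N) * s = 0 := by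
  let K : ℕ →o Submodule A A :=
    ⟨fun n => LinearMap.ker (LinearMap.lsmul A A (f ^ n)), fun m n h a ha => by
      simp only [LinearMap.mem_ker, LinearMap.lsmul_apply, smul_eq_mul] at ha ⊢
      rw [← pow_sub_mul_pow f h, mul_assoc, ha, mul_zero]⟩
  obtain ⟨N, hN⟩ := monotone_stabilizes_iff_noetherian.2 (inferInstance : IsNoetherian A A) K
  refine ⟨N, fun n c s hs => ?_⟩
  obtain ⟨m, b, hb⟩ := exists_pow_mul s
  have : algebraMap A (Localization.Away c) (f ^ (n + N) * b) = 0 := by
    rw [map_mul, ← hb, mul_left_comm, hs, mul_zero]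
  obtain ⟨p, hp⟩ := exists_pow_of_eq_zero this
  have hmem : c ^ p * b ∈ K (n + N) := by
    show f ^ (n + N) * (c ^ p * b) = 0
    linear_combination hp
  rw [← hN (n + N) (by omega)] at hmem
  have h2 : f ^ N * (c ^ p * b) = 0 := hmem
  refine (isUnit_pow_algebraMap (dvd_refl c) (p + m)).mul_right_eq_zero.1 ?_
  calc _ = algebraMap A _ (f ^ N) * (algebraMap A _ (c ^ p) * (algebraMap A _ (c ^ m) * s)) := by
        rw [pow_add, map_mul]; ring
    _ = 0 := by rw [hb, ← map_mul, ← map_mul, h2, map_zero]

variable (H : RegTriple (g ix) (g iy) (g iz))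
include H

omit [IsNoetherianRing A] in
theorem dvd_of_locally {N : ℕ}
    (hN : ∀ (n : ℕ) (c : A) (s : Localization.Away c), algebraMap A _ (f ^ (n + N)) * s = 0 → algebraMap A _ (f ^ N) * s = 0)
    (n : ℕ) (a : A) (ha : ∀ i, algebraMap A (Localization.Away (g i)) (f ^ (n + N)) ∣ algebraMap A _ a) :
    f ^ n ∣ a := by
  choose c hc using ha
  obtain ⟨d, hd⟩ := exists_glue g H (fun i => algebraMap A _ (f ^ N) * c i) fun i j => by
    rw [← sub_eq_zero, map_mul, map_mul, res_algebraMap, res_algebraMap, ← mul_sub]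
    refine hN n _ _ ?_
    have e1 := congrArg (res (dvd_mul_right (g i) (g j))) (hc i)
    have e2 := congrArg (res (dvd_mul_left (g j) (g i))) (hc j)
    rw [map_mul, res_algebraMap, res_algebraMap] at e1 e2
    rw [mul_sub, ← e1, ← e2, sub_self]
  refine ⟨d, ?_⟩
  obtain ⟨a', ha'⟩ := exists_glue g H (fun i => algebraMap A (Localization.Away (g i)) (a - f ^ n * d))
    fun i j => by rw [res_algebraMap, res_algebraMap]
  have h0 : ∀ i, algebraMap A (Localization.Away (g i)) (a - f ^ n * d) = 0 := fun i => by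
    rw [map_sub, map_mul, hd, hc, pow_add, map_mul]; ring
  obtain ⟨p, hp⟩ := exists_pow_of_eq_zero (h0 ix)
  exact sub_eq_zero.1 (H.hx_pow p (by rw [← hp]; ring))

/-- An element locally divisible by all powers of `f` vanishes. -/
theorem eq_zero_of_locally [IsHausdorff (Ideal.span {f}) A] (a : A)
    (ha : ∀ (n : ℕ) i, algebraMap A (Localization.Away (g i)) (f ^ n) ∣ algebraMap A _ a) : a = 0 := by
  obtain ⟨N, hN⟩ := exists_stable f
  refine IsHausdorff.haus (I := Ideal.span {f}) inferInstance a fun n => ?_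
  rw [SModEq.zero, smul_eq_mul, Ideal.mul_top, Ideal.span_singleton_pow, Ideal.mem_span_singleton]
  exact dvd_of_locally g f H hN n a fun i => ha _ i

/-- Compatible systems modulo powers of `f` on the `D(g i)` come from `A`. -/
theorem exists_of_locally [IsAdicComplete (Ideal.span {f}) A] (t : ℕ → ∀ i, Localization.Away (g i))
    (h1 : ∀ n i, algebraMap A (Localization.Away (g i)) (f ^ n) ∣ t (n + 1) i - t n i)
    (h2 : ∀ n i j, algebraMap A (Localization.Away (g i * g j)) (f ^ n) ∣
      res (dvd_mul_right (g i) (g j)) (t n i) - res (dvd_mul_left (g j) (g i)) (t n j)) :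
    ∃ a : A, ∀ n i, algebraMap A (Localization.Away (g i)) (f ^ n) ∣ algebraMap A _ a - t n i := by
  obtain ⟨N, hN⟩ := exists_stable f
  have h1' : ∀ n m i, algebraMap A (Localization.Away (g i)) (f ^ n) ∣ t (n + m) i - t n i := by
    intro n m i
    induction m with
    | zero => simp
    | succ m ih =>
      have h := (map_dvd (algebraMap A (Localization.Away (g i))) (pow_dvd_pow f (Nat.le_add_right n m))).trans (h1 (n + m) i)
      have := dvd_add h ih
      rwa [sub_add_sub_cancel] at this
  have happ : ∀ n, ∃ a : A, ∀ i, algebraMap A (Localization.Away (g i)) (f ^ n) ∣ algebraMap A _ a - t n i := by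
    intro n
    choose c hc using fun i j => h2 (n + N) i j
    obtain ⟨d, hd⟩ := exists_coboundary g H (fun i j => algebraMap A _ (f ^ N) * c i j) fun i j k => by
      rw [← sub_eq_zero, map_mul, map_mul, map_mul, res_algebraMap, res_algebraMap, res_algebraMap, ← mul_add, ← mul_sub]
      refine hN n _ _ ?_
      have e1 := congrArg (res (Dvd.intro (g k) rfl : g i * g j ∣ g i * g j * g k)) (hc i j)
      have e2 := congrArg (res (Dvd.intro (g i) (by ring) : g j * g k ∣ g i * g j * g k)) (hc j k)
      have e3 := congrArg (res (Dvd.intro (g j) (by ring) : g i * g k ∣ g i * g j * g k)) (hc i k)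
      simp only [map_sub, map_mul, res_algebraMap, res_res] at e1 e2 e3
      rw [mul_sub, mul_add, ← e1, ← e2, ← e3]
      ring
    obtain ⟨a, ha⟩ := exists_glue g H (fun i => t (n + N) i - algebraMap A _ (f ^ n) * d i) fun i j => by
      rw [← sub_eq_zero, map_sub, map_sub, map_mul, map_mul, res_algebraMap, res_algebraMap]
      have := hc i j
      calc _ = (res (dvd_mul_right (g i) (g j)) (t (n + N) i) - res (dvd_mul_left (g j) (g i)) (t (n + N) j)) -
            algebraMap A _ (f ^ n) *
              (res (dvd_mul_right (g i) (g j)) (d i) - res (dvd_mul_left (g j) (g i)) (d j)) := by ring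
        _ = 0 := by rw [← hd, this, pow_add, map_mul]; ring
    refine ⟨a, fun i => ?_⟩
    rw [ha]
    have : t (n + N) i - algebraMap A _ (f ^ n) * d i - t n i =
        (t (n + N) i - t n i) - algebraMap A _ (f ^ n) * d i := by ring
    rw [this]
    exact dvd_sub (h1' n N i) (dvd_mul_right _ _)
  choose a ha using happ
  have hcauchy : ∀ n, f ^ n ∣ a (n + 1 + N) - a (n + N) := fun n =>
    dvd_of_locally g f H hN n _ fun i => by
      have e1 := (map_dvd (algebraMap A (Localization.Away (g i))) (pow_dvd_pow f (Nat.le_succ (n + N)))).trans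
        (show algebraMap A (Localization.Away (g i)) (f ^ (n + N + 1)) ∣ algebraMap A _ (a (n + 1 + N)) - t (n + 1 + N) i by
          rw [Nat.add_right_comm n N 1]; exact ha _ i)
      have e2 : algebraMap A (Localization.Away (g i)) (f ^ (n + N)) ∣ t (n + 1 + N) i - t (n + N) i := by
        rw [Nat.add_right_comm n 1 N]; exact h1 _ i
      have := dvd_sub (dvd_add e1 e2) (ha (n + N) i)
      rw [map_sub]
      convert this using 1
      ring
  have hmono : ∀ {p q : ℕ}, p ≤ q → f ^ p ∣ a (q + N) - a (p + N) := by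
    intro p q hpq
    induction q, hpq using Nat.le_induction with
    | base => simp
    | succ q hpq ih =>
      have := dvd_add ((pow_dvd_pow f hpq).trans (hcauchy q)) ih
      rwa [sub_add_sub_cancel] at this
  obtain ⟨L, hL⟩ := IsPrecomplete.prec (I := Ideal.span {f}) inferInstance (f := fun n => a (n + N)) fun {p q} hpq => by
    rw [SModEq.sub_mem, smul_eq_mul, Ideal.mul_top, Ideal.span_singleton_pow, Ideal.mem_span_singleton,
      ← neg_sub]
    exact dvd_neg.2 (hmono hpq)
  refine ⟨L, fun n i => ?_⟩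
  have e1 := hL n
  rw [SModEq.sub_mem, smul_eq_mul, Ideal.mul_top, Ideal.span_singleton_pow, Ideal.mem_span_singleton] at e1
  have e2 := (map_dvd (algebraMap A (Localization.Away (g i))) (pow_dvd_pow f (Nat.le_add_right n N))).trans (ha (n + N) i)
  have := dvd_add (dvd_sub e2 (map_dvd (algebraMap A (Localization.Away (g i))) e1)) (h1' n N i)
  rw [map_sub] at this
  convert this using 1
  ring

end formal

end Groth.Agent.FEtFF.Cech
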