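import Groth.Agent.Formal2Lib.SatBasic
import Groth.Agent.LocCoh.Injectives
import Mathlib.RingTheory.Filtration
import Mathlib.Algebra.Module.LocalizedModule.Exact

/-!
# Finiteness of the low degree Čech cohomology of a covering of a punctured spectrum

The degree zero and one cohomology of the covering by `D(g i)` of `Spec A \ V(g)` is controlled by the
local cohomology of degree one and two.
-/

set_option autoImplicit false
set_option linter.style.haveILetI false
set_option backward.isDefEq.respectTransparency.types false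
set_option backward.isDefEq.respectTransparency false

universe u

namespace Groth.Agent.FEtFF.CechFinite

open Formal2Lib.Sat

variable {A : Type u} [CommRing A]

section basic

variable {M : Type u} [AddCommGroup M] [Module A M]
  {L : A → Type u} [∀ c, AddCommGroup (L c)] [∀ c, Module A (L c)]
  (f : ∀ c, M →ₗ[A] L c) [∀ c, IsLocalizedModule (Submonoid.powers c) (f c)]

include f in
theorem isUnit_of_dvd {a c : A} (h : a ∣ c) (s : Submonoid.powers a) :
    IsUnit (algebraMap A (Module.End A (L c)) s) := by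
  obtain ⟨_, n, rfl⟩ := s
  obtain ⟨b, rfl⟩ := h
  have hu := IsLocalizedModule.map_units (f (a * b)) (⟨(a * b) ^ n, n, rfl⟩ : Submonoid.powers (a * b))
  simp only [mul_pow, map_mul] at hu
  exact ((Algebra.commute_algebraMap_left _ _).isUnit_mul_iff.1 hu).1

/-- Restriction between localizations. -/
noncomputable def res {a c : A} (h : a ∣ c) : L a →ₗ[A] L c :=
  IsLocalizedModule.lift (Submonoid.powers a) (f a) (f c) (isUnit_of_dvd f h)

@[simp] theorem res_f {a c : A} (h : a ∣ c) (m : M) : res f h (f a m) = f c m :=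
  IsLocalizedModule.lift_apply _ _ _ _ _

theorem res_unique {a c : A} (h : a ∣ c) (r : L a →ₗ[A] L c) (hr : ∀ m, r (f a m) = f c m) : r = res f h :=
  IsLocalizedModule.ext (Submonoid.powers a) (f a) (isUnit_of_dvd f h)
    (LinearMap.ext fun m => (hr m).trans (res_f f h m).symm)

theorem res_res {a b c : A} (h : a ∣ b) (h' : b ∣ c) (x : L a) :
    res f h' (res f h x) = res f (h.trans h') x :=
  LinearMap.congr_fun (res_unique f (h.trans h') ((res f h').comp (res f h)) fun m => by simp) x

theorem res_self {a : A} (h : a ∣ a) (x : L a) : res f h x = x :=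
  (LinearMap.congr_fun (res_unique f h LinearMap.id fun _ => rfl) x).symm

include f in
theorem pow_inj {a c : A} (h : a ∣ c) (n : ℕ) {x y : L c} (e : a ^ n • x = a ^ n • y) : x = y :=
  ((Module.End.isUnit_iff _).1 (isUnit_of_dvd f h ⟨a ^ n, n, rfl⟩)).1 e

theorem exists_num (c : A) (x : L c) : ∃ (n : ℕ) (m : M), c ^ n • x = f c m := by
  obtain ⟨⟨m, _, n, rfl⟩, h⟩ := IsLocalizedModule.surj (Submonoid.powers c) (f c) x
  exact ⟨n, m, h⟩

theorem eq_zero_iff (c : A) (m : M) : f c m = 0 ↔ ∃ n : ℕ, c ^ n • m = 0 := by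
  rw [IsLocalizedModule.eq_zero_iff (Submonoid.powers c) (f c)]
  exact ⟨fun ⟨⟨_, n, rfl⟩, h⟩ => ⟨n, h⟩, fun ⟨n, h⟩ => ⟨⟨_, n, rfl⟩, h⟩⟩

theorem res_injective {a c : A} (h : a ∣ c) {k : ℕ} (hk : c ∣ a ^ k) : Function.Injective (res f h) := by
  refine (injective_iff_map_eq_zero _).2 fun x hx => ?_
  obtain ⟨n, m, hm⟩ := exists_num f a x
  have h0 : f c m = 0 := by rw [← res_f f h, ← hm, map_smul, hx, smul_zero]
  obtain ⟨l, hl⟩ := (eq_zero_iff f c m).1 h0
  obtain ⟨d, hd⟩ := hk
  have h1 : f a m = 0 := (eq_zero_iff f a m).2 ⟨k * l, by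
    rw [pow_mul, hd, mul_pow, mul_comm, mul_smul, hl, smul_zero]⟩
  exact pow_inj f (dvd_refl a) n (by rw [hm, h1, smul_zero])

variable {ι : Type} (g : ι → A)

/-- The first differential. -/
noncomputable def dd : (∀ i, L (g i)) →ₗ[A] (∀ i j, L (g i * g j)) where
  toFun d i j := res f (dvd_mul_right (g i) (g j)) (d i) - res f (dvd_mul_left (g j) (g i)) (d j)
  map_add' d d' := by
    funext i j
    simp only [Pi.add_apply, map_add]
    abel
  map_smul' r d := by
    funext i j
    simp only [Pi.smul_apply, map_smul, RingHom.id_apply, smul_sub]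

theorem dd_apply (d : ∀ i, L (g i)) (i j : ι) : dd f g d i j =
    res f (dvd_mul_right (g i) (g j)) (d i) - res f (dvd_mul_left (g j) (g i)) (d j) := rfl

/-- Cocycles. -/
def IsCocycle (c : ∀ i j, L (g i * g j)) : Prop :=
  ∀ i j k, res f (Dvd.intro (g k) rfl : g i * g j ∣ g i * g j * g k) (c i j) +
    res f (Dvd.intro (g i) (by ring) : g j * g k ∣ g i * g j * g k) (c j k) =
    res f (Dvd.intro (g j) (by ring) : g i * g k ∣ g i * g j * g k) (c i k)

theorem isCocycle_dd (d : ∀ i, L (g i)) : IsCocycle f g (dd f g d) := fun i j k => by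
  simp only [dd_apply, map_sub, res_res]
  abel

/-- The submodule of cocycles. -/
noncomputable def cocycles : Submodule A (∀ i j, L (g i * g j)) where
  carrier := {c | IsCocycle f g c}
  add_mem' {a b} ha hb := fun i j k => by
    simp only [Pi.add_apply, map_add]
    rw [← ha i j k, ← hb i j k]
    abel
  zero_mem' := fun i j k => by simp
  smul_mem' r a ha := fun i j k => by
    simp only [Pi.smul_apply, map_smul]
    rw [← ha i j k, smul_add]

/-- Coboundaries. -/
noncomputable def aug : M →ₗ[A] (∀ i, L (g i)) := LinearMap.pi fun i => f (g i)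

theorem dd_aug (m : M) : dd f g (aug f g m) = 0 := by
  funext i j
  simp [dd_apply, aug]

variable [IsNoetherianRing A]

omit [IsNoetherianRing A] in
theorem torsMem_of_forall {P : Type u} [AddCommGroup P] [Module A P] (S : Submodule A P) (y : P) {I : Ideal A}
    (hI : I ≤ Ideal.span (Set.range g)) (h : ∀ i, ∃ n : ℕ, g i ^ n • y ∈ S) : TorsMem I S y := by
  intro a ha
  let C : Ideal A := S.comap (LinearMap.toSpanSingleton A P y)
  have : Ideal.span (Set.range g) ≤ C.radical := Ideal.span_le.2 (by
    rintro _ ⟨i, rfl⟩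
    obtain ⟨n, hn⟩ := h i
    exact ⟨n, hn⟩)
  exact this (hI ha)

omit [IsNoetherianRing A] in
theorem exists_pow_mem_range [Finite ι] (x : ∀ i, L (g i)) (hx : dd f g x = 0) (i : ι) :
    ∃ (n : ℕ) (m : M), g i ^ n • x = aug f g m := by
  obtain ⟨n, m, hm⟩ := exists_num f (g i) (x i)
  have hk : ∀ j, ∃ k : ℕ, g i ^ k • (g i ^ n • x j - f (g j) m) = 0 := fun j => by
    obtain ⟨a, b, hb⟩ := exists_num f (g j) (g i ^ n • x j - f (g j) m)
    have h1 : f (g i * g j) b = 0 := by
      have e := congrFun (congrFun hx i) j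
      rw [dd_apply, Pi.zero_apply, Pi.zero_apply, sub_eq_zero] at e
      rw [← res_f f (dvd_mul_left (g j) (g i)) b, ← hb, map_smul, map_sub, map_smul, ← e, ← map_smul, hm, res_f,
        res_f, sub_self, smul_zero]
    obtain ⟨k, hk⟩ := (eq_zero_iff f _ b).1 h1
    refine ⟨k, pow_inj f (dvd_refl (g j)) (a + k) ?_⟩
    rw [smul_zero, pow_add, mul_smul, smul_comm (g j ^ k) (g i ^ k), smul_comm (g j ^ a) (g i ^ k),
      smul_comm (g j ^ a) (g j ^ k), hb, ← map_smul, ← map_smul, smul_smul, ← mul_pow, hk, map_zero]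
  choose k hk using hk
  cases nonempty_fintype ι
  refine ⟨Finset.univ.sum k + n, g i ^ Finset.univ.sum k • m, funext fun j => ?_⟩
  have hle : k j ≤ Finset.univ.sum k := Finset.single_le_sum (fun _ _ => Nat.zero_le _) (Finset.mem_univ j)
  rw [Pi.smul_apply, aug, LinearMap.pi_apply, map_smul, pow_add, mul_smul, ← sub_eq_zero, ← smul_sub,
    ← Nat.sub_add_cancel hle, pow_add, mul_smul, hk, smul_zero]

/-- Sections over the punctured spectrum are finite modulo global ones. -/
theorem finite_ker_quotient [Finite ι] {I : Ideal A} (hgI : Ideal.span (Set.range g) = I)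
    (hH : Module.Finite A (_root_.LocCoh.H I 1 M)) :
    Module.Finite A (↥(LinearMap.ker (dd f g)) ⧸
      (LinearMap.range (aug f g)).comap (LinearMap.ker (dd f g)).subtype) := by
  let K := LinearMap.ker (dd f g)
  let i : M →ₗ[A] K := (aug f g).codRestrict K fun m => dd_aug f g m
  have hcok : ∀ y : K, TorsMem I (LinearMap.range i) y := fun y =>
    torsMem_of_forall g _ _ hgI.ge fun j => by
      obtain ⟨n, m, hm⟩ := exists_pow_mem_range f g y.1 y.2 j
      exact ⟨n, m, Subtype.ext hm.symm⟩
  have hker : ∀ x, i x = 0 → TorsMem I (⊥ : Submodule A M) x := fun x hx =>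
    torsMem_of_forall g _ _ hgI.ge fun j => by
      obtain ⟨n, hn⟩ := (eq_zero_iff f (g j) x).1 (congrFun (congrArg Subtype.val hx) j)
      exact ⟨n, (Submodule.mem_bot A).2 hn⟩
  obtain ⟨Φ, hΦ⟩ := (isSat_DT (𝔞 := I) (M := M)).exists_extend i hker hcok (_root_.LocCoh.toDT I M)
  have hinj : ∀ y, Φ y = 0 → y = 0 := fun y hy => Subtype.ext (funext fun j => by
    obtain ⟨n, m, hm⟩ := exists_pow_mem_range f g y.1 y.2 j
    have h0 : _root_.LocCoh.toDT I M m = 0 := by
      rw [← hΦ m, show i m = g j ^ n • y from Subtype.ext hm.symm, map_smul, hy, smul_zero]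
    obtain ⟨t, ht⟩ := (LocCoh.toDT_eq_zero_iff m).1 h0
    have hz : f (g j) m = 0 := (eq_zero_iff f (g j) m).2
      ⟨t, ht _ (Ideal.pow_mem_pow (hgI.le (Ideal.subset_span ⟨j, rfl⟩)) t)⟩
    have e := congrFun hm j
    rw [aug, LinearMap.pi_apply, hz] at e
    exact pow_inj f (dvd_refl _) n (by rw [← Pi.smul_apply, e, Submodule.coe_zero, Pi.zero_apply, smul_zero]))
  let R := LinearMap.range (_root_.LocCoh.toDT I M)
  let Ψ := R.mkQ.comp Φ
  have hΨ : LinearMap.ker Ψ = (LinearMap.range (aug f g)).comap K.subtype := by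
    ext y
    rw [LinearMap.mem_ker, LinearMap.comp_apply, Submodule.mkQ_apply, Submodule.Quotient.mk_eq_zero,
      Submodule.mem_comap]
    constructor
    · rintro ⟨m, hm⟩
      exact ⟨m, congrArg Subtype.val (sub_eq_zero.1 (hinj (i m - y) (by rw [map_sub, hΦ, hm, sub_self])))⟩
    · rintro ⟨m, hm⟩
      exact ⟨m, by rw [← hΦ, show i m = y from Subtype.ext hm]⟩
  haveI : Module.Finite A (_root_.LocCoh.DT I M ⧸ R) := by
    obtain ⟨e⟩ := LocCoh.nonempty_coker_toDT_equiv I M
    exact Module.Finite.equiv e.symm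
  exact Module.Finite.equiv (((Submodule.quotEquivOfEq _ _ hΨ.symm).trans Ψ.quotKerEquivRange).symm)

/-- Sections over the punctured spectrum of a finite module. -/
theorem finite_ker [Finite ι] [Module.Finite A M] {I : Ideal A} (hgI : Ideal.span (Set.range g) = I)
    (hH : Module.Finite A (_root_.LocCoh.H I 1 M)) : Module.Finite A ↥(LinearMap.ker (dd f g)) := by
  haveI := finite_ker_quotient f g hgI hH
  haveI : Module.Finite A ↥((LinearMap.range (aug f g)).comap (LinearMap.ker (dd f g)).subtype) := by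
    let i : M →ₗ[A] LinearMap.ker (dd f g) := (aug f g).codRestrict _ fun m => dd_aug f g m
    have : (LinearMap.range (aug f g)).comap (LinearMap.ker (dd f g)).subtype = LinearMap.range i := by
      ext y
      exact ⟨fun ⟨m, hm⟩ => ⟨m, Subtype.ext hm⟩, fun ⟨m, hm⟩ => ⟨m, congrArg Subtype.val hm⟩⟩
    rw [this]
    infer_instance
  exact Module.Finite.of_submodule_quotient ((LinearMap.range (aug f g)).comap (LinearMap.ker (dd f g)).subtype)

end basic

section injective

variable {E : Type u} [AddCommGroup E] [Module A E]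
  {L : A → Type u} [∀ c, AddCommGroup (L c)] [∀ c, Module A (L c)]
  (f : ∀ c, E →ₗ[A] L c) [∀ c, IsLocalizedModule (Submonoid.powers c) (f c)]
  [IsNoetherianRing A] [Module.Injective A E]

/-- A compatible family of sections of an injective module comes from a global element. -/
theorem exists_global {κ : Type} [Finite κ] (h : κ → A) (d : ∀ i, L (h i)) (hd : dd f h d = 0) :
    ∃ e : E, ∀ i, f (h i) e = d i := by
  classical
  cases nonempty_fintype κ
  choose n x hx using fun i => exists_num f (h i) (d i)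
  let n' := Finset.univ.sum n
  have hle : ∀ i, n i ≤ n' := fun i => Finset.single_le_sum (fun _ _ => Nat.zero_le _) (Finset.mem_univ i)
  obtain ⟨y, hy⟩ : ∃ y : κ → E, ∀ i, h i ^ n' • d i = f (h i) (y i) :=
    ⟨fun i => h i ^ (n' - n i) • x i, fun i => by
      rw [map_smul, ← hx, smul_smul, ← pow_add, Nat.sub_add_cancel (hle i)]⟩
  have hcompat : ∀ p : κ × κ, ∃ k : ℕ, (h p.1 * h p.2) ^ k • (h p.2 ^ n' • y p.1 - h p.1 ^ n' • y p.2) = 0 := fun p => by
    refine (eq_zero_iff f _ _).1 ?_
    have e := congrFun (congrFun hd p.1) p.2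
    rw [dd_apply, Pi.zero_apply, Pi.zero_apply, sub_eq_zero] at e
    rw [map_sub, map_smul, map_smul, ← res_f f (dvd_mul_right (h p.1) (h p.2)) (y p.1),
      ← res_f f (dvd_mul_left (h p.2) (h p.1)) (y p.2), ← hy, ← hy, map_smul, map_smul, e, smul_comm, sub_self]
  choose k hk using hcompat
  let k' := Finset.univ.sum k
  let N := n' + k'
  let X : κ → E := fun i => h i ^ k' • y i
  have hX : ∀ i, f (h i) (X i) = h i ^ N • d i := fun i => by
    rw [map_smul, ← hy, smul_smul, ← pow_add, add_comm]
  have hXX : ∀ i j, h j ^ N • X i = h i ^ N • X j := fun i j => by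
    have hle' : k (i, j) ≤ k' := Finset.single_le_sum (fun _ _ => Nat.zero_le _) (Finset.mem_univ (i, j))
    have h1 : (h i * h j) ^ k' • (h j ^ n' • y i - h i ^ n' • y j) = 0 := by
      rw [← Nat.sub_add_cancel hle', pow_add, mul_smul, hk (i, j), smul_zero]
    rw [smul_sub, sub_eq_zero, smul_smul, smul_smul] at h1
    show h j ^ (n' + k') • h i ^ k' • y i = h i ^ (n' + k') • h j ^ k' • y j
    rw [smul_smul, smul_smul]
    rw [show h j ^ (n' + k') * h i ^ k' = (h i * h j) ^ k' * h j ^ n' by ring,
      show h i ^ (n' + k') * h j ^ k' = (h i * h j) ^ k' * h i ^ n' by ring, h1]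
  let μ : (κ → A) →ₗ[A] A := Fintype.linearCombination A fun i => h i ^ N
  let φ : (κ → A) →ₗ[A] E := Fintype.linearCombination A X
  let J : Ideal A := Ideal.span (Set.range fun i => h i ^ N)
  have hann : ∀ r ∈ J, ∀ a ∈ LinearMap.ker μ, r • φ a = 0 := by
    intro r hr a ha
    let C : Ideal A := LinearMap.ker (LinearMap.toSpanSingleton A E (φ a))
    refine (Ideal.span_le.2 ?_ : J ≤ C) hr
    rintro _ ⟨j, rfl⟩
    show h j ^ N • φ a = 0
    rw [Fintype.linearCombination_apply, Finset.smul_sum,
      Finset.sum_congr rfl fun x _ => (show h j ^ N • a x • X x = (a x * h x ^ N) • X j by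
        rw [smul_comm, hXX, smul_smul])]
    rw [← Finset.sum_smul]
    rw [LinearMap.mem_ker, Fintype.linearCombination_apply] at ha
    simp only [smul_eq_mul] at ha
    rw [ha, zero_smul]
  obtain ⟨k₀, hk₀⟩ := Ideal.exists_pow_inf_eq_pow_smul J (LinearMap.ker μ)
  let S : Submodule A (κ → A) := J ^ (k₀ + 1) • ⊤
  have hker : LinearMap.ker (μ.comp S.subtype) ≤ LinearMap.ker (φ.comp S.subtype) := by
    rintro ⟨a, ha⟩ hμ
    have h1 : a ∈ J • LinearMap.ker μ := by
      have h2 : a ∈ J ^ (k₀ + 1) • ⊤ ⊓ LinearMap.ker μ := ⟨ha, hμ⟩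
      rw [hk₀ (k₀ + 1) (Nat.le_succ _), Nat.add_sub_cancel_left, pow_one] at h2
      exact Submodule.smul_mono le_rfl inf_le_right h2
    show φ a = 0
    refine Submodule.smul_induction_on (p := fun a => φ a = 0) h1 (fun r hr b hb => ?_) fun b c hb hc => ?_
    · rw [map_smul]; exact hann r hr b hb
    · rw [map_add, hb, hc, add_zero]
  let Q := LinearMap.ker (μ.comp S.subtype)
  obtain ⟨ψ, hψ⟩ := Module.Injective.out (Q.liftQ (μ.comp S.subtype) le_rfl)
    (LinearMap.ker_eq_bot.1 (Submodule.ker_liftQ_eq_bot _ _ _ le_rfl)) (Q.liftQ (φ.comp S.subtype) hker)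
  refine ⟨ψ 1, fun i => ?_⟩
  have hs : (Pi.single i ((h i ^ N) ^ (k₀ + 1)) : κ → A) ∈ S := by
    have : Pi.single i ((h i ^ N) ^ (k₀ + 1)) = (h i ^ N) ^ (k₀ + 1) • (Pi.single i (1 : A) : κ → A) := by
      rw [← Pi.single_smul, smul_eq_mul, mul_one]
    rw [this]
    exact Submodule.smul_mem_smul (Ideal.pow_mem_pow (Ideal.subset_span (Set.mem_range_self i)) _) Submodule.mem_top
  have h1 := hψ (Submodule.Quotient.mk ⟨_, hs⟩)
  rw [Submodule.liftQ_apply, Submodule.liftQ_apply, LinearMap.comp_apply, LinearMap.comp_apply,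
    Submodule.subtype_apply, Fintype.linearCombination_apply_single, Fintype.linearCombination_apply_single,
    smul_eq_mul] at h1
  replace h1 : ((h i ^ N) ^ (k₀ + 1) * h i ^ N) • ψ 1 = (h i ^ N) ^ (k₀ + 1) • X i := by
    refine Eq.trans ?_ h1
    rw [← map_smul, smul_eq_mul, mul_one]
  refine pow_inj f (dvd_refl (h i)) (N * (k₀ + 1) + N) ?_
  rw [pow_add, pow_mul, mul_smul _ _ (d i), ← hX, ← map_smul (f (h i)), ← map_smul (f (h i)), h1]

theorem f_surjective (c : A) : Function.Surjective (f c) := fun x => by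
  obtain ⟨e, he⟩ := exists_global f (κ := Unit) (fun _ => c) (fun _ => x) (by
    funext i j
    rw [dd_apply, Pi.zero_apply, Pi.zero_apply, sub_eq_zero])
  exact ⟨e, he ()⟩

/-- The first Čech cohomology of an injective module vanishes. -/
theorem exists_primitive {ι : Type} [Finite ι] (g : ι → A) (c : ∀ i j, L (g i * g j)) (hc : IsCocycle f g c) :
    ∃ e : ∀ i, L (g i), dd f g e = c := by
  classical
  cases nonempty_fintype ι
  have hdiag : ∀ l, c l l = 0 := fun l => by
    have h := hc l l l
    rw [add_eq_left] at h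
    exact res_injective f _ (k := 2) ⟨g l, by ring⟩ (h.trans (map_zero _).symm)
  have hanti : ∀ l i, res f (dvd_mul_right (g l * g i) (g l)) (c l i) +
      res f (Dvd.intro (g l) (by ring) : g i * g l ∣ g l * g i * g l) (c i l) = 0 := fun l i => by
    rw [hc l i l, hdiag, map_zero]
  suffices key : ∀ s : Finset ι, ∃ e : ι → E, ∀ i ∈ s, ∀ j ∈ s,
      f (g i * g j) (e i) - f (g i * g j) (e j) = c i j by
    obtain ⟨e, he⟩ := key Finset.univ
    refine ⟨fun i => f (g i) (e i), funext fun i => funext fun j => ?_⟩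
    rw [dd_apply, res_f, res_f, he i (Finset.mem_univ i) j (Finset.mem_univ j)]
  intro s
  induction s using Finset.induction with
  | empty => exact ⟨0, fun i hi => absurd hi (Finset.notMem_empty i)⟩
  | insert l s hl ih =>
    obtain ⟨e, he⟩ := ih
    obtain ⟨el, hel⟩ := exists_global f (κ := ↥s) (fun i => g i * g l) (fun i => f _ (e i) - c i l) (by
      funext i j
      rw [dd_apply, Pi.zero_apply, Pi.zero_apply, sub_eq_zero, map_sub, map_sub, res_f, res_f]
      have hD : g i.1 * g j.1 * g l ∣ g i.1 * g l * (g j.1 * g l) := ⟨g l, by ring⟩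
      have h2 := congrArg (res f hD) (hc i.1 j.1 l)
      rw [map_add, res_res, res_res, res_res, ← he i.1 i.2 j.1 j.2, map_sub, res_f, res_f] at h2
      rw [← h2]
      abel)
    refine ⟨Function.update e l el, fun i hi j hj => ?_⟩
    rw [Finset.mem_insert] at hi hj
    have hup : ∀ {i}, i ∈ s → Function.update e l el i = e i := fun {i} hi =>
      Function.update_of_ne (ne_of_mem_of_not_mem hi hl) _ _
    have hkey : ∀ {i}, i ∈ s → f (g i * g l) (e i) - f (g i * g l) el = c i l := fun {i} hi => by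
      rw [hel ⟨i, hi⟩]; abel
    rcases hi with rfl | hi <;> rcases hj with rfl | hj
    · rw [sub_self, hdiag]
    · rw [Function.update_self, hup hj]
      refine res_injective f (dvd_mul_right (g i * g j) (g i)) (k := 2) ⟨g j, by ring⟩ ?_
      have h3 := congrArg (res f (Dvd.intro (g i) (by ring) : g j * g i ∣ g i * g j * g i)) (hkey hj)
      rw [map_sub, res_f, res_f] at h3
      rw [map_sub, res_f, res_f, eq_neg_of_add_eq_zero_left (hanti i j), ← h3]
      abel
    · rw [Function.update_self, hup hi, hkey hi]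
    · rw [hup hi, hup hj, he i hi j hj]

end injective

section degreeOne

variable {M : Type u} [AddCommGroup M] [Module A M]
  {L : A → Type u} [∀ c, AddCommGroup (L c)] [∀ c, Module A (L c)]
  (f : ∀ c, M →ₗ[A] L c) [∀ c, IsLocalizedModule (Submonoid.powers c) (f c)]
  {ι : Type} [Finite ι] (g : ι → A) [IsNoetherianRing A]

/-- The first Čech cohomology is finite when the second local cohomology is. -/
theorem finite_cocycles_quotient {I : Ideal A} (hgI : Ideal.span (Set.range g) = I)
    (hH : Module.Finite A (_root_.LocCoh.H I 2 M)) :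
    Module.Finite A ↥((cocycles f g).map (LinearMap.range (dd f g)).mkQ) := by
  obtain ⟨E, _, _, i, hE, hi⟩ := LocCoh.exists_injective_embedding (R := A) M
  haveI := hE
  let Q := E ⧸ LinearMap.range i
  let π : E →ₗ[A] Q := (LinearMap.range i).mkQ
  have hπ : Function.Surjective π := Submodule.mkQ_surjective _
  have hiπ : Function.Exact i π := LinearMap.exact_map_mkQ_range i
  haveI h1 : Subsingleton (_root_.LocCoh.H I 1 E) := LocCoh.subsingleton_H_of_injective E (by omega)
  haveI h2 : Subsingleton (_root_.LocCoh.H I (1 + 1) E) := LocCoh.subsingleton_H_of_injective E (by omega)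
  haveI : Module.Finite A (_root_.LocCoh.H I (1 + 1) M) := hH
  have hQ : Module.Finite A (_root_.LocCoh.H I 1 Q) :=
    Module.Finite.equiv (LocCoh.shiftEquiv (I := I) hi hπ hiπ 1).symm
  let fE := fun c : A => LocalizedModule.mkLinearMap (Submonoid.powers c) E
  let fQ := fun c : A => LocalizedModule.mkLinearMap (Submonoid.powers c) Q
  let iL := fun c : A => IsLocalizedModule.map (Submonoid.powers c) (f c) (fE c) i
  let πL := fun c : A => IsLocalizedModule.map (Submonoid.powers c) (fE c) (fQ c) π
  have hiL : ∀ c m, iL c (f c m) = fE c (i m) := fun c m => IsLocalizedModule.map_apply _ _ _ _ _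
  have hπL : ∀ c m, πL c (fE c m) = fQ c (π m) := fun c m => IsLocalizedModule.map_apply _ _ _ _ _
  have hiLinj : ∀ c, Function.Injective (iL c) := fun c => IsLocalizedModule.map_injective _ _ _ _ hi
  have hπLsurj : ∀ c, Function.Surjective (πL c) := fun c => IsLocalizedModule.map_surjective _ _ _ _ hπ
  have hex : ∀ c, Function.Exact (iL c) (πL c) := fun c => IsLocalizedModule.map_exact _ _ _ _ i π hiπ
  have hiLres : ∀ {a c : A} (h : a ∣ c) (x : L a), iL c (res f h x) = res fE h (iL a x) := fun {a c} h x => by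
    refine LinearMap.congr_fun (IsLocalizedModule.ext (Submonoid.powers a) (f a) (isUnit_of_dvd fE h)
      (j := (iL c).comp (res f h)) (k := (res fE h).comp (iL a)) (LinearMap.ext fun m => ?_)) x
    simp only [LinearMap.comp_apply, res_f, hiL]
  have hπLres : ∀ {a c : A} (h : a ∣ c) (x : LocalizedModule (Submonoid.powers a) E),
      πL c (res fE h x) = res fQ h (πL a x) := fun {a c} h x => by
    refine LinearMap.congr_fun (IsLocalizedModule.ext (Submonoid.powers a) (fE a) (isUnit_of_dvd fQ h)
      (j := (πL c).comp (res fE h)) (k := (res fQ h).comp (πL a)) (LinearMap.ext fun m => ?_)) x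
    simp only [LinearMap.comp_apply, res_f, hπL]
  let LQ : A → Type u := fun c => LocalizedModule (Submonoid.powers c) Q
  letI : ∀ c, AddCommGroup (LQ c) := fun c => inferInstanceAs (AddCommGroup (LocalizedModule (Submonoid.powers c) Q))
  letI : ∀ c, Module A (LQ c) := fun c => inferInstanceAs (Module A (LocalizedModule (Submonoid.powers c) Q))
  let K : Submodule A (∀ j, LQ (g j)) := LinearMap.ker (dd (L := LQ) fQ g)
  let T : Submodule A (↥(cocycles f g) × ↥K) :=
    { carrier := {t | ∃ e : ∀ j, LocalizedModule (Submonoid.powers (g j)) E,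
        (∀ j k, dd fE g e j k = iL _ (t.1.1 j k)) ∧ ∀ j, πL _ (e j) = t.2.1 j}
      add_mem' := by
        rintro s t ⟨e, h1, h2⟩ ⟨e', h1', h2'⟩
        exact ⟨e + e', fun j k => by simp [h1, h1'], fun j => by simp [h2, h2']⟩
      zero_mem' := ⟨0, fun j k => by simp, fun j => by simp⟩
      smul_mem' := by
        rintro r t ⟨e, h1, h2⟩
        exact ⟨r • e, fun j k => by simp [h1], fun j => by simp [h2]⟩ }
  letI : AddCommGroup ↥T := Module.addCommMonoidToAddCommGroup A
  let α : T →ₗ[A] ↥((cocycles f g).map (LinearMap.range (dd f g)).mkQ) :=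
    ((LinearMap.range (dd f g)).mkQ.submoduleMap (cocycles f g)).comp ((LinearMap.fst A _ _).comp T.subtype)
  have hα : Function.Surjective α := fun z => by
    obtain ⟨c, hc⟩ := LinearMap.submoduleMap_surjective (LinearMap.range (dd f g)).mkQ (cocycles f g) z
    obtain ⟨e, he⟩ := exists_primitive fE g (fun j k => iL _ (c.1 j k)) fun j k l => by
      rw [← hiLres, ← hiLres, ← hiLres, ← map_add, c.2 j k l]
    let q : ∀ j, LocalizedModule (Submonoid.powers (g j)) Q := fun j => πL _ (e j)
    have hq : q ∈ K := by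
      refine funext fun j => funext fun k => ?_
      rw [dd_apply, ← hπLres, ← hπLres, ← map_sub, ← dd_apply, he]
      exact (hex _).apply_apply_eq_zero _
    exact ⟨⟨(c, ⟨q, hq⟩), e, fun j k => congrFun (congrFun he j) k, fun j => rfl⟩, hc⟩
  let β : T →ₗ[A] (↥K ⧸ (LinearMap.range (aug fQ g)).comap K.subtype) :=
    (Submodule.mkQ _).comp ((LinearMap.snd A _ _).comp T.subtype)
  have hβα : LinearMap.ker β ≤ LinearMap.ker α := by
    rintro ⟨⟨c, q⟩, e, he, hq⟩ hb
    obtain ⟨q₀, hq₀⟩ := (Submodule.Quotient.mk_eq_zero _).1 hb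
    obtain ⟨e₀, rfl⟩ := hπ q₀
    have hm : ∀ j, ∃ m, iL _ m = e j - fE _ e₀ := fun j => (hex _ _).1 (by
      rw [map_sub, hq, hπL, sub_eq_zero]; exact (congrFun hq₀ j).symm)
    choose m hm using hm
    refine Subtype.ext ((Submodule.Quotient.mk_eq_zero _).2 ⟨m, funext fun j => funext fun k => hiLinj _ ?_⟩)
    show iL _ (dd f g m j k) = iL _ (c.1 j k)
    rw [← he, dd_apply, dd_apply, map_sub, hiLres, hiLres, hm, hm, map_sub, map_sub, res_f, res_f]
    abel
  haveI := finite_ker_quotient fQ g hgI hQ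
  haveI : Module.Finite A (T ⧸ LinearMap.ker β) := Module.Finite.equiv β.quotKerEquivRange.symm
  refine Module.Finite.of_surjective ((LinearMap.ker β).liftQ α hβα) fun z => ?_
  obtain ⟨t, ht⟩ := hα z
  exact ⟨Submodule.Quotient.mk t, ht⟩

end degreeOne

end Groth.Agent.FEtFF.CechFinite
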