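import Mathlib.AlgebraicGeometry.Morphisms.FormallyUnramified
import Mathlib.AlgebraicGeometry.Morphisms.Separated
import Mathlib.AlgebraicGeometry.Morphisms.Etale
import Mathlib.AlgebraicGeometry.Morphisms.Finite

/-! Agreement of morphisms into an unramified separated scheme. -/

set_option autoImplicit false
set_option linter.style.haveILetI false
universe u

open CategoryTheory CategoryTheory.Limits AlgebraicGeometry

namespace Groth.Agent.FEtFF.EqLocus

/-- Morphisms into an unramified separated scheme which agree on a subscheme meeting the closure of every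
point up to generalization are equal. -/
theorem eq_of_agree {S V W V₀ : Scheme.{u}} (w : W ⟶ S) [IsSeparated w] [FormallyUnramified w]
    [LocallyOfFiniteType w] (a b : V ⟶ W) (h : a ≫ w = b ≫ w) (k : V₀ ⟶ V) (hk : k ≫ a = k ≫ b)
    (hd : ∀ v : V, ∃ η x, η ⤳ v ∧ η ⤳ k x) : a = b := by
  let Δ := pullback.diagonal w
  let t : V ⟶ pullback w w := pullback.lift a b h
  haveI : IsClosedImmersion Δ := IsSeparated.isClosedImmersion_diagonal
  have hclosed : IsClosed (Set.range Δ) := Δ.isClosedEmbedding.isClosed_range
  have hopen : IsOpen (Set.range Δ) := Δ.isOpenEmbedding.isOpen_range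
  have hr : Set.range t ⊆ Set.range Δ := by
    rintro _ ⟨v, rfl⟩
    obtain ⟨η, x, hv, hx⟩ := hd v
    have hkx : t (k x) ∈ Set.range Δ := by
      have e : k ≫ t = (k ≫ a) ≫ Δ := by
        refine pullback.hom_ext ?_ ?_
        · show (k ≫ t) ≫ pullback.fst w w = ((k ≫ a) ≫ Δ) ≫ pullback.fst w w
          rw [Category.assoc, Category.assoc (k ≫ a), show t ≫ pullback.fst w w = a from pullback.lift_fst _ _ _,
            pullback.diagonal_fst, Category.comp_id]
        · show (k ≫ t) ≫ pullback.snd w w = ((k ≫ a) ≫ Δ) ≫ pullback.snd w w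
          rw [Category.assoc, Category.assoc (k ≫ a), show t ≫ pullback.snd w w = b from pullback.lift_snd _ _ _,
            pullback.diagonal_snd, Category.comp_id, hk]
      exact ⟨(k ≫ a) x, by rw [← Scheme.Hom.comp_apply, ← e, Scheme.Hom.comp_apply]⟩
    have hη : t η ∈ Set.range Δ := (hx.map t.continuous).mem_open hopen hkx
    exact (hv.map t.continuous).mem_closed hclosed hη
  have e := IsOpenImmersion.lift_fac Δ t hr
  have e1 : IsOpenImmersion.lift Δ t hr = a := by
    calc IsOpenImmersion.lift Δ t hr = (IsOpenImmersion.lift Δ t hr ≫ Δ) ≫ pullback.fst w w := by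
          rw [Category.assoc, pullback.diagonal_fst, Category.comp_id]
      _ = a := by rw [e]; exact pullback.lift_fst _ _ _
  have e2 : IsOpenImmersion.lift Δ t hr = b := by
    calc IsOpenImmersion.lift Δ t hr = (IsOpenImmersion.lift Δ t hr ≫ Δ) ≫ pullback.snd w w := by
          rw [Category.assoc, pullback.diagonal_snd, Category.comp_id]
      _ = b := by rw [e]; exact pullback.lift_snd _ _ _
  rw [← e1, e2]

end Groth.Agent.FEtFF.EqLocus
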