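import Groth.Agent.FlatMorWeight.GeomUnibranch
import Mathlib.RingTheory.Localization.Integral
import Mathlib.RingTheory.Localization.LocalizationLocalization
import Mathlib.RingTheory.Flat.Basic

/-!
# Étale local algebras of geometrically unibranch local domains are geometrically unibranch local domains
-/

set_option autoImplicit false
set_option linter.style.haveILetI false
universe u

namespace Groth.Agent.FEtFF

open TensorProduct IsLocalRing

theorem isGeomUnibranch_of_normalization (A C : Type u) [CommRing A] [IsLocalRing A] [IsDomain A]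
    [CommRing C] [IsDomain C] [IsLocalRing C] [IsIntegrallyClosed C] [Algebra A C] [Algebra.IsIntegral A C]
    (hinj : Function.Injective (algebraMap A C))
    (hbir : ∀ c : C, ∃ s : A, s ≠ 0 ∧ ∃ a : A, algebraMap A C s * c = algebraMap A C a)
    (hins : ∀ x : C ⧸ maximalIdeal C, ∃ n : ℕ,
      x ^ ringExpChar (C ⧸ maximalIdeal C) ^ n ∈
        ((Ideal.Quotient.mk (maximalIdeal C)).comp (algebraMap A C)).range) :
    CAlg2.IsGeomUnibranch A := by
  let L := FractionRing C
  have hAL : Function.Injective (algebraMap A L) := by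
    rw [IsScalarTower.algebraMap_eq A C L]
    exact (IsFractionRing.injective C L).comp hinj
  haveI : FaithfulSMul A L := (faithfulSMul_iff_algebraMap_injective A L).mpr hAL
  haveI : IsFractionRing A L := by
    refine IsFractionRing.of_field A L fun z => ?_
    obtain ⟨c, d, hd, rfl⟩ := IsFractionRing.div_surjective (A := C) z
    obtain ⟨s, hs, a, ha⟩ := hbir c
    obtain ⟨t, ht, b, hb⟩ := hbir d
    have hd0 : algebraMap C L d ≠ 0 := IsFractionRing.to_map_ne_zero_of_mem_nonZeroDivisors hd
    have hs0 : algebraMap A L s ≠ 0 := (map_ne_zero_iff _ hAL).mpr hs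
    have ht0 : algebraMap A L t ≠ 0 := (map_ne_zero_iff _ hAL).mpr ht
    have ha' : algebraMap A L s * algebraMap C L c = algebraMap A L a := by
      rw [IsScalarTower.algebraMap_apply A C L, IsScalarTower.algebraMap_apply A C L, ← map_mul, ha]
    have hb' : algebraMap A L t * algebraMap C L d = algebraMap A L b := by
      rw [IsScalarTower.algebraMap_apply A C L, IsScalarTower.algebraMap_apply A C L, ← map_mul, hb]
    refine ⟨a * t, s * b, ?_⟩
    rw [map_mul, map_mul, ← ha', ← hb', div_eq_div_iff hd0 (mul_ne_zero hs0 (mul_ne_zero ht0 hd0))]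
    ring
  have hnil : nilradical A = ⊥ := nilradical_eq_zero A
  let e0 : CAlg2.red A ≃+* A := (Ideal.quotEquivOfEq hnil).trans (RingEquiv.quotientBot A)
  haveI : IsDomain (CAlg2.red A) := e0.injective.isDomain e0.toRingHom
  let Θ : FractionRing (CAlg2.red A) ≃+* L := IsFractionRing.ringEquivOfRingEquiv e0
  have hΘ : ∀ r, Θ (algebraMap (CAlg2.red A) _ r) = algebraMap A L (e0 r) := fun r =>
    IsFractionRing.ringEquivOfRingEquiv_algebraMap e0 r
  have hΘ' : ∀ a, Θ.symm (algebraMap A L a) = algebraMap (CAlg2.red A) _ (e0.symm a) := fun a => by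
    apply Θ.injective; rw [hΘ, RingEquiv.apply_symm_apply, RingEquiv.apply_symm_apply]
  let h : C →+* CAlg2.normRed A :=
    { toFun := fun c => ⟨Θ.symm (algebraMap C L c),
        IsIntegral.map_of_comp_eq e0.symm.toRingHom (Θ.symm.toRingHom.comp (algebraMap C L))
          (by ext a; exact (hΘ' a).symm.trans (congrArg _ (IsScalarTower.algebraMap_apply A C L a)))
          (Algebra.IsIntegral.isIntegral (R := A) c)⟩
      map_one' := Subtype.ext (by simp)
      map_mul' := fun a b => Subtype.ext (by simp)
      map_zero' := Subtype.ext (by simp)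
      map_add' := fun a b => Subtype.ext (by simp) }
  have hh : Function.Bijective h := by
    refine ⟨fun a b hab => IsFractionRing.injective C L (Θ.symm.injective (congrArg Subtype.val hab)), ?_⟩
    rintro ⟨z, hz⟩
    have h1 : IsIntegral A (Θ z) :=
      IsIntegral.map_of_comp_eq e0.toRingHom Θ.toRingHom (by ext r; exact (hΘ _).symm) hz
    obtain ⟨c, hc⟩ := IsIntegrallyClosed.isIntegral_iff.mp (h1.tower_top (A := C))
    exact ⟨c, Subtype.ext (show Θ.symm (algebraMap C L c) = z by rw [hc, RingEquiv.symm_apply_apply])⟩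
  let E := RingEquiv.ofBijective h hh
  haveI : IsLocalRing (CAlg2.normRed A) := IsLocalRing.of_surjective' E.toRingHom E.surjective
  refine ⟨⟨inferInstance, inferInstance⟩, fun m' hm' x => ?_⟩
  have hm : maximalIdeal C = m'.comap h := (IsLocalRing.eq_maximalIdeal
    (Ideal.comap_isMaximal_of_surjective h hh.2)).symm
  let q : C ⧸ maximalIdeal C →+* CAlg2.normRed A ⧸ m' := Ideal.quotientMap m' h hm.le
  haveI : Nontrivial (CAlg2.normRed A ⧸ m') := Ideal.Quotient.nontrivial_iff.mpr hm'.ne_top
  letI := Ideal.Quotient.field (maximalIdeal C)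
  letI := Ideal.Quotient.field m'
  haveI : ExpChar (CAlg2.normRed A ⧸ m') (ringExpChar (C ⧸ maximalIdeal C)) :=
    expChar_of_injective_ringHom q.injective _
  obtain ⟨z, rfl⟩ := Ideal.Quotient.mk_surjective x
  obtain ⟨c, rfl⟩ := hh.2 z
  obtain ⟨n, a, ha⟩ := hins (Ideal.Quotient.mk _ c)
  refine ⟨n, a, ?_⟩
  rw [ringExpChar.eq (CAlg2.normRed A ⧸ m') (ringExpChar (C ⧸ maximalIdeal C))]
  have h2 := congrArg q ha
  rw [map_pow] at h2
  refine Eq.trans ?_ h2
  show Ideal.Quotient.mk m' (algebraMap (CAlg2.red A) (CAlg2.normRed A) (Ideal.Quotient.mk _ a)) =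
    Ideal.Quotient.mk m' (h (algebraMap A C a))
  congr 1
  refine Subtype.ext (show algebraMap (CAlg2.red A) (FractionRing (CAlg2.red A)) (Ideal.Quotient.mk _ a) =
    Θ.symm (algebraMap C L (algebraMap A C a)) from ?_)
  rw [← IsScalarTower.algebraMap_apply, hΘ']
  rfl

/-- The core: the local ring of an étale algebra over a local ring with a normal local birational
integral extension, radicial at the closed point, has the same kind of extension. -/
theorem isDomain_and_isGeomUnibranch_of_normalization {A B C : Type u} [CommRing A] [IsLocalRing A] [IsDomain A]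
    [CommRing B] [Algebra A B] [Algebra.Etale A B] [CommRing C] [IsDomain C] [IsLocalRing C] [IsIntegrallyClosed C]
    [Algebra A C] [Algebra.IsIntegral A C] (hinj : Function.Injective (algebraMap A C))
    (hbir : ∀ c : C, ∃ s : A, s ≠ 0 ∧ ∃ a : A, algebraMap A C s * c = algebraMap A C a)
    (hins : ∀ x : C ⧸ maximalIdeal C, ∃ n : ℕ,
      x ^ ringExpChar (C ⧸ maximalIdeal C) ^ n ∈
        ((Ideal.Quotient.mk (maximalIdeal C)).comp (algebraMap A C)).range)
    (q : Ideal B) [q.IsPrime] (hq : q.comap (algebraMap A B) = maximalIdeal A) :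
    IsDomain (Localization.AtPrime q) ∧ CAlg2.IsGeomUnibranch (Localization.AtPrime q) := by
  set m := maximalIdeal C with hm
  letI := Ideal.Quotient.field m
  let e := ringExpChar (C ⧸ m)
  let r : C →+* B ⊗[A] C := (Algebra.TensorProduct.includeRight : C →ₐ[A] B ⊗[A] C).toRingHom
  let D := B ⊗[A] C
  let N := Algebra.algebraMapSubmonoid D q.primeCompl
  let T := Localization.AtPrime q
  let S' := Localization N
  letI : Algebra T S' := localizationAlgebra q.primeCompl D
  haveI : IsScalarTower B T S' := IsScalarTower.of_algebraMap_eq' (by rw [RingHom.algebraMap_toAlgebra, IsLocalization.map_comp, ← IsScalarTower.algebraMap_eq])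
  haveI : Algebra.IsIntegral B D := inferInstance
  haveI : Algebra.IsIntegral T S' := ⟨isIntegral_localization (S := D) (Rₘ := T) (Sₘ := S') (M := q.primeCompl)⟩
  have hBD : Function.Injective (algebraMap B D) :=
    Algebra.TensorProduct.includeLeft_injective (R := A) (S := B) (A := B) hinj
  have hTS : Function.Injective (algebraMap T S') := by
    refine (injective_iff_map_eq_zero _).mpr fun x hx => ?_
    obtain ⟨⟨b, s⟩, hbs⟩ := IsLocalization.surj q.primeCompl x
    have h1 : algebraMap D S' (algebraMap B D b) = 0 := by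
      rw [← IsScalarTower.algebraMap_apply, IsScalarTower.algebraMap_apply B T S', ← hbs, map_mul, hx, zero_mul]
    obtain ⟨⟨_, b₀, hb₀, rfl⟩, hk⟩ := (IsLocalization.map_eq_zero_iff N S' _).mp h1
    have h2 : b₀ * b = 0 := hBD (by rw [map_mul, map_zero]; exact hk)
    have h3 : algebraMap B T b = 0 :=
      (IsLocalization.map_eq_zero_iff q.primeCompl T b).mpr ⟨⟨b₀, hb₀⟩, h2⟩
    exact (IsLocalization.map_units T s).mul_left_eq_zero.mp (hbs.trans h3)
  haveI : Nontrivial S' := hTS.nontrivial
  have hsm : ∀ (a : A) (b : B), algebraMap B D (a • b) = a • algebraMap B D b := fun a b =>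
    (IsScalarTower.toAlgHom A B D).toLinearMap.map_smul a b
  -- birationality
  have hreg : ∀ s : A, s ≠ 0 → ∀ z : D, s • z = 0 → z = 0 := by
    intro s hs z hz
    have hl : Function.Injective (LinearMap.lsmul A C s) := fun a b hab => by
      refine mul_left_cancel₀ ((map_ne_zero_iff _ hinj).mpr hs) ?_
      simpa [Algebra.smul_def] using hab
    refine Module.Flat.lTensor_preserves_injective_linearMap (M := B) (LinearMap.lsmul A C s) hl ?_
    rw [map_zero, ← hz]
    clear hz
    induction z using TensorProduct.induction_on with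
    | zero => simp
    | tmul b c => simp [TensorProduct.tmul_smul]
    | add u v hu hv => simp only [map_add, smul_add, hu, hv]
  have hbirD : ∀ z : D, ∃ s : A, s ≠ 0 ∧ ∃ b : B, s • z = algebraMap B D b := by
    intro z
    induction z using TensorProduct.induction_on with
    | zero => exact ⟨1, one_ne_zero, 0, by simp⟩
    | tmul b c =>
      obtain ⟨s, hs, a, ha⟩ := hbir c
      refine ⟨s, hs, a • b, ?_⟩
      rw [← TensorProduct.tmul_smul, Algebra.smul_def, ha, Algebra.algebraMap_eq_smul_one, ← TensorProduct.smul_tmul]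
      rfl
    | add u v hu hv =>
      obtain ⟨s, hs, b, hb⟩ := hu
      obtain ⟨t, ht, c, hc⟩ := hv
      refine ⟨s * t, mul_ne_zero hs ht, t • b + s • c, ?_⟩
      rw [smul_add, show (s * t) • u = t • (s • u) by rw [← mul_smul, mul_comm], mul_smul s t v, hb, hc,
        map_add, hsm, hsm]
  -- locality
  have hmaxq : ∀ M : Ideal S', M.IsMaximal →
      (M.comap (algebraMap D S')).comap (algebraMap B D) = q ∧ m.map r ≤ M.comap (algebraMap D S') := by
    intro M hM
    have h1 : (M.comap (algebraMap T S')).IsMaximal := Ideal.isMaximal_comap_of_isIntegral_of_isMaximal M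
    have h2 : (M.comap (algebraMap D S')).comap (algebraMap B D) = q := by
      rw [← IsLocalization.AtPrime.under_maximalIdeal T q, ← IsLocalRing.eq_maximalIdeal h1, Ideal.under,
        Ideal.comap_comap, Ideal.comap_comap, ← IsScalarTower.algebraMap_eq, ← IsScalarTower.algebraMap_eq]
    refine ⟨h2, Ideal.map_le_iff_le_comap.2 (le_of_eq (IsLocalRing.eq_maximalIdeal ?_).symm)⟩
    refine Ideal.isMaximal_of_isIntegral_of_isMaximal_comap (R := A) _ ?_
    have h3 : ((M.comap (algebraMap D S')).comap r).comap (algebraMap A C) = maximalIdeal A := by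
      rw [← hq, ← h2, Ideal.comap_comap, Ideal.comap_comap]
      rw [show r.comp (algebraMap A C) = (algebraMap B D).comp (algebraMap A B) from
        ((Algebra.TensorProduct.includeRight : C →ₐ[A] D).comp_algebraMap).trans
          (IsScalarTower.algebraMap_eq A B D)]
      rfl
    rw [h3]; infer_instance
  obtain ⟨M₀, hM₀⟩ := Ideal.exists_maximal S'
  let Q := M₀.comap (algebraMap D S')
  haveI : Q.IsPrime := Ideal.comap_isPrime _ _
  haveI : IsLocalRing S' := by
    refine IsLocalRing.of_unique_max_ideal ⟨M₀, hM₀, fun M hM => ?_⟩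
    obtain ⟨a₁, b₁⟩ := hmaxq M hM
    obtain ⟨a₂, b₂⟩ := hmaxq M₀ hM₀
    haveI := hM.isPrime
    have : M.comap (algebraMap D S') = Q :=
      le_antisymm (FlatMorWeight.le_of_pow_mem m e hins _ _ b₁ b₂ (a₁.trans a₂.symm))
        (FlatMorWeight.le_of_pow_mem m e hins _ _ b₂ b₁ (a₂.trans a₁.symm))
    rw [← IsLocalization.map_under N S' M, ← IsLocalization.map_under N S' M₀]
    exact congrArg _ this
  have hunit : ∀ z : D, z ∉ Q → IsUnit (algebraMap D S' z) := by
    intro z hz
    by_contra hc
    refine hz ?_
    show algebraMap D S' z ∈ M₀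
    rwa [IsLocalRing.eq_maximalIdeal hM₀, mem_maximalIdeal, mem_nonunits_iff]
  haveI : IsLocalization Q.primeCompl S' := by
    refine IsLocalization.isLocalization_of_is_exists_mul_mem S' N Q.primeCompl ?_ ?_
    · rintro z hz hzQ
      exact hM₀.ne_top (Ideal.eq_top_of_isUnit_mem _ hzQ (IsLocalization.map_units S' ⟨z, hz⟩))
    · rintro ⟨z, hz⟩
      obtain ⟨w, hw⟩ := isUnit_iff_exists_inv.mp (hunit z hz)
      obtain ⟨⟨y, s⟩, hys⟩ := IsLocalization.surj N w
      obtain ⟨c, hc⟩ := (IsLocalization.eq_iff_exists N S').mp (show algebraMap D S' (z * y) = algebraMap D S' s.1 by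
        rw [map_mul, ← hys, ← mul_assoc, hw, one_mul])
      exact ⟨c.1 * y, by rw [mul_assoc, mul_comm y, hc]; exact N.mul_mem c.2 s.2⟩
  letI := Algebra.TensorProduct.rightAlgebra (R := A) (A := B) (B := C)
  haveI : Algebra.Etale C D := .of_equiv (Algebra.TensorProduct.commRight A C B)
  obtain ⟨hdomD, hicD⟩ := Et18.normal_localization_of_etale C D Q
  let Φ : Localization.AtPrime Q ≃+* S' := (IsLocalization.algEquiv Q.primeCompl _ _).toRingEquiv
  haveI : IsDomain S' := Φ.symm.injective.isDomain Φ.symm.toRingHom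
  haveI : IsIntegrallyClosed S' := IsIntegrallyClosed.of_equiv Φ
  haveI hT : IsDomain T := hTS.isDomain _
  refine ⟨hT, isGeomUnibranch_of_normalization T S' hTS ?_ ?_⟩
  · intro c
    obtain ⟨⟨z, ⟨n, b₀, hb₀, hn⟩⟩, hc⟩ := IsLocalization.surj N c
    obtain ⟨s, hs, b, hb⟩ := hbirD z
    refine ⟨algebraMap B T (s • b₀), fun h0 => ?_, algebraMap B T b, ?_⟩
    · have := congrArg (algebraMap T S') h0
      rw [map_zero, ← IsScalarTower.algebraMap_apply, IsScalarTower.algebraMap_apply B D S',
        hsm, hn] at this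
      obtain ⟨k, hk⟩ := (IsLocalization.map_eq_zero_iff N S' _).mp this
      have hk0 : k.1 * n = 0 := hreg s hs _ (by rw [← Algebra.mul_smul_comm]; exact hk)
      have : IsUnit (algebraMap D S' (k.1 * n)) :=
        IsLocalization.map_units S' (⟨_, N.mul_mem k.2 ⟨b₀, hb₀, hn⟩⟩ : N)
      rw [hk0, map_zero] at this
      exact not_isUnit_zero this
    · rw [← IsScalarTower.algebraMap_apply, ← IsScalarTower.algebraMap_apply,
        IsScalarTower.algebraMap_apply B D S', IsScalarTower.algebraMap_apply B D S', ← hb,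
        hsm, hn, Algebra.smul_def, Algebra.smul_def, map_mul, map_mul, mul_assoc, mul_comm _ c, hc]
  · -- the residue field is purely inseparable
    set M := maximalIdeal S'
    letI := Ideal.Quotient.field M
    let π : D →+* S' ⧸ M := (Ideal.Quotient.mk M).comp (algebraMap D S')
    have hmC : m ≤ M.comap ((algebraMap D S').comp r) :=
      (Ideal.map_le_iff_le_comap.mp (hmaxq M inferInstance).2).trans_eq (Ideal.comap_comap r (algebraMap D S'))
    let ι : C ⧸ m →+* S' ⧸ M := Ideal.quotientMap M ((algebraMap D S').comp r) hmC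
    haveI : ExpChar (S' ⧸ M) e := expChar_of_injective_ringHom ι.injective e
    rw [ringExpChar.eq (S' ⧸ M) e]
    set R := ((Ideal.Quotient.mk M).comp (algebraMap T S')).range
    have key : ∀ z : D, ∃ n, π z ^ e ^ n ∈ R := by
      intro z
      induction z using TensorProduct.induction_on with
      | zero => exact ⟨0, by simp [R.zero_mem]⟩
      | tmul b c =>
        obtain ⟨n, a, ha⟩ := hins (Ideal.Quotient.mk m c)
        refine ⟨n, algebraMap B T (b ^ e ^ n * algebraMap A B a), ?_⟩
        have h1 : π (r c) ^ e ^ n = π (algebraMap A D a) := by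
          have := congrArg ι ha
          rw [map_pow] at this
          rw [show algebraMap A D a = r (algebraMap A C a) from (AlgHom.commutes _ a).symm]
          exact this.symm
        have h2 : b ⊗ₜ[A] c = algebraMap B D b * r c := by simp [r, D]
        rw [h2, map_mul π, mul_pow, h1, ← map_pow π, ← map_mul π, ← map_pow (algebraMap B D)]
        show Ideal.Quotient.mk M (algebraMap T S' (algebraMap B T _)) = Ideal.Quotient.mk M (algebraMap D S' _)
        rw [← IsScalarTower.algebraMap_apply, IsScalarTower.algebraMap_apply B D S', map_mul, ← IsScalarTower.algebraMap_apply]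
      | add u v hu hv =>
        obtain ⟨n₁, h₁⟩ := hu
        obtain ⟨n₂, h₂⟩ := hv
        refine ⟨n₁ + n₂, ?_⟩
        rw [map_add, add_pow_expChar_pow, pow_add, pow_mul, pow_mul']
        exact R.add_mem (R.pow_mem h₁ _) (R.pow_mem h₂ _)
    intro x
    obtain ⟨w, rfl⟩ := Ideal.Quotient.mk_surjective x
    obtain ⟨⟨z, ⟨_, b₀, hb₀, rfl⟩⟩, hw⟩ := IsLocalization.surj N w
    obtain ⟨n, hn⟩ := key z
    obtain ⟨u, hu⟩ := isUnit_iff_exists_inv.mp (IsLocalization.map_units T (⟨b₀, hb₀⟩ : q.primeCompl))
    have hw' : w = algebraMap D S' z * algebraMap T S' u := by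
      have h4 : algebraMap D S' (algebraMap B D b₀) * algebraMap T S' u = 1 := by
        rw [← IsScalarTower.algebraMap_apply, IsScalarTower.algebraMap_apply B T S', ← map_mul, hu, map_one]
      calc w = w * (algebraMap D S' (algebraMap B D b₀) * algebraMap T S' u) := by rw [h4, mul_one]
        _ = _ := by rw [← mul_assoc, hw]
    refine ⟨n, ?_⟩
    rw [hw', map_mul, mul_pow]
    exact R.mul_mem hn (R.pow_mem ⟨u, rfl⟩ _)

/-- Over a geometrically unibranch local domain, the local rings of an étale algebra over the closed point are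
geometrically unibranch domains. -/
theorem isDomain_and_isGeomUnibranch_of_etale {A B : Type u} [CommRing A] [IsLocalRing A] [IsDomain A]
    (hA : CAlg2.IsGeomUnibranch A) [CommRing B] [Algebra A B] [Algebra.Etale A B] (q : Ideal B) [q.IsPrime]
    (hq : q.comap (algebraMap A B) = maximalIdeal A) :
    IsDomain (Localization.AtPrime q) ∧ CAlg2.IsGeomUnibranch (Localization.AtPrime q) := by
  obtain ⟨⟨hdom, hloc⟩, hins⟩ := hA
  haveI := hdom
  haveI := hloc
  haveI : IsIntegrallyClosed (CAlg2.normRed A) :=
    integralClosure.isIntegrallyClosedOfFiniteExtension (FractionRing (CAlg2.red A))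
  haveI : Algebra.IsIntegral A (CAlg2.normRed A) := Algebra.IsIntegral.trans (CAlg2.red A)
  have hn : Function.Injective (Ideal.Quotient.mk (nilradical A)) := by
    rw [RingHom.injective_iff_ker_eq_bot, Ideal.mk_ker]; exact nilradical_eq_zero A
  refine isDomain_and_isGeomUnibranch_of_normalization (C := CAlg2.normRed A) ?_ ?_ (fun x => hins _ x) q hq
  · intro a b hab
    exact hn (IsFractionRing.injective (CAlg2.red A) _ (congrArg Subtype.val hab))
  · intro c
    obtain ⟨x, y, hy, hc⟩ := IsFractionRing.div_surjective (A := CAlg2.red A) c.1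
    obtain ⟨s, rfl⟩ := Ideal.Quotient.mk_surjective y
    obtain ⟨a, rfl⟩ := Ideal.Quotient.mk_surjective x
    refine ⟨s, fun h => nonZeroDivisors.ne_zero hy (by rw [h, map_zero]), a, Subtype.ext ?_⟩
    show algebraMap (CAlg2.red A) (FractionRing (CAlg2.red A)) (Ideal.Quotient.mk _ s) * c.1 = algebraMap (CAlg2.red A) _ (Ideal.Quotient.mk _ a)
    rw [← hc, mul_div_cancel₀]
    exact IsFractionRing.to_map_ne_zero_of_mem_nonZeroDivisors hy

end Groth.Agent.FEtFF
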