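import Groth.Agent.FEtFF.Hypersurface
import Groth.Agent.FEtFF.PurityDescent
import Groth.Agent.S0532
import Groth.Agent.CAlgH3.FlatDepth
import Groth.Agent.CAlgH3.Depth
import Groth.Agent.CAlgMisc1.Basic
import Groth.Agent.Matlis6.CompletionNoetherian
import Mathlib.RingTheory.AdicCompletion.LocalRing
import Mathlib.RingTheory.AdicCompletion.AsTensorProduct
import Mathlib.RingTheory.Henselian
import Mathlib.RingTheory.Flat.FaithfullyFlat.Algebra

/-!
# Extending finite étale covers of a punctured spectrum from a hypersurface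

If `A` is Noetherian local of depth at least `3`, `f ∈ 𝔪`, and a finite étale cover of the punctured
spectrum extends over the closed point after restriction to `V(f)`, then it extends to `Spec A`.
-/

set_option autoImplicit false
set_option linter.style.haveILetI false
set_option backward.isDefEq.respectTransparency.types false
set_option backward.isDefEq.respectTransparency false
universe u

open CategoryTheory CategoryTheory.Limits AlgebraicGeometry

namespace Groth.Agent.FEtFF.Hypersurface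
open Cech

variable {A : Type u} [CommRing A] [IsNoetherianRing A] [IsLocalRing A]

theorem exists_regTriple (hA : (3 : ℕ∞) ≤ _root_.LocCoh.depth A A) :
    ∃ x y z : A, x ∈ IsLocalRing.maximalIdeal A ∧ y ∈ IsLocalRing.maximalIdeal A ∧
      z ∈ IsLocalRing.maximalIdeal A ∧ RegTriple x y z := by
  obtain ⟨rs, hlen, hm, hreg⟩ := (LocCoh.natCast_le_idealDepth_iff_exists (IsLocalRing.maximalIdeal A) A
    CAlgH3.maximal_smul_top_ne_top 3).1 hA
  match rs, hlen with
  | x :: y :: z :: rest, _ =>
    have h0 := hreg.toIsWeaklyRegular.regular_mod_prev 0 (by simp)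
    have h1 := hreg.toIsWeaklyRegular.regular_mod_prev 1 (by simp)
    have h2 := hreg.toIsWeaklyRegular.regular_mod_prev 2 (by simp)
    rw [isSMulRegular_quotient_iff_mem_of_smul_mem] at h0 h1 h2
    simp only [List.getElem_cons_zero, List.getElem_cons_succ, List.take_zero, List.take_succ_cons,
      Ideal.ofList_nil, Submodule.mem_bot, smul_eq_mul, Ideal.mul_top] at h0 h1 h2
    refine ⟨x, y, z, hm x (by simp), hm y (by simp), hm z (by simp), ⟨fun a ha => h0 a (by rwa [mul_comm]), fun a ha => ?_, fun a ha => ?_⟩⟩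
    · have := h1 a (by
        rw [show (Ideal.ofList [x]) = Ideal.span {x} from Ideal.ofList_singleton x, Ideal.mem_span_singleton, mul_comm]
        exact ha)
      rwa [show (Ideal.ofList [x]) = Ideal.span {x} from Ideal.ofList_singleton x, Ideal.mem_span_singleton] at this
    · have hI : Ideal.ofList [x, y] = Ideal.span {x, y} := by
        rw [Ideal.ofList_cons, Ideal.ofList_singleton, ← Ideal.span_insert]
      obtain ⟨u, v, huv⟩ := ha
      have := h2 a (by
        rw [hI, Ideal.mem_span_pair]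
        exact ⟨u, v, by rw [mul_comm z a, huv]; ring⟩)
      rw [hI, Ideal.mem_span_pair] at this
      obtain ⟨u', v', h'⟩ := this
      exact ⟨u', v', by rw [← h']; ring⟩

set_option maxHeartbeats 800000 in
/-- The complete case. -/
theorem exists_extension_of_complete (hA : (3 : ℕ∞) ≤ _root_.LocCoh.depth A A) (f : A)
    [IsAdicComplete (Ideal.span {f}) A] {V : Scheme.{u}} (h : V ⟶ (FEt.puncturedSpec A : Scheme.{u}))
    [IsFinite h] [Etale h] {P Y₀ : Scheme.{u}} (y₀ : Y₀ ⟶ Spec (CommRingCat.of (A ⧸ Ideal.span {f})))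
    [IsFinite y₀] [Etale y₀] (a : P ⟶ V) (b : P ⟶ Y₀) (H1 : IsPullback a (b ≫ y₀) (str h) (hyp f))
    (H2 : IsPullback b (a ≫ h) (y₀ ≫ hyp f) (FEt.puncturedSpec A).ι) :
    ∃ (Y : Scheme.{u}) (y : Y ⟶ Spec (CommRingCat.of A)) (_ : IsFinite y) (_ : Etale y)
      (i : pullback y (FEt.puncturedSpec A).ι ≅ V), i.hom ≫ h = pullback.snd _ _ := by
  have hdep : (2 : ℕ∞) ≤ _root_.LocCoh.depth A A := le_trans (by norm_num) hA
  obtain ⟨x, y, z, hx, hy, hz, H⟩ := exists_regTriple hA
  obtain ⟨n, gen, hgen⟩ := Submodule.fg_iff_exists_fin_generating_family.1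
    (IsNoetherian.noetherian (IsLocalRing.maximalIdeal A))
  let g : Fin 3 ⊕ Fin n → A := Sum.elim ![x, y, z] gen
  have hgm : ∀ i, g i ∈ IsLocalRing.maximalIdeal A := by
    rintro (i | i)
    · fin_cases i <;> assumption
    · show gen i ∈ _
      rw [← hgen]; exact Submodule.subset_span ⟨i, rfl⟩
  have hgcov : ∀ p : Ideal A, p.IsPrime → p ≠ IsLocalRing.maximalIdeal A → ∃ i, g i ∉ p := by
    intro p hp hne
    by_contra hcon
    push Not at hcon
    refine hne (le_antisymm (IsLocalRing.le_maximalIdeal hp.ne_top) ?_)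
    rw [← hgen, Submodule.span_le]
    rintro _ ⟨i, rfl⟩
    exact hcon (Sum.inr i)
  -- lift the cover of `V(f)`
  let U := FEt.puncturedSpec A
  let q := hyp f
  haveI : IsAffine Y₀ := isAffine_of_isAffineHom y₀
  let C := Γ(Y₀, ⊤)
  let φ : (A ⧸ Ideal.span {f}) →+* C :=
    ((Scheme.ΓSpecIso (CommRingCat.of (A ⧸ Ideal.span {f}))).inv ≫ y₀.appTop).hom
  let eQ := (Scheme.ΓSpecIso (CommRingCat.of (A ⧸ Ideal.span {f}))).symm.commRingCatIsoToRingEquiv
  have hφf : φ.Finite := RingHom.finite_respectsIso.2 _ eQ (IsFinite.finite_app y₀ ⊤ (isAffineOpen_top _))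
  have hφe : φ.Etale := RingHom.Etale.respectsIso.2 _ eQ (by
    have := y₀.etale_appLE (isAffineOpen_top _) ((isAffineOpen_top _).preimage y₀) le_rfl
    rwa [← Scheme.Hom.app_eq_appLE] at this)
  letI := φ.toAlgebra
  haveI : Module.Finite (A ⧸ Ideal.span {f}) C := hφf
  haveI : Algebra.Etale (A ⧸ Ideal.span {f}) C := RingHom.etale_algebraMap.1 hφe
  obtain ⟨B, _, _, hBf, hBe, ⟨eB⟩⟩ := S0532.result A (Ideal.span {f}) C
  have hy₀ : y₀ = Y₀.isoSpec.hom ≫ Spec.map (CommRingCat.ofHom φ) := by
    rw [show CommRingCat.ofHom φ = (Scheme.ΓSpecIso _).inv ≫ y₀.appTop from rfl, Spec.map_comp, ← Category.assoc,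
      Scheme.isoSpec_hom, ← Scheme.toSpecΓ_naturality, Category.assoc, toSpecΓ_SpecMap_ΓSpecIso_inv, Category.comp_id]
  let yB : Spec (CommRingCat.of B) ⟶ Spec (CommRingCat.of A) := Spec.map (CommRingCat.ofHom (algebraMap A B))
  haveI : IsFinite yB := (IsFinite.SpecMap_iff _).2 (RingHom.finite_algebraMap.2 hBf)
  haveI : Etale yB := (HasRingHomProperty.Spec_iff (P := @Etale)).2 (RingHom.etale_algebraMap.2 hBe)
  let ψ : B →+* C := eB.toRingEquiv.toRingHom.comp Algebra.TensorProduct.includeRight.toRingHom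
  let u : Y₀ ⟶ Spec (CommRingCat.of B) := Y₀.isoSpec.hom ≫ Spec.map (CommRingCat.ofHom ψ)
  have H0 : IsPullback u y₀ yB q := by
    have h0 := (isPullback_SpecMap_of_isPushout _ _ _ _
      (CommRingCat.isPushout_tensorProduct A (A ⧸ Ideal.span {f}) B)).flip
    let eT : Spec (CommRingCat.of C) ≅ Spec (CommRingCat.of (TensorProduct A (A ⧸ Ideal.span {f}) B)) :=
      Scheme.Spec.mapIso eB.toRingEquiv.toCommRingCatIso.op
    refine h0.of_iso (Y₀.isoSpec ≪≫ eT).symm (Iso.refl _) (Iso.refl _) (Iso.refl _) ?_ ?_ (by simp [yB]) (by simp [q, hyp])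
    · rw [Iso.refl_hom, Category.comp_id, Iso.symm_hom, Iso.eq_inv_comp, Iso.trans_hom, Category.assoc]
      simp only [u, eT, Functor.mapIso_hom, Iso.op_hom, Scheme.Spec_map, Quiver.Hom.unop_op]
      rw [← Spec.map_comp]
      rfl
    · rw [Iso.refl_hom, Category.comp_id, Iso.symm_hom, Iso.eq_inv_comp, Iso.trans_hom, Category.assoc, hy₀]
      simp only [eT, Functor.mapIso_hom, Iso.op_hom, Scheme.Spec_map, Quiver.Hom.unop_op]
      rw [← Spec.map_comp]
      congr 2
      ext r
      exact eB.commutes _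
  -- the restriction of the lift
  let V' := pullback yB U.ι
  let h' : V' ⟶ (U : Scheme.{u}) := pullback.snd yB U.ι
  let m : P ⟶ V' := pullback.lift (b ≫ u) (a ≫ h) (by rw [Category.assoc, H0.w, H2.w])
  have H' : IsPullback m (b ≫ y₀) (str h') q := by
    have h3 : IsPullback m b (pullback.fst yB U.ι) u := by
      refine IsPullback.of_right (h₁₂ := h') (v₁₃ := U.ι) (h₂₂ := yB) ?_ (pullback.lift_fst _ _ _)
        (IsPullback.of_hasPullback yB U.ι).flip
      rw [show m ≫ h' = a ≫ h from pullback.lift_snd _ _ _, H0.w]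
      exact H2.flip
    have := h3.paste_vert H0
    rwa [pullback.condition] at this
  let θ : pullback (str h) q ≅ pullback (str h') q := H1.isoPullback.symm ≪≫ H'.isoPullback
  have hθ : θ.hom ≫ pullback.snd _ _ = pullback.snd _ _ := by
    simp only [θ, Iso.trans_hom, Iso.symm_hom, Category.assoc]
    rw [IsPullback.isoPullback_hom_snd, H1.isoPullback_inv_snd]
  obtain ⟨e, he⟩ := exists_ringEquiv (ix := Sum.inl 0) (iy := Sum.inl 1) (iz := Sum.inl 2) g f H hgm hgcov hdep h h' θ hθ
  -- the sections are étale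
  have hU := Hartogs.two_le_depth_stalk hdep
  let S := Spec (CommRingCat.of A)
  have hb : Function.Bijective ((pullback.fst yB U.ι).app (yB ⁻¹ᵁ ⊤)) :=
    bijective_app U.ι yB (IsPullback.of_hasPullback yB U.ι) (isAffineOpen_top S)
      (Hartogs.bijective_ι_app _ hU (isAffineOpen_top S))
  haveI : IsIso (pullback.fst yB U.ι).appTop := (ConcreteCategory.isIso_iff_bijective _).mpr hb
  let eS := (Scheme.ΓSpecIso (CommRingCat.of A)).symm.commRingCatIsoToRingEquiv
  have het' : (sect h').Etale := by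
    have h2 : yB.appTop.hom.Etale := by
      have := yB.etale_appLE (isAffineOpen_top S) ((isAffineOpen_top S).preimage yB) le_rfl
      rwa [← Scheme.Hom.app_eq_appLE] at this
    show ((Scheme.ΓSpecIso (CommRingCat.of A)).inv ≫ (pullback.snd yB U.ι ≫ U.ι).appTop).hom.Etale
    rw [← pullback.condition, Scheme.Hom.comp_appTop]
    exact RingHom.Etale.respectsIso.2 _ eS
      (RingHom.Etale.respectsIso.1 _ (asIso (pullback.fst yB U.ι).appTop).commRingCatIsoToRingEquiv h2)
  have het : (sect h).Etale := by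
    rw [show sect h = e.toRingHom.comp (sect h') from RingHom.ext fun r => (he r).symm]
    exact RingHom.Etale.respectsIso.1 _ e het'
  have het0 : (str h).appTop.hom.Etale := by
    have := RingHom.Etale.respectsIso.2 _ eS.symm het
    convert this using 1
    exact RingHom.ext fun r => congrArg _ (eS.apply_symm_apply r).symm
  haveI hπ := Pushforward.isFinite_fromNormalization h hU
  have key : ((str h).fromNormalization.app ⊤).hom.Etale :=
    Pushforward.etale_fromNormalization_app _ (isAffineOpen_top S)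
      (Pushforward.finite_app h hU (isAffineOpen_top S)) het0
  haveI : IsAffine (str h).normalization := isAffine_of_isAffineHom (str h).fromNormalization
  have hY : Etale (str h).fromNormalization := (HasRingHomProperty.iff_of_isAffine (P := @Etale)).mpr key
  obtain ⟨i, hi⟩ := Pushforward.exists_pullback_iso (U := U) h
  exact ⟨_, (str h).fromNormalization, hπ, hY, i, hi⟩

set_option maxHeartbeats 1600000 in
/-- The general case. -/
theorem exists_extension_of_hypersurface (hA : (3 : ℕ∞) ≤ _root_.LocCoh.depth A A) (f : A)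
    (hf : f ∈ IsLocalRing.maximalIdeal A) {V : Scheme.{u}} (h : V ⟶ (FEt.puncturedSpec A : Scheme.{u}))
    [IsFinite h] [Etale h] {P Y₀ : Scheme.{u}} (y₀ : Y₀ ⟶ Spec (CommRingCat.of (A ⧸ Ideal.span {f})))
    [IsFinite y₀] [Etale y₀] (a : P ⟶ V) (b : P ⟶ Y₀) (H1 : IsPullback a (b ≫ y₀) (str h) (hyp f))
    (H2 : IsPullback b (a ≫ h) (y₀ ≫ hyp f) (FEt.puncturedSpec A).ι) :
    ∃ (Y : Scheme.{u}) (y : Y ⟶ Spec (CommRingCat.of A)) (_ : IsFinite y) (_ : Etale y)
      (i : pullback y (FEt.puncturedSpec A).ι ≅ V), i.hom ≫ h = pullback.snd _ _ := by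
  let B := AdicCompletion (IsLocalRing.maximalIdeal A) A
  haveI : IsNoetherianRing B := Matlis6.isNoetherianRing_adicCompletion _
  haveI : Module.Flat A B := AdicCompletion.flat_of_isNoetherian _
  haveI : Module.FaithfullyFlat A B := Module.FaithfullyFlat.of_flat_of_isLocalHom
  have hmB : IsLocalRing.maximalIdeal B = (IsLocalRing.maximalIdeal A).map (algebraMap A B) :=
    AdicCompletion.maximalIdeal_eq_map
  let f' : B := algebraMap A B (f ^ 1)
  have hf' : f' ∈ IsLocalRing.maximalIdeal B := by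
    rw [hmB]; exact Ideal.mem_map_of_mem _ (Ideal.pow_mem_of_mem _ hf 1 one_pos)
  haveI : IsAdicComplete (Ideal.span {f'}) B := CAlgMisc1.isAdicComplete_of_le _ (IsLocalRing.maximalIdeal B)
    ((Ideal.span_singleton_le_iff_mem _).2 hf') (IsNoetherian.noetherian _) B
  have hB : (3 : ℕ∞) ≤ _root_.LocCoh.depth B B :=
    le_trans (le_trans hA le_self_add) CAlgH3.depth_add_depth_fibre_le_self
  let U := FEt.puncturedSpec A
  let U' := FEt.puncturedSpec B
  let gq : Spec (CommRingCat.of B) ⟶ Spec (CommRingCat.of A) := Spec.map (CommRingCat.ofHom (algebraMap A B))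
  haveI : Flat gq := (HasRingHomProperty.Spec_iff (P := @Flat)).2 (RingHom.flat_algebraMap_iff.2 inferInstance)
  haveI : Surjective gq := ⟨PrimeSpectrum.comap_surjective_of_faithfullyFlat⟩
  have hU' : gq ⁻¹ᵁ U = U' := by
    refine TopologicalSpace.Opens.ext (Set.ext fun p => not_congr ?_)
    show PrimeSpectrum.comap (algebraMap A B) p = IsLocalRing.closedPoint A ↔ p = IsLocalRing.closedPoint B
    refine ⟨fun hp => PrimeSpectrum.ext (le_antisymm (IsLocalRing.le_maximalIdeal p.2.ne_top) ?_), fun hp => ?_⟩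
    · show IsLocalRing.maximalIdeal B ≤ p.asIdeal
      rw [hmB, Ideal.map_le_iff_le_comap]
      exact (congrArg PrimeSpectrum.asIdeal hp).ge
    · subst hp; exact IsLocalRing.comap_closedPoint _
  obtain ⟨k, HU⟩ : ∃ k : (U' : Scheme.{u}) ⟶ U, IsPullback k U'.ι U.ι gq := by
    rw [← hU']; exact ⟨_, isPullback_morphismRestrict gq U⟩
  -- the closed subscheme of the completion
  have hle : Ideal.span {f} ≤ (I f B 1).comap (algebraMap A B) := by
    rw [I, pow_one, Ideal.span_le, Set.singleton_subset_iff, SetLike.mem_coe, Ideal.mem_comap]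
    exact Ideal.mem_span_singleton_self _
  let jQ : Spec (CommRingCat.of (B ⧸ Ideal.span {f'})) ⟶ Spec (CommRingCat.of (A ⧸ Ideal.span {f})) :=
    Spec.map (CommRingCat.ofHom (Ideal.quotientMap (I f B 1) (algebraMap A B) hle))
  have HQ : IsPullback (hyp f') jQ gq (hyp f) :=
    isPullback_SpecMap_of_isPushout _ _ _ _ (isPushout_quotient f hle)
  -- base change of the data
  let hh : pullback h k ⟶ (U' : Scheme.{u}) := pullback.snd h k
  have HV : IsPullback (pullback.fst h k) (str hh) (str h) gq := (IsPullback.of_hasPullback h k).paste_vert HU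
  let y₁ : pullback y₀ jQ ⟶ Spec (CommRingCat.of (B ⧸ Ideal.span {f'})) := pullback.snd y₀ jQ
  let P' := pullback (b ≫ y₀) jQ
  let pP : P' ⟶ P := pullback.fst (b ≫ y₀) jQ
  let sP : P' ⟶ Spec (CommRingCat.of (B ⧸ Ideal.span {f'})) := pullback.snd (b ≫ y₀) jQ
  have HPq : IsPullback pP (sP ≫ hyp f') ((b ≫ y₀) ≫ hyp f) gq :=
    (IsPullback.of_hasPullback (b ≫ y₀) jQ).paste_vert HQ.flip
  let a' : P' ⟶ pullback h k := HV.lift (pP ≫ a) (sP ≫ hyp f') (by rw [Category.assoc, H1.w]; exact HPq.w)
  let b' : P' ⟶ pullback y₀ jQ := pullback.lift (pP ≫ b) sP (by rw [Category.assoc]; exact pullback.condition)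
  have hb' : b' ≫ y₁ = sP := pullback.lift_snd _ _ _
  have hw : pP ≫ b ≫ y₀ = sP ≫ jQ := pullback.condition
  have H1' : IsPullback a' (b' ≫ y₁) (str hh) (hyp f') := by
    have ha : IsPullback pP a' a (pullback.fst h k) := by
      refine IsPullback.of_bot ?_ (HV.lift_fst _ _ _).symm HV
      rw [HV.lift_snd, H1.w]
      exact HPq
    have hs := ha.flip.paste_vert H1
    rw [hw, HV.w] at hs
    rw [hb']
    exact IsPullback.of_bot hs (HV.lift_snd _ _ _) HQ
  have H2' : IsPullback b' (a' ≫ hh) (y₁ ≫ hyp f') U'.ι := by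
    have hb : IsPullback pP b' b (pullback.fst y₀ jQ) := by
      refine IsPullback.of_bot ?_ (pullback.lift_fst _ _ _).symm (IsPullback.of_hasPullback y₀ jQ)
      rw [hb']
      exact IsPullback.of_hasPullback (b ≫ y₀) jQ
    have hs := hb.flip.paste_vert H2
    have e1 : pP ≫ a ≫ h = (a' ≫ hh) ≫ k := by
      rw [← Category.assoc pP, ← HV.lift_fst (pP ≫ a) (sP ≫ hyp f'), Category.assoc, Category.assoc,
        pullback.condition]
    have e2 : pullback.fst y₀ jQ ≫ y₀ ≫ hyp f = (y₁ ≫ hyp f') ≫ gq := by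
      rw [← Category.assoc, pullback.condition, Category.assoc, Category.assoc, HQ.w]
    rw [e1, e2] at hs
    refine IsPullback.of_bot hs ?_ HU.flip
    rw [← Category.assoc, hb', Category.assoc, HV.lift_snd]
  obtain ⟨Y', y', hy1, hy2, i', hi'⟩ := exists_extension_of_complete hB f' hh y₁ a' b' H1' H2'
  -- descend
  have HY : IsPullback (pullback.fst y' U'.ι) (pullback.snd y' U'.ι ≫ k) (y' ≫ gq) U.ι :=
    (IsPullback.of_hasPullback y' U'.ι).paste_vert HU.flip
  let w : pullback (y' ≫ gq) U.ι ⟶ V := HY.isoPullback.inv ≫ i'.hom ≫ pullback.fst h k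
  have Hw : IsPullback (pullback.fst (y' ≫ gq) U.ι ≫ y') w gq (h ≫ U.ι) := by
    refine HV.flip.of_iso (i'.symm ≪≫ HY.isoPullback) (Iso.refl _) (Iso.refl _) (Iso.refl _) ?_ ?_ (by simp) (by simp [str, U])
    · rw [Iso.refl_hom, Category.comp_id, Iso.trans_hom, Iso.symm_hom, Category.assoc, Iso.eq_inv_comp,
        HY.isoPullback_hom_fst_assoc, pullback.condition, ← hi', Category.assoc]
    · simp [w]
  obtain ⟨Y, y, hy, hy', i, hi⟩ := PurityDescent.exists_extension U.ι
    (fun W hW => Hartogs.bijective_ι_app U (Hartogs.two_le_depth_stalk (le_trans (by norm_num) hA)) hW)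
    gq h y' w Hw
  exact ⟨Y, y, hy, hy', i, hi⟩

end Groth.Agent.FEtFF.Hypersurface
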