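import Groth.Agent.FEtFF.FormalLimit

/-!
# Finiteness of the first Čech cohomology of a locally free algebra on a punctured spectrum

If the punctured spectrum of `R` has vanishing first Čech cohomology (depth at least three) then for a
finite `R`-algebra which is projective on the punctured spectrum the cocycles modulo coboundaries
form a Noetherian module.
-/

set_option autoImplicit false
set_option linter.style.haveILetI false
universe u

namespace Groth.Agent.FEtFF.FormalLimit

open Cech

variable {A : Type u} [CommRing A] {R : Type u} [CommRing R] [Algebra A R]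
  {M : Type u} [CommRing M] [Algebra A M] [Algebra R M] [IsScalarTower A R M]

instance isLocalizedModule_locR (c : A) :
    IsLocalizedModule (Submonoid.powers (algebraMap A R c)) (IsScalarTower.toAlgHom R M (Loc M c)).toLinearMap := by
  rw [isLocalizedModule_iff_isLocalization]
  show IsLocalization (Submonoid.map (algebraMap R M) (Submonoid.powers (algebraMap A R c))) _
  rw [Submonoid.map_powers, ← IsScalarTower.algebraMap_apply]
  infer_instance

theorem resA_smulR {a c : A} (h : a ∣ c) (r : R) (y : Loc M a) : resA M h (r • y) = r • resA M h y := by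
  rw [Algebra.smul_def r y, map_mul, IsScalarTower.algebraMap_apply R M (Loc M a), resA_algebraMap,
    ← IsScalarTower.algebraMap_apply, ← Algebra.smul_def]

theorem isUnit_powR {a c : A} (h : a ∣ c) (k : Submonoid.powers (algebraMap A R a)) :
    IsUnit (algebraMap R (Module.End R (Loc M c)) k) := by
  obtain ⟨_, n, rfl⟩ := k
  rw [Module.End.isUnit_iff]
  have hu : IsUnit (algebraMap R (Loc M c) (algebraMap A R a ^ n)) := by
    rw [map_pow, IsScalarTower.algebraMap_apply R M (Loc M c), ← IsScalarTower.algebraMap_apply A R M]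
    exact (isUnit_of_dvd_unit (map_dvd _ (map_dvd (algebraMap A M) h)) (IsLocalization.Away.algebraMap_isUnit _)).pow n
  show Function.Bijective fun y : Loc M c => algebraMap A R a ^ n • y
  simp only [Algebra.smul_def]
  exact hu.unit.mulLeft_bijective

theorem smul_injectiveR {a c : A} (h : a ∣ c) (n : ℕ) {y y' : Loc M c}
    (e : algebraMap A R a ^ n • y = algebraMap A R a ^ n • y') : y = y' :=
  ((Module.End.isUnit_iff _).1 (isUnit_powR h ⟨_, n, rfl⟩)).1 e

/-- The map of localizations induced by a functional. -/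
noncomputable def mapR (φ : M →ₗ[R] R) (c : A) : Loc M c →ₗ[R] Loc R c :=
  IsLocalizedModule.map (Submonoid.powers (algebraMap A R c)) (IsScalarTower.toAlgHom R M (Loc M c)).toLinearMap
    (IsScalarTower.toAlgHom R R (Loc R c)).toLinearMap φ

@[simp] theorem mapR_algebraMap (φ : M →ₗ[R] R) (c : A) (x : M) :
    mapR φ c (algebraMap M (Loc M c) x) = algebraMap R (Loc R c) (φ x) :=
  IsLocalizedModule.map_apply _ _ _ φ x

theorem resA_mapR (φ : M →ₗ[R] R) {a c : A} (h : a ∣ c) (y : Loc M a) :
    resA R h (mapR φ a y) = mapR φ c (resA M h y) := by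
  let r₁ : Loc M a →ₗ[R] Loc R c :=
    { toFun := fun y => resA R h (mapR φ a y)
      map_add' := fun y z => by rw [map_add, map_add]
      map_smul' := fun r y => by rw [map_smul, resA_smulR, RingHom.id_apply] }
  let r₂ : Loc M a →ₗ[R] Loc R c :=
    { toFun := fun y => mapR φ c (resA M h y)
      map_add' := fun y z => by rw [map_add, map_add]
      map_smul' := fun r y => by rw [resA_smulR, map_smul, RingHom.id_apply] }
  exact LinearMap.congr_fun (IsLocalizedModule.ext (Submonoid.powers (algebraMap A R a))
    (IsScalarTower.toAlgHom R M (Loc M a)).toLinearMap (isUnit_powR h) (j := r₁) (k := r₂)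
    (LinearMap.ext fun x => by simp [r₁, r₂])) y

theorem exists_pow_smul {c : A} (y : Loc M c) :
    ∃ (n : ℕ) (x : M), algebraMap A R c ^ n • y = algebraMap M (Loc M c) x := by
  obtain ⟨n, x, h⟩ := exists_pow_mul y
  refine ⟨n, x, ?_⟩
  rw [← h, Algebra.smul_def, IsScalarTower.algebraMap_apply R M (Loc M c), map_pow,
    ← IsScalarTower.algebraMap_apply A R M, map_pow]

variable {ι : Type} [Finite ι] (g : ι → A) [IsNoetherianRing A] [Module.Finite A R] [Module.Finite R M]

include A in
theorem exists_coords_locR (i : ι) [Module.Flat R (Loc M (g i))] :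
    ∃ (d : ℕ) (φ : Fin d → (M →ₗ[R] R)) (w : Fin d → Loc M (g i)),
      ∀ x, algebraMap M (Loc M (g i)) x = ∑ k, φ k x • w k := by
  haveI : IsNoetherianRing R := IsNoetherianRing.of_finite A R
  haveI : Module.FinitePresentation R M := Module.finitePresentation_of_finite R M
  let G := algebraMap A R (g i)
  let S := Submonoid.powers G
  let E := LocalizedModule S M
  let ρ := LocalizedModule.mkLinearMap S M
  let e := IsLocalizedModule.linearEquiv S ρ (IsScalarTower.toAlgHom R M (Loc M (g i))).toLinearMap
  haveI : Module.Finite (Localization.Away G) E := Module.Finite.of_isLocalizedModule S ρ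
  haveI : Module.Flat R E := Module.Flat.of_linearEquiv e
  haveI : Module.Flat (Localization.Away G) E :=
    (Module.flat_iff_of_isLocalization (Localization.Away G) S E).mpr inferInstance
  haveI : Module.FinitePresentation (Localization.Away G) E := Module.finitePresentation_of_finite _ _
  haveI : Module.Projective (Localization.Away G) E := Module.Flat.projective_of_finitePresentation
  obtain ⟨d, φ, w, hw⟩ := exists_coords G (E := E) ρ
  refine ⟨d, φ, fun k => e (w k), fun x => ?_⟩
  have := congrArg e (hw x)
  rw [map_sum, IsLocalizedModule.linearEquiv_apply] at this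
  simp only [map_smul] at this
  exact this

set_option maxHeartbeats 800000 in
theorem isNoetherian_cocycles_quotient [∀ i, Module.Flat R (Loc M (g i))]
    (hglue : ∀ d : ∀ i, Loc R (g i), dd g R d = 0 → ∃ e, ∀ i, algebraMap R _ e = d i)
    (hcob : ∀ c ∈ cocycles g R, ∃ d, dd g R d = c) :
    IsNoetherian A ↥((cocycles g M).map (LinearMap.range (dd g M)).mkQ) := by
  classical
  haveI := Fintype.ofFinite ι
  choose d φ w hw using fun i => exists_coords_locR (R := R) (M := M) g i
  let G : ι → R := fun i => algebraMap A R (g i)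
  -- coordinates `Φ` at every principal open
  let P := Σ i, Fin (d i)
  let Φ : ∀ c : A, P → (Loc M c →ₗ[R] Loc R c) := fun c p => mapR (φ p.1 p.2) c
  let W : ∀ i, P → Loc M (g i) := fun i p => if h : p.1 = i then w i (h ▸ p.2) else 0
  have hW : ∀ i x, algebraMap M (Loc M (g i)) x = ∑ p : P, φ p.1 p.2 x • W i p := fun i x => by
    rw [hw, Fintype.sum_sigma, Finset.sum_eq_single i]
    · exact Finset.sum_congr rfl fun k _ => by simp only [W, dif_pos]
    · intro j _ hj
      exact Finset.sum_eq_zero fun k _ => by simp only [W, dif_neg hj, smul_zero]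
    · exact fun h => absurd (Finset.mem_univ i) h
  -- clearing the denominators of the projectors
  have hclear : ∀ i, ∃ (N : ℕ) (b : P → P → R), ∀ p q,
      G i ^ N • Φ (g i) p (W i q) = algebraMap R _ (b p q) := fun i => by
    choose n r hr using fun pq : P × P => exists_pow_smul (R := R) (M := R) (Φ (g i) pq.1 (W i pq.2))
    let N := Finset.univ.sum n
    refine ⟨N, fun p q => G i ^ (N - n (p, q)) * r (p, q), fun p q => ?_⟩
    have hle : n (p, q) ≤ N := Finset.single_le_sum (fun _ _ => Nat.zero_le _) (Finset.mem_univ (p, q))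
    rw [show G i ^ N = G i ^ (N - n (p, q)) * G i ^ n (p, q) by rw [← pow_add, Nat.sub_add_cancel hle],
      ← smul_smul, hr (p, q), Algebra.smul_def, ← map_mul]
  choose N b hb using hclear
  obtain ⟨gen, hgen⟩ := Module.Finite.fg_top (R := R) (M := M)
  have hkill : ∀ i, ∃ K, ∀ x ∈ gen, ∀ p, G i ^ K * (G i ^ N i * φ p.1 p.2 x - ∑ q, b i p q * φ q.1 q.2 x) = 0 := fun i => by
    have h0 : ∀ x p, algebraMap R (Loc R (g i)) (G i ^ N i * φ p.1 p.2 x - ∑ q, b i p q * φ q.1 q.2 x) = 0 := fun x p => by
      rw [map_sub, map_sum, sub_eq_zero, map_mul, ← Algebra.smul_def, ← mapR_algebraMap (φ p.1 p.2) (g i) x, hW,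
        map_sum, Finset.smul_sum]
      refine Finset.sum_congr rfl fun q _ => ?_
      rw [map_smul, smul_comm, hb, Algebra.smul_def, ← map_mul, mul_comm]
    choose k hk using fun xp : gen × P => exists_pow_of_eq_zero (h0 xp.1.1 xp.2)
    refine ⟨Finset.univ.sum k, fun x hx p => ?_⟩
    rw [← Nat.sub_add_cancel (Finset.single_le_sum (f := k) (fun _ _ => Nat.zero_le _) (Finset.mem_univ (⟨x, hx⟩, p))),
      pow_add, mul_assoc]
    exact mul_eq_zero_of_right _ (hk (⟨x, hx⟩, p))
  choose K hK using hkill
  -- the equations `ψ` of the image of `Φ`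
  let Ψ : ∀ (c : A), ι → P → (P → Loc R c) →ₗ[R] Loc R c := fun c i p =>
    G i ^ K i • (G i ^ N i • LinearMap.proj p - ∑ q, b i p q • LinearMap.proj q)
  have hΨ : ∀ c i p v, Ψ c i p v = G i ^ K i • (G i ^ N i • v p - ∑ q, b i p q • v q) := fun c i p v => by
    simp [Ψ, LinearMap.sum_apply]
  have hΨres : ∀ {a c : A} (h : a ∣ c) i p (v : P → Loc R a),
      resA R h (Ψ a i p v) = Ψ c i p fun q => resA R h (v q) := fun h i p v => by
    simp only [hΨ, resA_smulR, map_sub, map_sum]
  have hΨΦ : ∀ c i p (y : Loc M c), Ψ c i p (fun q => Φ c q y) = 0 := fun c i p y => by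
    refine LinearMap.congr_fun (IsLocalizedModule.ext (Submonoid.powers (algebraMap A R c))
      (IsScalarTower.toAlgHom R M (Loc M c)).toLinearMap (isUnit_powR (dvd_refl c))
      (j := (Ψ c i p).comp (LinearMap.pi fun q => Φ c q)) (k := 0) ?_) y
    refine LinearMap.ext_on hgen fun x hx => ?_
    have := congrArg (algebraMap R (Loc R c)) (hK i x hx p)
    simp only [LinearMap.coe_comp, Function.comp_apply, AlgHom.toLinearMap_apply, IsScalarTower.coe_toAlgHom',
      LinearMap.zero_apply, LinearMap.pi_apply]
    rw [hΨ]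
    simp only [Φ, LinearMap.pi_apply, mapR_algebraMap, Algebra.smul_def, ← map_mul, ← map_sum, ← map_sub]
    rw [this, map_zero]
  have hΦinj : ∀ i j (y : Loc M (g i * g j)), (∀ p, Φ _ p y = 0) → y = 0 := fun i j y hy => by
    obtain ⟨n, x, hx⟩ := exists_pow_smul (R := R) y
    refine smul_injectiveR (R := R) (dvd_refl (g i * g j)) n ?_
    rw [smul_zero, hx, ← resA_algebraMap (dvd_mul_right (g i) (g j)) x, hW, map_sum]
    refine Finset.sum_eq_zero fun p _ => ?_
    have := congrArg (Φ (g i * g j) p) hx
    rw [map_smul, hy, smul_zero] at this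
    rw [resA_smulR]
    obtain ⟨m, hm⟩ := exists_pow_of_eq_zero ((mapR_algebraMap _ _ _).symm.trans this.symm)
    refine smul_injectiveR (R := R) (dvd_refl (g i * g j)) m ?_
    rw [smul_zero, smul_smul]
    exact smul_eq_zero_of_left hm _
  -- the obstruction
  let Z := cocycles g M
  let B := LinearMap.range (dd g M)
  let T : Submodule A (↥Z × (ι → P → R)) :=
    { carrier := {t | ∃ D : ∀ i, P → Loc R (g i), (∀ p, dd g R (fun i => D i p) = fun i j => Φ _ p (t.1.1 i j)) ∧
        ∀ i p j, algebraMap R _ (t.2 i p) = Ψ (g j) i p (D j)}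
      add_mem' := by
        rintro s t ⟨D, h1, h2⟩ ⟨D', h1', h2'⟩
        refine ⟨D + D', fun p => ?_, fun i p j => ?_⟩
        · rw [show (fun i => (D + D') i p) = (fun i => D i p) + fun i => D' i p from rfl, map_add, h1, h1']
          funext i j
          simp
        · simp [h2, h2']
      zero_mem' := ⟨0, fun p => by
        rw [show (fun i => (0 : ∀ i, P → Loc R (g i)) i p) = 0 from rfl, map_zero]
        funext i j; simp, fun i p j => by simp⟩
      smul_mem' := by
        rintro r t ⟨D, h1, h2⟩
        refine ⟨r • D, fun p => ?_, fun i p j => ?_⟩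
        · rw [show (fun i => (r • D) i p) = r • fun i => D i p from rfl, map_smul, h1]
          funext i j
          simp [LinearMap.map_smul_of_tower]
        · simp only [Prod.smul_snd, Pi.smul_apply, LinearMap.map_smul_of_tower, ← h2]
          rw [Algebra.smul_def r (t.2 i p), map_mul, Algebra.smul_def r, ← IsScalarTower.algebraMap_apply] }
  have hTex : ∀ c : Z, ∃ e, (c, e) ∈ T := fun c => by
    choose D hD using fun p => hcob (fun i j => Φ _ p (c.1 i j)) (fun i j k => by
      simp only [Φ, resA_mapR, ← map_add, c.2 i j k])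
    have hcompat : ∀ i p, dd g R (fun j => Ψ (g j) i p fun q => D q j) = 0 := fun i p => by
      funext j k
      show resA R _ _ - resA R _ _ = 0
      rw [hΨres, hΨres, ← map_sub]
      convert hΨΦ (g j * g k) i p (c.1 j k) using 2
      funext q
      exact congrFun (congrFun (hD q) j) k
    choose e he using fun i p => hglue _ (hcompat i p)
    exact ⟨e, fun i q => D q i, fun p => hD p, fun i p j => he i p j⟩
  have hT0 : ∀ c : Z, (c, (0 : ι → P → R)) ∈ T → c.1 ∈ B := by
    rintro c ⟨D, h1, h2⟩
    have hm : ∀ i, ∃ m : Loc M (g i), ∀ p, Φ _ p m = D i p := fun i => by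
      choose n r hr using fun q => exists_pow_smul (R := R) (M := R) (D i q)
      let n' := Finset.univ.sum n
      have hr' : ∀ q, G i ^ n' • D i q = algebraMap R _ (G i ^ (n' - n q) * r q) := fun q => by
        rw [show G i ^ n' = G i ^ (n' - n q) * G i ^ n q by
          rw [← pow_add, Nat.sub_add_cancel (Finset.single_le_sum (f := n) (fun _ _ => Nat.zero_le _) (Finset.mem_univ q))],
          ← smul_smul, hr q, Algebra.smul_def, ← map_mul]
      obtain ⟨m, hm⟩ := ((Module.End.isUnit_iff _).1 (isUnit_powR (R := R) (M := M) (dvd_refl (g i))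
        ⟨G i ^ n', n', rfl⟩)).2 (∑ q, (G i ^ (n' - n q) * r q) • W i q)
      replace hm : G i ^ n' • m = ∑ q, (G i ^ (n' - n q) * r q) • W i q := hm
      refine ⟨m, fun p => smul_injectiveR (R := R) (dvd_refl (g i)) (n' + N i + K i) ?_⟩
      have h3 : Ψ (g i) i p (D i) = 0 := by rw [← h2 i p i]; simp
      rw [hΨ, smul_sub, sub_eq_zero] at h3
      calc G i ^ (n' + N i + K i) • Φ (g i) p m
          = G i ^ (N i + K i) • Φ (g i) p (G i ^ n' • m) := by rw [map_smul, smul_smul, ← pow_add]; congr 2; omega
        _ = ∑ q, (G i ^ (n' - n q) * r q) • G i ^ K i • algebraMap R (Loc R (g i)) (b i p q) := by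
          rw [hm, map_sum, Finset.smul_sum]
          refine Finset.sum_congr rfl fun q _ => ?_
          rw [map_smul, ← hb, smul_smul, smul_smul, smul_smul]
          congr 1
          ring
        _ = G i ^ n' • G i ^ K i • ∑ q, b i p q • D i q := by
          rw [Finset.smul_sum, Finset.smul_sum]
          refine Finset.sum_congr rfl fun q _ => ?_
          rw [smul_comm (G i ^ n'), smul_comm (G i ^ n') (b i p q), hr', smul_comm (G i ^ (n' - n q) * r q),
            Algebra.smul_def (b i p q), Algebra.smul_def (G i ^ (n' - n q) * r q) (algebraMap R _ (b i p q)),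
            mul_comm]
        _ = _ := by rw [← h3, smul_smul, smul_smul, ← pow_add, ← pow_add]; congr 2; omega
    choose m hm using hm
    refine ⟨m, funext fun i => funext fun j => sub_eq_zero.1 (hΦinj i j _ fun p => ?_)⟩
    rw [map_sub, sub_eq_zero, ← congrFun (congrFun (h1 p) i) j]
    simp only [dd, LinearMap.coe_mk, AddHom.coe_mk, map_sub, Φ, ← resA_mapR]
    rw [← hm i p, ← hm j p]
  -- finiteness
  obtain ⟨E, hE⟩ := IsNoetherian.noetherian (T.map (LinearMap.snd A ↥Z (ι → P → R)))
  have hE' : ∀ e : E, ∃ c : Z, (c, e.1) ∈ T := fun e => by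
    obtain ⟨⟨c, e'⟩, hc, he : e' = e.1⟩ := hE.le (Submodule.subset_span e.2)
    exact ⟨c, he ▸ hc⟩
  choose cE hcE using hE'
  haveI : Module.Finite A ↥(Z.map B.mkQ) := Module.Finite.iff_fg.2 ⟨Finset.univ.image fun e => B.mkQ (cE e).1, by
    rw [Finset.coe_image, Finset.coe_univ, Set.image_univ]
    refine le_antisymm (Submodule.span_le.2 ?_) ?_
    · rintro _ ⟨e, rfl⟩
      exact ⟨_, (cE e).2, rfl⟩
    · rintro _ ⟨c, hc, rfl⟩
      obtain ⟨e, he⟩ := hTex ⟨c, hc⟩
      have : e ∈ Submodule.span A (Set.range fun x : E => x.1) := by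
        simp only [Subtype.range_coe_subtype, Finset.setOfPred_mem]; exact hE.ge ⟨_, he, rfl⟩
      obtain ⟨a, ha⟩ := (Submodule.mem_span_range_iff_exists_fun A).1 this
      have h2 : ((⟨c, hc⟩ : Z) - ∑ x, a x • cE x, (0 : ι → P → R)) ∈ T := by
        convert T.sub_mem he (T.sum_mem (t := (Finset.univ : Finset E)) (f := fun x => a x • (cE x, x.1))
          fun x _ => T.smul_mem (a x) (hcE x)) using 1
        refine Prod.ext ?_ ?_
        · simp [Prod.fst_sum]
        · simp only [Prod.snd_sub, Prod.snd_sum, Prod.smul_snd, ha, sub_self]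
      have h3 := hT0 _ h2
      simp only [AddSubgroupClass.coe_sub, Submodule.coe_sum, SetLike.val_smul] at h3
      have h4 : B.mkQ c = ∑ x, a x • B.mkQ (cE x).1 := by
        simp only [← map_smul, ← map_sum]
        exact (Submodule.Quotient.eq B).2 h3
      rw [h4]
      exact Submodule.sum_mem _ fun x _ => Submodule.smul_mem _ _ (Submodule.subset_span ⟨x, rfl⟩)⟩
  infer_instance

end Groth.Agent.FEtFF.FormalLimit
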