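import Groth.Agent.FEtFF.FormalCoh
import Groth.Agent.FEtFF.CechFinite

/-!
# Finiteness of Čech cohomology of a locally free algebra from that of the base
-/

set_option autoImplicit false
set_option linter.style.haveILetI false
universe u

namespace Groth.Agent.FEtFF.FormalLimit

open Cech

variable {A : Type u} [CommRing A] {R : Type u} [CommRing R] [Algebra A R]
  {M : Type u} [CommRing M] [Algebra A M] [Algebra R M] [IsScalarTower A R M]
  {ι : Type} [Finite ι] (g : ι → A) [IsNoetherianRing A] [Module.Finite A R] [Module.Finite R M]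

set_option maxHeartbeats 1600000 in
/-- The cocycles modulo coboundaries of a locally free algebra are finite when those of the base and the
sections of the base are. -/
theorem isNoetherian_cocycles_quotient' [∀ i, Module.Flat R (Loc M (g i))]
    (hker : Module.Finite A ↥(LinearMap.ker (dd g R)))
    (hH : Module.Finite A ↥((cocycles g R).map (LinearMap.range (dd g R)).mkQ)) :
    IsNoetherian A ↥((cocycles g M).map (LinearMap.range (dd g M)).mkQ) := by
  classical
  haveI := Fintype.ofFinite ι
  choose d φ w hw using fun i => exists_coords_locR (R := R) (M := M) g i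
  let G : ι → R := fun i => algebraMap A R (g i)
  -- coordinates `Φ` at every principal open
  let P := Σ i, Fin (d i)
  let Φ : ∀ c : A, P → (Loc M c →ₗ[R] Loc R c) := fun c p => mapR (φ p.1 p.2) c
  let W : ∀ i, P → Loc M (g i) := fun i p => if h : p.1 = i then w i (h ▸ p.2) else 0
  have hW : ∀ i x, algebraMap M (Loc M (g i)) x = ∑ p : P, φ p.1 p.2 x • W i p := fun i x => by
    rw [hw, Fintype.sum_sigma, Finset.sum_eq_single i]
    · exact Finset.sum_congr rfl fun k _ => by simp only [W, dif_pos]
    · intro j _ hj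
      exact Finset.sum_eq_zero fun k _ => by simp only [W, dif_neg hj, smul_zero]
    · exact fun h => absurd (Finset.mem_univ i) h
  -- clearing the denominators of the projectors
  have hclear : ∀ i, ∃ (N : ℕ) (b : P → P → R), ∀ p q,
      G i ^ N • Φ (g i) p (W i q) = algebraMap R _ (b p q) := fun i => by
    choose n r hr using fun pq : P × P => exists_pow_smul (R := R) (M := R) (Φ (g i) pq.1 (W i pq.2))
    let N := Finset.univ.sum n
    refine ⟨N, fun p q => G i ^ (N - n (p, q)) * r (p, q), fun p q => ?_⟩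
    have hle : n (p, q) ≤ N := Finset.single_le_sum (fun _ _ => Nat.zero_le _) (Finset.mem_univ (p, q))
    rw [show G i ^ N = G i ^ (N - n (p, q)) * G i ^ n (p, q) by rw [← pow_add, Nat.sub_add_cancel hle],
      ← smul_smul, hr (p, q), Algebra.smul_def, ← map_mul]
  choose N b hb using hclear
  obtain ⟨gen, hgen⟩ := Module.Finite.fg_top (R := R) (M := M)
  have hkill : ∀ i, ∃ K, ∀ x ∈ gen, ∀ p, G i ^ K * (G i ^ N i * φ p.1 p.2 x - ∑ q, b i p q * φ q.1 q.2 x) = 0 := fun i => by
    have h0 : ∀ x p, algebraMap R (Loc R (g i)) (G i ^ N i * φ p.1 p.2 x - ∑ q, b i p q * φ q.1 q.2 x) = 0 := fun x p => by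
      rw [map_sub, map_sum, sub_eq_zero, map_mul, ← Algebra.smul_def, ← mapR_algebraMap (φ p.1 p.2) (g i) x, hW,
        map_sum, Finset.smul_sum]
      refine Finset.sum_congr rfl fun q _ => ?_
      rw [map_smul, smul_comm, hb, Algebra.smul_def, ← map_mul, mul_comm]
    choose k hk using fun xp : gen × P => exists_pow_of_eq_zero (h0 xp.1.1 xp.2)
    refine ⟨Finset.univ.sum k, fun x hx p => ?_⟩
    rw [← Nat.sub_add_cancel (Finset.single_le_sum (f := k) (fun _ _ => Nat.zero_le _) (Finset.mem_univ (⟨x, hx⟩, p))),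
      pow_add, mul_assoc]
    exact mul_eq_zero_of_right _ (hk (⟨x, hx⟩, p))
  choose K hK using hkill
  -- the equations `ψ` of the image of `Φ`
  let Ψ : ∀ (c : A), ι → P → (P → Loc R c) →ₗ[R] Loc R c := fun c i p =>
    G i ^ K i • (G i ^ N i • LinearMap.proj p - ∑ q, b i p q • LinearMap.proj q)
  have hΨ : ∀ c i p v, Ψ c i p v = G i ^ K i • (G i ^ N i • v p - ∑ q, b i p q • v q) := fun c i p v => by
    simp [Ψ, LinearMap.sum_apply]
  have hΨres : ∀ {a c : A} (h : a ∣ c) i p (v : P → Loc R a),
      resA R h (Ψ a i p v) = Ψ c i p fun q => resA R h (v q) := fun h i p v => by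
    simp only [hΨ, resA_smulR, map_sub, map_sum]
  have hΨΦ : ∀ c i p (y : Loc M c), Ψ c i p (fun q => Φ c q y) = 0 := fun c i p y => by
    refine LinearMap.congr_fun (IsLocalizedModule.ext (Submonoid.powers (algebraMap A R c))
      (IsScalarTower.toAlgHom R M (Loc M c)).toLinearMap (isUnit_powR (dvd_refl c))
      (j := (Ψ c i p).comp (LinearMap.pi fun q => Φ c q)) (k := 0) ?_) y
    refine LinearMap.ext_on hgen fun x hx => ?_
    have := congrArg (algebraMap R (Loc R c)) (hK i x hx p)
    simp only [LinearMap.coe_comp, Function.comp_apply, AlgHom.toLinearMap_apply, IsScalarTower.coe_toAlgHom',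
      LinearMap.zero_apply, LinearMap.pi_apply]
    rw [hΨ]
    simp only [Φ, LinearMap.pi_apply, mapR_algebraMap, Algebra.smul_def, ← map_mul, ← map_sum, ← map_sub]
    rw [this, map_zero]
  have hΦinj : ∀ i j (y : Loc M (g i * g j)), (∀ p, Φ _ p y = 0) → y = 0 := fun i j y hy => by
    obtain ⟨n, x, hx⟩ := exists_pow_smul (R := R) y
    refine smul_injectiveR (R := R) (dvd_refl (g i * g j)) n ?_
    rw [smul_zero, hx, ← resA_algebraMap (dvd_mul_right (g i) (g j)) x, hW, map_sum]
    refine Finset.sum_eq_zero fun p _ => ?_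
    have := congrArg (Φ (g i * g j) p) hx
    rw [map_smul, hy, smul_zero] at this
    rw [resA_smulR]
    obtain ⟨m, hm⟩ := exists_pow_of_eq_zero ((mapR_algebraMap _ _ _).symm.trans this.symm)
    refine smul_injectiveR (R := R) (dvd_refl (g i * g j)) m ?_
    rw [smul_zero, smul_smul]
    exact smul_eq_zero_of_left hm _
  -- the obstruction
  let Z := cocycles g M
  let B := LinearMap.range (dd g M)
  let KS := LinearMap.ker (dd g R)
  let T : Submodule A (↥Z × (ι → P → ↥KS)) :=
    { carrier := {t | ∃ D : ∀ i, P → Loc R (g i), (∀ p, dd g R (fun i => D i p) = fun i j => Φ _ p (t.1.1 i j)) ∧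
        ∀ i p j, (t.2 i p).1 j = Ψ (g j) i p (D j)}
      add_mem' := by
        rintro s t ⟨D, h1, h2⟩ ⟨D', h1', h2'⟩
        refine ⟨D + D', fun p => ?_, fun i p j => ?_⟩
        · rw [show (fun i => (D + D') i p) = (fun i => D i p) + fun i => D' i p from rfl, map_add, h1, h1']
          funext i j
          simp
        · simp [h2, h2']
      zero_mem' := ⟨0, fun p => by
        rw [show (fun i => (0 : ∀ i, P → Loc R (g i)) i p) = 0 from rfl, map_zero]
        funext i j; simp, fun i p j => by simp⟩
      smul_mem' := by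
        rintro r t ⟨D, h1, h2⟩
        refine ⟨r • D, fun p => ?_, fun i p j => ?_⟩
        · rw [show (fun i => (r • D) i p) = r • fun i => D i p from rfl, map_smul, h1]
          funext i j
          simp [LinearMap.map_smul_of_tower]
        · show r • (t.2 i p).1 j = Ψ (g j) i p (r • D j)
          rw [h2, LinearMap.map_smul_of_tower] }
  have hT0 : ∀ c : Z, (c, (0 : ι → P → ↥KS)) ∈ T → c.1 ∈ B := by
    rintro c ⟨D, h1, h2⟩
    have hm : ∀ i, ∃ m : Loc M (g i), ∀ p, Φ _ p m = D i p := fun i => by
      choose n r hr using fun q => exists_pow_smul (R := R) (M := R) (D i q)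
      let n' := Finset.univ.sum n
      have hr' : ∀ q, G i ^ n' • D i q = algebraMap R _ (G i ^ (n' - n q) * r q) := fun q => by
        rw [show G i ^ n' = G i ^ (n' - n q) * G i ^ n q by
          rw [← pow_add, Nat.sub_add_cancel (Finset.single_le_sum (f := n) (fun _ _ => Nat.zero_le _) (Finset.mem_univ q))],
          ← smul_smul, hr q, Algebra.smul_def, ← map_mul]
      obtain ⟨m, hm⟩ := ((Module.End.isUnit_iff _).1 (isUnit_powR (R := R) (M := M) (dvd_refl (g i))
        ⟨G i ^ n', n', rfl⟩)).2 (∑ q, (G i ^ (n' - n q) * r q) • W i q)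
      replace hm : G i ^ n' • m = ∑ q, (G i ^ (n' - n q) * r q) • W i q := hm
      refine ⟨m, fun p => smul_injectiveR (R := R) (dvd_refl (g i)) (n' + N i + K i) ?_⟩
      have h3 : Ψ (g i) i p (D i) = 0 := by rw [← h2 i p i]; rfl
      rw [hΨ, smul_sub, sub_eq_zero] at h3
      calc G i ^ (n' + N i + K i) • Φ (g i) p m
          = G i ^ (N i + K i) • Φ (g i) p (G i ^ n' • m) := by rw [map_smul, smul_smul, ← pow_add]; congr 2; omega
        _ = ∑ q, (G i ^ (n' - n q) * r q) • G i ^ K i • algebraMap R (Loc R (g i)) (b i p q) := by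
          rw [hm, map_sum, Finset.smul_sum]
          refine Finset.sum_congr rfl fun q _ => ?_
          rw [map_smul, ← hb, smul_smul, smul_smul, smul_smul]
          congr 1
          ring
        _ = G i ^ n' • G i ^ K i • ∑ q, b i p q • D i q := by
          rw [Finset.smul_sum, Finset.smul_sum]
          refine Finset.sum_congr rfl fun q _ => ?_
          rw [smul_comm (G i ^ n'), smul_comm (G i ^ n') (b i p q), hr', smul_comm (G i ^ (n' - n q) * r q),
            Algebra.smul_def (b i p q), Algebra.smul_def (G i ^ (n' - n q) * r q) (algebraMap R _ (b i p q)),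
            mul_comm]
        _ = _ := by rw [← h3, smul_smul, smul_smul, ← pow_add, ← pow_add]; congr 2; omega
    choose m hm using hm
    refine ⟨m, funext fun i => funext fun j => sub_eq_zero.1 (hΦinj i j _ fun p => ?_)⟩
    rw [map_sub, sub_eq_zero, ← congrFun (congrFun (h1 p) i) j]
    simp only [dd, LinearMap.coe_mk, AddHom.coe_mk, map_sub, Φ, ← resA_mapR]
    rw [← hm i p, ← hm j p]
  -- finiteness
  let ΦZ : P → (↥Z →ₗ[A] ↥(cocycles g R)) := fun p =>
    { toFun := fun c => ⟨fun i j => Φ _ p (c.1 i j), fun i j k => by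
        simp only [Φ, resA_mapR, ← map_add, c.2 i j k]⟩
      map_add' := fun c c' => by
        refine Subtype.ext (funext fun i => funext fun j => ?_)
        show Φ _ p (c.1 i j + c'.1 i j) = _
        rw [map_add]; rfl
      map_smul' := fun r c => by
        refine Subtype.ext (funext fun i => funext fun j => ?_)
        show Φ _ p (r • c.1 i j) = r • Φ _ p (c.1 i j)
        rw [LinearMap.map_smul_of_tower] }
  let γ : ↥Z →ₗ[A] (P → ↥((cocycles g R).map (LinearMap.range (dd g R)).mkQ)) :=
    LinearMap.pi fun p => ((LinearMap.range (dd g R)).mkQ.submoduleMap (cocycles g R)).comp (ΦZ p)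
  have hTex : ∀ c : Z, γ c = 0 → ∃ e, (c, e) ∈ T := fun c hc => by
    choose D hD using fun p => LinearMap.mem_range.1
      ((Submodule.Quotient.mk_eq_zero _).1 (congrArg Subtype.val (congrFun hc p)))
    have hcompat : ∀ i p, dd g R (fun j => Ψ (g j) i p fun q => D q j) = 0 := fun i p => by
      funext j k
      show resA R _ _ - resA R _ _ = 0
      rw [hΨres, hΨres, ← map_sub]
      convert hΨΦ (g j * g k) i p (c.1 j k) using 2
      funext q
      exact congrFun (congrFun (hD q) j) k
    exact ⟨fun i p => ⟨fun j => Ψ (g j) i p fun q => D q j, hcompat i p⟩,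
      fun i q => D q i, fun p => hD p, fun i p j => rfl⟩
  let H := ↥(Z.map B.mkQ)
  let q : ↥Z →ₗ[A] H := B.mkQ.submoduleMap Z
  let α : ↥T →ₗ[A] H := q.comp ((LinearMap.fst A _ _).comp T.subtype)
  let δ : ↥T →ₗ[A] (ι → P → ↥KS) := (LinearMap.snd A _ _).comp T.subtype
  have hδα : LinearMap.ker δ ≤ LinearMap.ker α := by
    rintro ⟨⟨c, e⟩, ht⟩ he
    obtain rfl : e = 0 := he
    exact Subtype.ext ((Submodule.Quotient.mk_eq_zero _).2 (hT0 c ht))
  letI : AddCommGroup ↥T := Module.addCommMonoidToAddCommGroup A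
  haveI : Module.Finite A ↥KS := hker
  haveI : Module.Finite A (↥T ⧸ LinearMap.ker δ) := Module.Finite.equiv δ.quotKerEquivRange.symm
  haveI : Module.Finite A ↥(LinearMap.range ((LinearMap.ker δ).liftQ α hδα)) := inferInstance
  let S := LinearMap.range ((LinearMap.ker δ).liftQ α hδα)
  have hS : LinearMap.ker γ ≤ LinearMap.ker (S.mkQ.comp q) := fun c hc => by
    obtain ⟨e, he⟩ := hTex c hc
    exact (Submodule.Quotient.mk_eq_zero S).2 ⟨Submodule.Quotient.mk ⟨(c, e), he⟩, rfl⟩
  haveI : Module.Finite A (↥Z ⧸ LinearMap.ker γ) := Module.Finite.equiv γ.quotKerEquivRange.symm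
  haveI : Module.Finite A (H ⧸ S) := Module.Finite.of_surjective ((LinearMap.ker γ).liftQ (S.mkQ.comp q) hS) fun z => by
    obtain ⟨w, rfl⟩ := S.mkQ_surjective z
    obtain ⟨c, rfl⟩ := LinearMap.submoduleMap_surjective B.mkQ Z w
    exact ⟨Submodule.Quotient.mk c, rfl⟩
  haveI : Module.Finite A H := Module.Finite.of_submodule_quotient S
  infer_instance

end Groth.Agent.FEtFF.FormalLimit
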