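import Groth.Agent.FEtFF.FormalExtendAlg
import Groth.Agent.FEtFF.ExtendDepthThree

/-!
# Extension of finite étale covers from a hypersurface section to a neighbourhood

For an `f`-complete Noetherian local ring `A` with `f` regular and `depth (A / f) ≥ 3` every finite
étale cover of the punctured spectrum of `A / f` extends to an open neighbourhood in the punctured
spectrum of `A`.
-/

set_option autoImplicit false
set_option linter.style.haveILetI false
set_option backward.isDefEq.respectTransparency.types false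
set_option backward.isDefEq.respectTransparency false
universe u

open CategoryTheory CategoryTheory.Limits AlgebraicGeometry TensorProduct

namespace Groth.Agent.FEtFF.FormalExtend

open Cech FormalLimit FormalTower Hypersurface

/-- An affine scheme surjected onto with kernel `(g)` is the base change to `V(g)`. -/
theorem isPullback_of_surjective {A : Type u} [CommRing A] (g : A) {E T : Type u} [CommRing E] [Algebra A E]
    [CommRing T] [Algebra A T] (ψ : E →ₐ[A] T) (hψ : Function.Surjective ψ)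
    (hker : ∀ e, ψ e = 0 → algebraMap A E g ∣ e) (hg : algebraMap A T g = 0)
    (s : Spec (CommRingCat.of T) ⟶ Spec (CommRingCat.of (A ⧸ Ideal.span {g})))
    (hs : s ≫ hyp g = Spec.map (CommRingCat.ofHom (algebraMap A T))) :
    IsPullback (Spec.map (CommRingCat.ofHom ψ.toRingHom)) s (Spec.map (CommRingCat.ofHom (algebraMap A E))) (hyp g) := by
  haveI : IsClosedImmersion (hyp g) := IsClosedImmersion.spec_of_surjective _ Ideal.Quotient.mk_surjective
  have hle : Ideal.span {g} ≤ (I g E 1).comap (algebraMap A E) := by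
    rw [Ideal.span_le, Set.singleton_subset_iff, SetLike.mem_coe, Ideal.mem_comap]
    exact Ideal.mem_span_singleton.2 (map_dvd _ (dvd_of_eq (pow_one g)))
  have h2 := isPullback_SpecMap_of_isPushout _ _ _ _ (isPushout_quotient (E := E) g hle)
  let σ : E ⧸ I g E 1 →+* T := Ideal.Quotient.lift _ ψ.toRingHom fun b hb => by
    rw [I, pow_one g, Ideal.mem_span_singleton] at hb
    obtain ⟨c, rfl⟩ := hb
    show ψ (_ * c) = 0
    rw [map_mul, AlgHom.commutes, hg, zero_mul]
  have hσ : Function.Bijective σ := by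
    refine ⟨(injective_iff_map_eq_zero σ).2 fun b hb => ?_, fun b => ?_⟩
    · obtain ⟨b, rfl⟩ := Ideal.Quotient.mk_surjective b
      rw [Ideal.Quotient.eq_zero_iff_mem, I, pow_one g, Ideal.mem_span_singleton]
      exact hker b hb
    · obtain ⟨c, hc⟩ := hψ b
      exact ⟨Ideal.Quotient.mk _ c, hc⟩
  let eσ : Spec (CommRingCat.of T) ≅ Spec (CommRingCat.of (E ⧸ I g E 1)) :=
    Scheme.Spec.mapIso (RingEquiv.ofBijective σ hσ).toCommRingCatIso.op
  refine h2.of_iso eσ.symm (Iso.refl _) (Iso.refl _) (Iso.refl _) ?_ ?_ (by simp) (by simp)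
  · rw [Iso.refl_hom, Category.comp_id, Iso.symm_hom, Iso.eq_inv_comp]
    simp only [eσ, Functor.mapIso_hom, Iso.op_hom, Scheme.Spec_map, Quiver.Hom.unop_op]
    rw [← Spec.map_comp]
    rfl
  · rw [Iso.refl_hom, Category.comp_id, Iso.symm_hom, Iso.eq_inv_comp, ← cancel_mono (hyp g)]
    simp only [eσ, Functor.mapIso_hom, Iso.op_hom, Scheme.Spec_map, Quiver.Hom.unop_op, Category.assoc]
    rw [hs]
    simp only [hyp, ← Spec.map_comp]
    congr 1
    ext r
    exact ψ.commutes r

variable {A : Type u} [CommRing A] [IsNoetherianRing A] (f : A) [IsLocalRing A]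

set_option maxHeartbeats 1600000 in
/-- Extension of a finite étale cover of the punctured spectrum of `A / f` to a neighbourhood. -/
theorem exists_extension_nbhd (hreg : IsSMulRegular A f)
    [IsAdicComplete (Ideal.span {f}) A] [IsLocalRing (A ⧸ Ideal.span {f ^ (0 + 1)})]
    (hdep : (3 : ℕ∞) ≤ _root_.LocCoh.depth (A ⧸ Ideal.span {f ^ (0 + 1)}) (A ⧸ Ideal.span {f ^ (0 + 1)}))
    (V₀ : FEt.Cat (T f 0)) :
    ∃ (U' : (Spec (CommRingCat.of A)).Opens) (u' : T f 0 ⟶ (U' : Scheme.{u})) (W : Scheme.{u})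
      (w : W ⟶ (U' : Scheme.{u})) (a : V₀.left ⟶ W),
      U' ≤ FEt.puncturedSpec A ∧ u' ≫ U'.ι = toA f 0 ∧ IsFinite w ∧ Etale w ∧ IsPullback a V₀.hom w u' := by
  let R := A ⧸ Ideal.span {f ^ (0 + 1)}
  have hdep2 : (2 : ℕ∞) ≤ _root_.LocCoh.depth R R := le_trans (by norm_num) hdep
  obtain ⟨x, y, z, hx, hy, hz, H⟩ := exists_regTriple hdep
  obtain ⟨x, rfl⟩ := Ideal.Quotient.mk_surjective x
  obtain ⟨y, rfl⟩ := Ideal.Quotient.mk_surjective y
  obtain ⟨z, rfl⟩ := Ideal.Quotient.mk_surjective z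
  haveI : IsLocalHom (Ideal.Quotient.mk (Ideal.span {f ^ (0 + 1)})) := IsLocalHom.of_surjective _ Ideal.Quotient.mk_surjective
  have hmem : ∀ a : A, Ideal.Quotient.mk (Ideal.span {f ^ (0 + 1)}) a ∈ IsLocalRing.maximalIdeal R →
      a ∈ IsLocalRing.maximalIdeal A := fun a ha => fun h => ha (h.map _)
  obtain ⟨n, gen, hgen⟩ := Submodule.fg_iff_exists_fin_generating_family.1
    (IsNoetherian.noetherian (IsLocalRing.maximalIdeal A))
  let g : Fin 3 ⊕ Fin n → A := Sum.elim ![x, y, z] gen
  have hgm : ∀ i, g i ∈ IsLocalRing.maximalIdeal A := by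
    rintro (i | i)
    · fin_cases i
      exacts [hmem x hx, hmem y hy, hmem z hz]
    · show gen i ∈ _
      rw [← hgen]; exact Submodule.subset_span ⟨i, rfl⟩
  have hgcov : ∀ p : Ideal A, p.IsPrime → p ≠ IsLocalRing.maximalIdeal A → ∃ i, g i ∉ p := by
    intro p hp hne
    by_contra hcon
    push Not at hcon
    refine hne (le_antisymm (IsLocalRing.le_maximalIdeal hp.ne_top) ?_)
    rw [← hgen, Submodule.span_le]
    rintro _ ⟨i, rfl⟩
    exact hcon (Sum.inr i)
  let U := FEt.puncturedSpec A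
  let q := hp f 0
  -- the bottom level is finite
  let S := sys f V₀ g hgm hgcov hreg
  haveI hM0 : Module.Finite A (S.M 0) := by
    let UR := FEt.puncturedSpec R
    obtain ⟨k, HU⟩ : ∃ k : (UR : Scheme.{u}) ⟶ U, IsPullback k UR.ι U.ι q := by
      have hU' : q ⁻¹ᵁ U = UR := by
        refine TopologicalSpace.Opens.ext (Set.ext fun p => not_congr ?_)
        show PrimeSpectrum.comap (Ideal.Quotient.mk (Ideal.span {f ^ (0 + 1)})) p = IsLocalRing.closedPoint A ↔
          p = IsLocalRing.closedPoint R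
        have hc := IsLocalRing.comap_closedPoint (Ideal.Quotient.mk (Ideal.span {f ^ (0 + 1)}))
        exact ⟨fun hp => PrimeSpectrum.comap_injective_of_surjective _ Ideal.Quotient.mk_surjective (hp.trans hc.symm),
          fun hp => hp ▸ hc⟩
      rw [← hU']; exact ⟨_, isPullback_morphismRestrict q U⟩
    let h : V₀.left ⟶ (UR : Scheme.{u}) := V₀.hom ≫ HU.isoPullback.inv
    haveI : IsFinite V₀.hom := V₀.prop.1
    haveI : Etale V₀.hom := V₀.prop.2
    have hs : str (toU f V₀ 0) = str h ≫ q := by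
      show (V₀.hom ≫ pullback.fst _ _) ≫ U.ι = ((V₀.hom ≫ HU.isoPullback.inv) ≫ UR.ι) ≫ q
      rw [Category.assoc, Category.assoc V₀.hom, HU.isoPullback_inv_snd, Category.assoc, pullback.condition]
    have e : algebraMap A (S.M 0) = (sect h).comp (Ideal.Quotient.mk _) := by
      show sect (toU f V₀ 0) = _
      rw [sect, hs, Scheme.Hom.comp_appTop]
      have hn := Scheme.ΓSpecIso_inv_naturality (CommRingCat.ofHom (Ideal.Quotient.mk (Ideal.span {f ^ (0 + 1)})))
      rw [show (str h).appTop = _ from rfl, ← Category.assoc, ← hn]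
      rfl
    have := (sect_finite hdep2 h).comp (RingHom.Finite.of_surjective _
      (Ideal.Quotient.mk_surjective (I := Ideal.span {f ^ (0 + 1)})))
    exact RingHom.finite_algebraMap.1 (e ▸ this)
  letI : Algebra R (S.M 0) := (Ideal.Quotient.lift (Ideal.span {f ^ (0 + 1)}) (algebraMap A (S.M 0)) (fun a ha => by
    obtain ⟨c, rfl⟩ := Ideal.mem_span_singleton.1 ha
    rw [map_mul, S.f_pow, zero_mul])).toAlgebra
  haveI : IsScalarTower A R (S.M 0) := IsScalarTower.of_algebraMap_eq fun a => rfl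
  haveI : Module.Finite R (S.M 0) := Module.Finite.of_restrictScalars_finite A R _
  have het0 : ∀ i, Algebra.Etale R (Loc (S.M 0) (g i)) := fun i => by
    obtain ⟨φ, hφ, het⟩ := flat_loc f V₀ g hgm 0 (g i) ⟨i, dvd_rfl⟩
    refine RingHom.etale_algebraMap.1 ?_
    have hh : algebraMap R (Loc (S.M 0) (g i)) = φ := by
      refine Ideal.Quotient.ringHom_ext ?_
      rw [hφ, ← Ideal.Quotient.algebraMap_eq]
      exact (IsScalarTower.algebraMap_eq A R (Loc (S.M 0) (g i))).symm
    rw [hh]; exact het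
  haveI : ∀ i, Module.Flat R (Loc (S.M 0) (g i)) := fun i => haveI := het0 i; inferInstance
  obtain ⟨hglue, hcob⟩ := glue_cob (R := R) g (ix := Sum.inl 0) (iy := Sum.inl 1) (iz := Sum.inl 2) H
  haveI := isNoetherian_cocycles_quotient (R := R) (M := S.M 0) g hglue hcob
  -- the limit
  let L := S.lim
  haveI : Module.Finite A L := S.finite_lim
  have hLreg : IsSMulRegular L f := fun a b hab => sub_eq_zero.1 (S.eq_zero_of_f_smul _ (by rw [smul_sub]; exact sub_eq_zero.2 hab))
  have hpsurj : ∀ i, Function.Surjective (mapA S.proj (g i)) := fun i y => by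
    obtain ⟨m, b, hb⟩ := exists_pow_mul y
    obtain ⟨k, b', hb'⟩ := S.exists_pow_mem_range i b
    have hu : IsUnit (algebraMap A (Loc L (g i)) (g i ^ (k + m))) := by
      rw [IsScalarTower.algebraMap_apply A L (Loc L (g i)), map_pow, map_pow]
      exact (IsLocalization.Away.algebraMap_isUnit _).pow _
    obtain ⟨v, hv⟩ := hu.exists_left_inv
    refine ⟨v * algebraMap L _ b', ?_⟩
    have h1 := congrArg (mapA S.proj (g i)) hv
    rw [map_mul, map_one, AlgHom.commutes] at h1
    rw [map_mul, mapA_algebraMap]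
    show _ * algebraMap (S.M 0) _ (S.proj.toLinearMap b') = y
    rw [hb', Algebra.smul_def, map_mul, ← IsScalarTower.algebraMap_apply, ← hb,
      show algebraMap (S.M 0) (Loc (S.M 0) (g i)) (algebraMap A (S.M 0) (g i) ^ m) =
        algebraMap A (Loc (S.M 0) (g i)) (g i ^ m) by
        rw [IsScalarTower.algebraMap_apply A (S.M 0) (Loc (S.M 0) (g i)), map_pow (algebraMap A (S.M 0))],
      ← mul_assoc (algebraMap A (Loc (S.M 0) (g i)) (g i ^ k)), ← map_mul, ← pow_add, ← mul_assoc, h1, one_mul]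
  have hpker : ∀ i y, mapA S.proj (g i) y = 0 → algebraMap A (Loc L (g i)) (f ^ (0 + 1)) ∣ y := fun i y hy => by
    obtain ⟨m, b, hb⟩ := exists_pow_mul y
    have h1 := congrArg (mapA S.proj (g i)) hb
    rw [map_mul, hy, mul_zero, mapA_algebraMap] at h1
    obtain ⟨k, hk⟩ := exists_pow_of_eq_zero h1.symm
    obtain ⟨d, hd⟩ := S.exists_eq_f_smul (algebraMap A L (g i) ^ k * b) (by rw [map_mul, map_pow, AlgHom.commutes, hk])
    have hu : IsUnit (algebraMap L (Loc L (g i)) (algebraMap A L (g i) ^ (k + m))) := by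
      rw [map_pow]; exact (IsLocalization.Away.algebraMap_isUnit _).pow _
    obtain ⟨v, hv⟩ := hu.exists_left_inv
    refine ⟨v * algebraMap L _ d, ?_⟩
    rw [zero_add, pow_one, mul_left_comm, IsScalarTower.algebraMap_apply A L (Loc L (g i)), ← map_mul,
      ← Algebra.smul_def, ← hd, map_mul (algebraMap L (Loc L (g i))), ← hb, ← mul_assoc (algebraMap L _ (_ ^ k)),
      ← map_mul, ← pow_add, ← mul_assoc, hv, one_mul]
  -- the finite scheme over `A`
  let π : Spec (CommRingCat.of L) ⟶ Spec (CommRingCat.of A) := Spec.map (CommRingCat.ofHom (algebraMap A L))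
  haveI : IsFinite π := (IsFinite.SpecMap_iff _).2 (RingHom.finite_algebraMap.2 ‹_›)
  haveI : CompactSpace V₀.left := compactSpace_cover f V₀ 0
  haveI : QuasiSeparatedSpace V₀.left := quasiSeparatedSpace_cover f V₀ 0
  let pr : L →+* Γ(V₀.left, ⊤) := S.proj.toRingHom
  let a : V₀.left ⟶ Spec (CommRingCat.of L) := V₀.left.toSpecΓ ≫ Spec.map (CommRingCat.ofHom pr)
  have ha : a ≫ π = V₀.hom ≫ toA f 0 := by
    rw [Category.assoc, ← Spec.map_comp, ← Category.assoc V₀.hom]
    show _ = str (toU f V₀ 0)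
    rw [show CommRingCat.ofHom (algebraMap A L) ≫ CommRingCat.ofHom pr =
        (Scheme.ΓSpecIso (CommRingCat.of A)).inv ≫ (str (toU f V₀ 0)).appTop from
      CommRingCat.hom_ext (RingHom.ext fun r => S.proj.commutes r), Spec.map_comp, ← Category.assoc,
      ← Scheme.toSpecΓ_naturality, Category.assoc, toSpecΓ_SpecMap_ΓSpecIso_inv, Category.comp_id]
  let κ : V₀.left ⟶ pullback π (toA f 0) := pullback.lift a V₀.hom ha
  haveI : Mono q := mono_hp f 0
  let CL : ∀ i, Spec (CommRingCat.of (Loc L (g i))) ⟶ Spec (CommRingCat.of L) := fun i =>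
    Spec.map (CommRingCat.ofHom (algebraMap L (Loc L (g i))))
  let C₀ : ∀ i, Spec (CommRingCat.of (Loc (S.M 0) (g i))) ⟶ V₀.left := fun i => chartC f V₀ g hgm 0 (g i) ⟨i, dvd_rfl⟩
  let m : ∀ i, Spec (CommRingCat.of (Loc (S.M 0) (g i))) ⟶ Spec (CommRingCat.of (Loc L (g i))) := fun i =>
    Spec.map (CommRingCat.ofHom (mapA S.proj (g i)).toRingHom)
  have hm : ∀ i, IsPullback (C₀ i ≫ κ) (m i) (pullback.fst π (toA f 0)) (CL i) := fun i => by
    have hC : C₀ i ≫ a = m i ≫ CL i := by
      rw [← Category.assoc]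
      erw [chartC_toSpecΓ]
      rw [← Spec.map_comp, ← Spec.map_comp]
      congr 1
      ext b
      exact (mapA_algebraMap S.proj (g i) b).symm
    have hCA : (C₀ i ≫ V₀.hom ≫ pullback.snd U.ι q) ≫ hyp (f ^ (0 + 1)) =
        Spec.map (CommRingCat.ofHom (algebraMap A (Loc (S.M 0) (g i)))) := by
      refine Eq.trans ?_ (chartC_str f V₀ g hgm 0 (g i) ⟨i, dvd_rfl⟩)
      simp only [C₀, q, str, toU, Category.assoc, pullback.condition]
      rfl
    have hCπ : CL i ≫ π = Spec.map (CommRingCat.ofHom (algebraMap A (Loc L (g i)))) := by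
      simp only [CL, π, ← Spec.map_comp]
      rfl
    have h3 := isPullback_of_surjective (f ^ (0 + 1)) (mapA S.proj (g i)) (hpsurj i) (hpker i)
      (by rw [IsScalarTower.algebraMap_apply A (S.M 0) (Loc (S.M 0) (g i)), S.f_pow, map_zero]) _ hCA
    refine IsPullback.of_right (h₁₂ := pullback.snd π (toA f 0)) (v₁₃ := toA f 0) (h₂₂ := π) ?_
      ?_ (IsPullback.of_hasPullback π (toA f 0)).flip
    rotate_left
    · rw [Category.assoc, pullback.lift_fst, hC]
    rw [Category.assoc, pullback.lift_snd, hCπ]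
    haveI : IsOpenImmersion (pullback.snd U.ι q) := inferInstance
    have hw : (C₀ i ≫ V₀.hom) ≫ toA f 0 = m i ≫ Spec.map (CommRingCat.ofHom (algebraMap A (Loc L (g i)))) := by
      rw [← hCπ, Category.assoc, ← ha, ← Category.assoc (C₀ i) a, hC, Category.assoc]
    have hcond : ∀ s : PullbackCone (toA f 0) (Spec.map (CommRingCat.ofHom (algebraMap A (Loc L (g i))))),
        s.snd ≫ Spec.map (CommRingCat.ofHom (algebraMap A (Loc L (g i)))) = (s.fst ≫ pullback.snd U.ι q) ≫ q := fun s => by
      rw [← s.condition, Category.assoc, ← pullback.condition]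
    refine ⟨⟨hw⟩, ⟨PullbackCone.IsLimit.mk _ (fun s => h3.lift s.snd (s.fst ≫ pullback.snd U.ι q) (hcond s))
      (fun s => ?_) (fun s => h3.lift_fst _ _ _) (fun s l h1 h2 => ?_)⟩⟩
    · refine (cancel_mono (pullback.snd U.ι q)).1 ?_
      simp only [Category.assoc]
      exact h3.lift_snd _ _ _
    · refine h3.hom_ext ?_ ?_
      · rw [h3.lift_fst, h2]
      · rw [h3.lift_snd, ← h1]
        simp only [Category.assoc]
  haveI : ∀ i, IsOpenImmersion (C₀ i ≫ κ) := fun i =>
    MorphismProperty.of_isPullback (P := @IsOpenImmersion) (hm i).flip inferInstance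
  have hrange : ∀ i, Set.range (C₀ i ≫ κ) =
      (pullback.fst π (toA f 0)) ⁻¹' (PrimeSpectrum.basicOpen (algebraMap A L (g i)) : Set (PrimeSpectrum L)) := fun i => by
    rw [← PrimeSpectrum.localization_away_comap_range (Loc L (g i))]
    ext p
    refine ⟨?_, fun hp => ?_⟩
    · rintro ⟨s, rfl⟩
      exact ⟨m i s, congrArg (fun φ : Spec (CommRingCat.of (Loc (S.M 0) (g i))) ⟶ Spec (CommRingCat.of L) => φ s) (hm i).w.symm⟩
    · obtain ⟨s, hs⟩ := hp
      obtain ⟨y, hy, -⟩ := Scheme.Pullback.exists_preimage_pullback (f := pullback.fst π (toA f 0)) (g := CL i) p s hs.symm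
      exact ⟨(hm i).isoPullback.inv y, by rw [← Scheme.Hom.comp_apply, (hm i).isoPullback_inv_fst, hy]⟩
  have hcov : ∀ p : ↥(pullback π (toA f 0)), ∃ i, p ∈ Set.range (C₀ i ≫ κ) := fun p => by
    let t := pullback.snd π (toA f 0) p
    obtain ⟨i, hi⟩ := hgcov (toA f 0 t).asIdeal (toA f 0 t).2
      fun e => ((pullback.fst U.ι (hp f 0)) t).2 (PrimeSpectrum.ext e)
    refine ⟨i, ?_⟩
    rw [hrange]
    intro hmem'
    refine hi ?_
    have e : toA f 0 t = π (pullback.fst π (toA f 0) p) :=
      congrArg (fun φ : pullback π (toA f 0) ⟶ Spec (CommRingCat.of A) => φ p) pullback.condition.symm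
    rw [e]
    exact hmem'
  haveI : IsIso κ := by
    let 𝒰 : (pullback π (toA f 0)).OpenCover := Scheme.Cover.mkOfCovers _ (fun i => Spec (CommRingCat.of (Loc (S.M 0) (g i))))
      (fun i => C₀ i ≫ κ) (fun p => by obtain ⟨i, s, hs⟩ := hcov p; exact ⟨i, s, hs⟩)
      (fun i => inferInstanceAs (IsOpenImmersion (C₀ i ≫ κ)))
    refine (IsZariskiLocalAtTarget.iff_of_openCover (P := MorphismProperty.isomorphisms Scheme.{u}) 𝒰).2 fun i => ?_
    have hsq : IsPullback (𝟙 _) (C₀ i) (C₀ i ≫ κ) κ := by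
      refine IsOpenImmersion.isPullback _ _ _ _ (Category.id_comp _).symm ?_
      refine TopologicalSpace.Opens.ext ?_
      rw [TopologicalSpace.Opens.map_coe, Scheme.Hom.coe_opensRange, Scheme.Hom.coe_opensRange, hrange,
        show Set.range (C₀ i) = _ from range_chart _, ← Set.preimage_comp]
      show (fun v => pullback.fst π (toA f 0) (κ v)) ⁻¹' _ = _
      have e : κ ≫ pullback.fst π (toA f 0) = a := pullback.lift_fst _ _ _
      rw [show (fun v => pullback.fst π (toA f 0) (κ v)) = fun v => a v from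
        funext fun v => congrArg (fun φ : V₀.left ⟶ Spec (CommRingCat.of L) => φ v) e]
      show (a ⁻¹ᵁ PrimeSpectrum.basicOpen (algebraMap A L (g i)) : Set V₀.left) = _
      rw [show a ⁻¹ᵁ PrimeSpectrum.basicOpen (algebraMap A L (g i)) =
          V₀.left.basicOpen (S.proj (algebraMap A L (g i)) : Γ(V₀.left, ⊤)) by
        rw [← Scheme.toSpecΓ_preimage_basicOpen]
        rfl, S.proj.commutes]
      rfl
    show IsIso (pullback.snd κ (C₀ i ≫ κ))
    rw [← hsq.flip.isoPullback_inv_snd]
    infer_instance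
  have hsq0 : IsPullback a V₀.hom π (toA f 0) :=
    IsPullback.of_iso_pullback ⟨ha⟩ (asIso κ) (pullback.lift_fst _ _ _) (pullback.lift_snd _ _ _)
  -- the étale locus
  let O : (Spec (CommRingCat.of L)).Opens := ⨆ W : {W : (Spec (CommRingCat.of L)).Opens // Etale (W.ι ≫ π)}, W.1
  have hO : ∀ P : PrimeSpectrum L, algebraMap A L f ∈ P.asIdeal →
      P.asIdeal.comap (algebraMap A L) ≠ IsLocalRing.maximalIdeal A → P ∈ O := by
    intro P hfP hne
    obtain ⟨i, hi⟩ := hgcov _ inferInstance hne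
    let Lg := Loc L (g i)
    haveI : Algebra.FiniteType A Lg := Algebra.FiniteType.trans (inferInstanceAs (Algebra.FiniteType A L))
      (IsLocalization.finiteType_of_monoid_fg (Submonoid.powers (algebraMap A L (g i))) Lg)
    have hP' : P ∈ Set.range (PrimeSpectrum.comap (algebraMap L Lg)) := by
      rw [PrimeSpectrum.localization_away_comap_range Lg (algebraMap A L (g i))]; exact hi
    obtain ⟨P', rfl⟩ := hP'
    have hLg : IsSMulRegular Lg f :=
      isSMulRegular_localization f hLreg (Submonoid.powers (algebraMap A L (g i))) Lg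
    haveI := het0 i
    haveI : Algebra.Etale R (R ⊗[A] Lg) := etale_tensor_of_surjective (f ^ (0 + 1)) (mapA S.proj (g i)) (hpsurj i) (hpker i)
    haveI : P'.asIdeal.IsPrime := P'.2
    haveI := isEtaleAt_of_mod (f ^ (0 + 1)) (hreg.pow _) Lg (hLg.pow _) P'.asIdeal
      (by rw [IsScalarTower.algebraMap_apply A L Lg, map_pow, map_pow, zero_add, pow_one]; exact hfP)
    haveI : Algebra.FinitePresentation A Lg := Algebra.FinitePresentation.of_finiteType.1 inferInstance
    obtain ⟨r, hr, hret⟩ := Algebra.exists_etale_of_isEtaleAt (R := A) P'.asIdeal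
    let jr : Spec (CommRingCat.of (Localization.Away r)) ⟶ Spec (CommRingCat.of L) :=
      Spec.map (CommRingCat.ofHom (algebraMap Lg (Localization.Away r))) ≫
        Spec.map (CommRingCat.ofHom (algebraMap L Lg))
    have hEt : Etale (jr ≫ π) := by
      have e : jr ≫ π = Spec.map (CommRingCat.ofHom (algebraMap A (Localization.Away r))) := by
        simp only [jr, π, ← Spec.map_comp]
        congr 1
      rw [e]
      exact (HasRingHomProperty.Spec_iff (P := @Etale)).2 (RingHom.etale_algebraMap.2 hret)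
    refine TopologicalSpace.Opens.mem_iSup.2 ⟨⟨jr.opensRange, ?_⟩, ?_⟩
    · rw [show jr.opensRange.ι = jr.isoOpensRange.inv ≫ jr from (jr.isoOpensRange_inv_comp).symm, Category.assoc]
      infer_instance
    · obtain ⟨s, hs⟩ : P' ∈ Set.range (PrimeSpectrum.comap (algebraMap Lg (Localization.Away r))) := by
        rw [PrimeSpectrum.localization_away_comap_range (Localization.Away r) r]; exact hr
      exact ⟨s, congrArg (PrimeSpectrum.comap (algebraMap L Lg)) hs⟩
  -- the neighbourhood
  let U' : (Spec (CommRingCat.of A)).Opens :=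
    U ⊓ ⟨(π '' (O : Set (Spec (CommRingCat.of L)))ᶜ)ᶜ, (π.isClosedMap _ O.2.isClosed_compl).isOpen_compl⟩
  have hT : Set.range (toA f 0) ⊆ Set.range U'.ι := by
    rintro _ ⟨t, rfl⟩
    rw [Scheme.Opens.range_ι]
    have htU : toA f 0 t ∈ U := ((pullback.fst U.ι (hp f 0)) t).2
    refine ⟨htU, ?_⟩
    rintro ⟨P, hPO, hP⟩
    refine hPO (hO P ?_ fun e => htU ?_)
    · have h : toA f 0 t = hp f 0 (pullback.snd U.ι (hp f 0) t) :=
        congrArg (fun φ : T f 0 ⟶ Spec (CommRingCat.of A) => φ t) pullback.condition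
      have h' : f ∈ (π P).asIdeal := by
        rw [hP, h]
        show Ideal.Quotient.mk _ f ∈ (pullback.snd U.ι (hp f 0) t).asIdeal
        rw [Ideal.Quotient.eq_zero_iff_mem.2 (Ideal.mem_span_singleton.2 ⟨1, by ring⟩)]
        exact Submodule.zero_mem _
      exact h'
    · rw [Set.mem_singleton_iff, ← hP]
      exact PrimeSpectrum.ext e
  let u' := IsOpenImmersion.lift U'.ι (toA f 0) hT
  haveI : Etale (O.ι ≫ π) := by
    refine (IsZariskiLocalAtSource.iff_of_iSup_eq_top (P := @Etale)
      (fun W : {W : (Spec (CommRingCat.of L)).Opens // Etale (W.ι ≫ π)} => O.ι ⁻¹ᵁ W.1) ?_).2 fun W => ?_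
    · rw [← Scheme.Hom.preimage_iSup]
      exact O.ι_preimage_self
    · haveI := W.2
      rw [← Category.assoc, ← morphismRestrict_ι, Category.assoc]
      haveI : IsOpenImmersion (O.ι ∣_ W.1) := inferInstance
      infer_instance
  have hle : π ⁻¹ᵁ U' ≤ O := fun P hP => by
    by_contra h
    exact hP.2 ⟨P, h, rfl⟩
  haveI : Etale ((π ⁻¹ᵁ U').ι ≫ π) := by
    rw [← (Spec (CommRingCat.of L)).homOfLE_ι hle, Category.assoc]
    infer_instance
  haveI hwe : Etale (π ∣_ U') := by
    haveI : Etale (π ∣_ U' ≫ U'.ι) := by rw [morphismRestrict_ι]; infer_instance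
    exact MorphismProperty.of_postcomp (W := @Etale) (W' := @IsOpenImmersion) (π ∣_ U') U'.ι inferInstance this
  have hu' : u' ≫ U'.ι = toA f 0 := IsOpenImmersion.lift_fac _ _ hT
  have hres : IsPullback (π ⁻¹ᵁ U').ι (π ∣_ U') π U'.ι := (isPullback_morphismRestrict π U').flip
  refine ⟨U', u', _, π ∣_ U', hres.lift a (V₀.hom ≫ u') (by rw [Category.assoc V₀.hom, hu']; exact hsq0.w),
    inf_le_left, hu', inferInstance, hwe, ?_⟩
  refine IsPullback.of_right ?_ (hres.lift_snd _ _ _) hres
  rw [hres.lift_fst, hu']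
  exact hsq0

end Groth.Agent.FEtFF.FormalExtend
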