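import Groth.Agent.FEtFF.FormalTowerDef
import Groth.Agent.FlatCrit.Tor
import Groth.Agent.FlatLocal.FlatAt
import Mathlib.RingTheory.Etale.Locus

/-!
# Algebraic lemmas for extending finite étale covers off a hypersurface section
-/

set_option autoImplicit false
set_option linter.style.haveILetI false
set_option backward.isDefEq.respectTransparency.types false
set_option backward.isDefEq.respectTransparency false
universe u

open TensorProduct

namespace Groth.Agent.FEtFF.FormalExtend

open Cech FormalLimit

theorem res_self {A : Type u} [CommRing A] {a : A} (h : a ∣ a) (s : Localization.Away a) : res h s = s :=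
  RingHom.congr_fun (f := res h) (g := RingHom.id _)
    (IsLocalization.ringHom_ext (Submonoid.powers a) (RingHom.ext fun r => by simp)) s

theorem resA_eq {A M : Type u} [CommRing A] [CommRing M] [Algebra A M] {a c : A} (h : a ∣ c) (s : Loc M a) :
    resA M h s = res (map_dvd (algebraMap A M) h) s := rfl

/-- Čech conditions for a quotient with a regular triple, in the form used by `FormalCoh`. -/
theorem glue_cob {A R : Type u} [CommRing A] [CommRing R] [Algebra A R] {ι : Type} [Finite ι] (g : ι → A)
    {ix iy iz : ι} (H : RegTriple (algebraMap A R (g ix)) (algebraMap A R (g iy)) (algebraMap A R (g iz))) :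
    (∀ d : ∀ i, Loc R (g i), dd g R d = 0 → ∃ e, ∀ i, algebraMap R _ e = d i) ∧
      ∀ c ∈ cocycles g R, ∃ d, dd g R d = c := by
  let g' : ι → R := fun i => algebraMap A R (g i)
  have to' : ∀ i j, algebraMap A R (g i * g j) ∣ g' i * g' j := fun i j => dvd_of_eq (map_mul _ _ _)
  have of' : ∀ i j, g' i * g' j ∣ algebraMap A R (g i * g j) := fun i j => dvd_of_eq (map_mul _ _ _).symm
  refine ⟨fun d hd => exists_glue g' H d fun i j => ?_, fun c hc => ?_⟩
  · have h : resA R (dvd_mul_right (g i) (g j)) (d i) = resA R (dvd_mul_left (g j) (g i)) (d j) :=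
      sub_eq_zero.1 (congrFun (congrFun hd i) j)
    have := congrArg (res (to' i j)) h
    rw [resA_eq, resA_eq, res_res, res_res] at this
    exact this
  · obtain ⟨d, hd⟩ := exists_coboundary g' H (fun i j => res (to' i j) (c i j)) fun i j k => by
      have h := congrArg (res (dvd_of_eq (by simp only [g', map_mul]) : algebraMap A R (g i * g j * g k) ∣ g' i * g' j * g' k))
        (hc i j k)
      rw [map_add] at h
      rw [resA_eq, resA_eq, resA_eq, res_res, res_res, res_res] at h
      rw [res_res, res_res, res_res]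
      exact h
    refine ⟨d, funext fun i => funext fun j => ?_⟩
    have h := congrArg (res (of' i j)) (hd i j)
    rw [map_sub, res_res, res_res, res_res, res_self] at h
    show resA R _ (d i) - resA R _ (d j) = c i j
    rw [resA_eq, resA_eq]
    exact h.symm

variable {A : Type u} [CommRing A] (f : A)

theorem isSMulRegular_localization {S : Type u} [CommRing S] [Algebra A S] (hS : IsSMulRegular S f)
    (N : Submonoid S) (T : Type u) [CommRing T] [Algebra S T] [IsLocalization N T] [Algebra A T]
    [IsScalarTower A S T] : IsSMulRegular T f := by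
  refine isSMulRegular_iff_right_eq_zero_of_smul.2 fun t ht => ?_
  obtain ⟨⟨b, n⟩, hbn⟩ := IsLocalization.surj N t
  have h0 : algebraMap S T (f • b) = 0 := by
    rw [Algebra.smul_def, map_mul, ← IsScalarTower.algebraMap_apply, ← hbn, ← mul_assoc, ← Algebra.smul_def, ht, zero_mul]
  obtain ⟨w, hw⟩ := (IsLocalization.map_eq_zero_iff N T _).1 h0
  have hb : algebraMap S T b = 0 := (IsLocalization.map_eq_zero_iff N T _).2
    ⟨w, isSMulRegular_iff_right_eq_zero_of_smul.1 hS _ (by rw [← mul_smul_comm]; exact hw)⟩
  rw [hb] at hbn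
  exact (IsLocalization.map_units T n).mul_left_eq_zero.1 hbn

/-- A base change to a quotient of `A`, recognised by a surjection with the expected kernel. -/
theorem etale_tensor_of_surjective (g : A) {S T : Type u} [CommRing S] [Algebra A S] [CommRing T]
    [Algebra (A ⧸ Ideal.span {g}) T] [Algebra A T] [IsScalarTower A (A ⧸ Ideal.span {g}) T]
    [Algebra.Etale (A ⧸ Ideal.span {g}) T] (ψ : S →ₐ[A] T) (hψ : Function.Surjective ψ)
    (hker : ∀ s, ψ s = 0 → algebraMap A S g ∣ s) :
    Algebra.Etale (A ⧸ Ideal.span {g}) ((A ⧸ Ideal.span {g}) ⊗[A] S) := by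
  let φ : (A ⧸ Ideal.span {g}) ⊗[A] S →ₐ[A ⧸ Ideal.span {g}] T :=
    Algebra.TensorProduct.lift (Algebra.ofId _ _) ψ fun _ _ => Commute.all _ _
  have hφt : ∀ b, φ (1 ⊗ₜ b) = ψ b := fun b => by
    simp only [φ, Algebra.TensorProduct.lift_tmul, map_one, one_mul]
  have hone : ∀ t : (A ⧸ Ideal.span {g}) ⊗[A] S, ∃ b, t = (1 : A ⧸ Ideal.span {g}) ⊗ₜ[A] b := fun t => by
    induction t using TensorProduct.induction_on with
    | zero => exact ⟨0, (TensorProduct.tmul_zero _ _).symm⟩
    | tmul r b =>
      obtain ⟨r, rfl⟩ := Ideal.Quotient.mk_surjective r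
      exact ⟨r • b, by rw [TensorProduct.tmul_smul, TensorProduct.smul_tmul', Algebra.smul_def, mul_one]; rfl⟩
    | add t t' ht ht' =>
      obtain ⟨b, rfl⟩ := ht
      obtain ⟨b', rfl⟩ := ht'
      exact ⟨b + b', (TensorProduct.tmul_add _ _ _).symm⟩
  have hφ : Function.Bijective φ := by
    refine ⟨(injective_iff_map_eq_zero φ).2 fun t ht => ?_, fun b => ?_⟩
    · obtain ⟨b, rfl⟩ := hone t
      rw [hφt] at ht
      obtain ⟨c, rfl⟩ := hker b ht
      rw [← Algebra.smul_def, TensorProduct.tmul_smul, TensorProduct.smul_tmul', Algebra.smul_def, mul_one,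
        Ideal.Quotient.algebraMap_eq, Ideal.Quotient.eq_zero_iff_mem.2 (Ideal.mem_span_singleton_self _),
        TensorProduct.zero_tmul]
    · obtain ⟨c, hc⟩ := hψ b
      exact ⟨1 ⊗ₜ c, by rw [hφt, hc]⟩
  exact Algebra.Etale.of_equiv (AlgEquiv.ofBijective φ hφ).symm

variable [IsNoetherianRing A]

/-- Étaleness at a point of `V(f)` from étaleness modulo `f`. -/
theorem isEtaleAt_of_mod (hreg : IsSMulRegular A f) (S : Type u) [CommRing S] [Algebra A S]
    [Algebra.FiniteType A S] (hS : IsSMulRegular S f) [Algebra.Etale (A ⧸ Ideal.span {f}) ((A ⧸ Ideal.span {f}) ⊗[A] S)]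
    (P : Ideal S) [P.IsPrime] (hP : algebraMap A S f ∈ P) : Algebra.IsEtaleAt A P := by
  let I := Ideal.span ({f} : Set A)
  haveI : IsNoetherianRing S := Algebra.FiniteType.isNoetherianRing A S
  haveI : Algebra.FinitePresentation A S := Algebra.FinitePresentation.of_finiteType.1 inferInstance
  haveI : Algebra.EssFiniteType A S := inferInstance
  haveI hΩ : Subsingleton ((A ⧸ I) ⊗[A] Ω[S⁄A]) := by
    letI : Algebra S ((A ⧸ I) ⊗[A] S) := Algebra.TensorProduct.rightAlgebra
    exact (KaehlerDifferential.tensorKaehlerEquivBase A (A ⧸ I) S ((A ⧸ I) ⊗[A] S)).subsingleton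
  have htop : (⊤ : Submodule S Ω[S⁄A]) ≤ I.map (algebraMap A S) • ⊤ := fun x _ => by
    have hx : (Submodule.Quotient.mk x : Ω[S⁄A] ⧸ (I • ⊤ : Submodule A Ω[S⁄A])) = 0 :=
      (TensorProduct.quotTensorEquivQuotSMul Ω[S⁄A] I).symm.injective (Subsingleton.elim _ _)
    rw [Submodule.Quotient.mk_eq_zero] at hx
    refine Submodule.smul_induction_on hx (fun r hr y _ => ?_) fun _ _ => Submodule.add_mem _
    rw [← algebraMap_smul S r y]
    exact Submodule.smul_mem_smul (Ideal.mem_map_of_mem _ hr) trivial
  obtain ⟨r, hr1, hr⟩ := Submodule.exists_sub_one_mem_and_smul_eq_zero_of_fg_of_le_smul (I.map (algebraMap A S)) ⊤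
    Module.Finite.fg_top htop
  have hrP : r ∉ P := fun h => by
    have hle : I.map (algebraMap A S) ≤ P := by
      rw [Ideal.map_span, Set.image_singleton, Ideal.span_singleton_le_iff_mem]; exact hP
    have h1 := P.sub_mem h (hle hr1)
    rw [sub_sub_cancel] at h1
    exact ‹P.IsPrime›.ne_top ((Ideal.eq_top_iff_one P).2 h1)
  have hsupp : (⟨P, ‹_›⟩ : PrimeSpectrum S) ∉ Module.support S Ω[S⁄A] := by
    rw [Module.notMem_support_iff']
    exact fun m => ⟨r, hrP, hr m trivial⟩
  haveI : Algebra.IsUnramifiedAt A P := by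
    show (⟨P, ‹_›⟩ : PrimeSpectrum S) ∈ Algebra.unramifiedLocus A S
    rw [Algebra.unramifiedLocus_eq_compl_support]
    exact hsupp
  let SP := Localization.AtPrime P
  have hSP : IsSMulRegular SP f := isSMulRegular_localization f hS P.primeCompl SP
  haveI : Module.Flat A SP := by
    refine FlatCrit.flat_of_rTensor_injective (S := SP) I ?_ ?_ ?_
    · rw [IsLocalRing.jacobson_eq_maximalIdeal _ bot_ne_top, Ideal.map_span, Set.image_singleton,
        Ideal.span_singleton_le_iff_mem, IsScalarTower.algebraMap_apply A S SP]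
      exact (IsLocalization.AtPrime.to_map_mem_maximal_iff SP P _).2 hP
    · have hel : ∀ z : I ⊗[A] SP, ∃ m, z = ⟨f, Ideal.mem_span_singleton_self f⟩ ⊗ₜ[A] m := by
        intro z
        induction z using TensorProduct.induction_on with
        | zero => exact ⟨0, by simp⟩
        | tmul a m =>
          obtain ⟨c, hc⟩ := Ideal.mem_span_singleton'.1 a.2
          refine ⟨c • m, ?_⟩
          rw [TensorProduct.tmul_smul, TensorProduct.smul_tmul']
          congr 1
          exact Subtype.ext hc.symm
        | add x y hx hy =>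
          obtain ⟨m, rfl⟩ := hx
          obtain ⟨m', rfl⟩ := hy
          exact ⟨m + m', by rw [TensorProduct.tmul_add]⟩
      refine (injective_iff_map_eq_zero _).2 fun z hz => ?_
      obtain ⟨m, rfl⟩ := hel z
      have := congrArg (TensorProduct.lid A SP) hz
      rw [LinearMap.rTensor_tmul, TensorProduct.lid_tmul, map_zero] at this
      rw [show m = 0 from hSP (by simpa only [smul_zero, Submodule.subtype_apply] using this), TensorProduct.tmul_zero]
    · exact ((FlatCrit.quotFlat_of_flat I inferInstance : FlatCrit.QuotFlat A S I).baseChange (S := S) SP).of_linearEquiv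
        ((TensorProduct.AlgebraTensorModule.rid S S SP).restrictScalars A)
  exact FlatLocal.isEtaleAt_of_flatAt P

end Groth.Agent.FEtFF.FormalExtend
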