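import Groth.Agent.FEtFF.FormalCohFinite

/-!
# Finiteness of the sections of a locally free algebra on a punctured spectrum
-/

set_option autoImplicit false
set_option linter.style.haveILetI false
universe u

namespace Groth.Agent.FEtFF.FormalSectFinite

open Cech FormalLimit

variable {A : Type u} [CommRing A] [IsNoetherianRing A] {ι : Type} [Finite ι] (g : ι → A)

section general

variable {N : Type u} [AddCommGroup N] [Module A N]
  {L : A → Type u} [∀ c, AddCommGroup (L c)] [∀ c, Module A (L c)]
  (f : ∀ c, N →ₗ[A] L c) [∀ c, IsLocalizedModule (Submonoid.powers c) (f c)]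

/-- A module with coordinates in a module whose sections on the punctured spectrum are finite is finite. -/
theorem finite_of_coords (hK : Module.Finite A ↥(LinearMap.ker (CechFinite.dd f g)))
    {B : Type u} [AddCommGroup B] [Module A B] (M' : Submodule A B)
    (hM : ∀ b i, ∃ n : ℕ, g i ^ n • b ∈ M') (hB : ∀ b : B, (∀ i, ∃ n : ℕ, g i ^ n • b = 0) → b = 0)
    {P : Type} [Finite P] (l : P → (↥M' →ₗ[A] N))
    (hsep : ∀ i (x : M'), (∀ p, l p x = 0) → ∃ m : ℕ, g i ^ m • x = 0) : Module.Finite A B := by
  let S := fun i => Submonoid.powers (g i)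
  let mM := fun i => LocalizedModule.mkLinearMap (S i) ↥M'
  let mB := fun i => LocalizedModule.mkLinearMap (S i) B
  let s := fun i => IsLocalizedModule.map (S i) (mM i) (mB i) M'.subtype
  have hs : ∀ i, Function.Bijective (s i) := fun i => by
    refine ⟨IsLocalizedModule.map_injective _ _ _ _ Subtype.val_injective, fun y => ?_⟩
    obtain ⟨⟨b, _, n, rfl⟩, hb⟩ := IsLocalizedModule.surj (S i) (mB i) y
    replace hb : g i ^ n • y = mB i b := hb
    obtain ⟨k, hk⟩ := hM b i
    obtain ⟨z, hz⟩ := ((Module.End.isUnit_iff _).1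
      (IsLocalizedModule.map_units (mM i) (⟨g i ^ (k + n), k + n, rfl⟩ : S i))).2 (mM i ⟨_, hk⟩)
    replace hz : g i ^ (k + n) • z = mM i ⟨_, hk⟩ := hz
    refine ⟨z, CechFinite.pow_inj (fun c => LocalizedModule.mkLinearMap (Submonoid.powers c) B) (dvd_refl (g i)) (k + n) ?_⟩
    rw [← map_smul, hz, show s i (mM i ⟨_, hk⟩) = mB i (g i ^ k • b) from IsLocalizedModule.map_apply _ _ _ _ _,
      map_smul, ← hb, smul_smul, pow_add]
  let L' : P → ∀ i, B →ₗ[A] L (g i) := fun p i =>
    (IsLocalizedModule.map (S i) (mM i) (f (g i)) (l p)).comp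
      ((LinearEquiv.ofBijective (s i) (hs i)).symm.toLinearMap.comp (mB i))
  have hL' : ∀ p i (x : M'), L' p i x = f (g i) (l p x) := fun p i x => by
    show IsLocalizedModule.map (S i) (mM i) (f (g i)) (l p)
      ((LinearEquiv.ofBijective (s i) (hs i)).symm (mB i x.1)) = _
    rw [show mB i x.1 = LinearEquiv.ofBijective (s i) (hs i) (mM i x) from
      (IsLocalizedModule.map_apply (S i) (mM i) (mB i) M'.subtype x).symm, LinearEquiv.symm_apply_apply, IsLocalizedModule.map_apply]
  have hcl : ∀ p b, CechFinite.dd f g (fun i => L' p i b) = 0 := fun p b => by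
    funext i j
    obtain ⟨n, hn⟩ := hM b i
    refine CechFinite.pow_inj f (dvd_mul_right (g i) (g j)) n ?_
    rw [Pi.zero_apply, Pi.zero_apply, smul_zero, CechFinite.dd_apply, smul_sub,
      ← map_smul (CechFinite.res f _), ← map_smul (CechFinite.res f _),
      ← map_smul (L' p i), ← map_smul (L' p j), hL' p i ⟨_, hn⟩, hL' p j ⟨_, hn⟩, CechFinite.res_f, CechFinite.res_f,
      sub_self]
  let Ψ : B →ₗ[A] (P → ↥(LinearMap.ker (CechFinite.dd f g))) :=
    LinearMap.pi fun p => (LinearMap.pi fun i => L' p i).codRestrict _ (hcl p)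
  refine Module.Finite.of_injective Ψ ((injective_iff_map_eq_zero Ψ).2 fun b hb => hB b fun i => ?_)
  obtain ⟨n, hn⟩ := hM b i
  have hk : ∀ p, ∃ k : ℕ, g i ^ k • l p ⟨_, hn⟩ = 0 := fun p => (CechFinite.eq_zero_iff f (g i) _).1 (by
    rw [← hL' p i ⟨_, hn⟩, map_smul, show L' p i b = 0 from congrFun (congrArg Subtype.val (congrFun hb p)) i,
      smul_zero])
  choose k hk using hk
  cases nonempty_fintype P
  have hk' : ∀ p, l p (g i ^ Finset.univ.sum k • ⟨_, hn⟩) = 0 := fun p => by
    rw [map_smul, ← Nat.sub_add_cancel (Finset.single_le_sum (f := k) (fun _ _ => Nat.zero_le _) (Finset.mem_univ p)),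
      pow_add, mul_smul, hk, smul_zero]
  obtain ⟨m, hm⟩ := hsep i _ hk'
  refine ⟨m + Finset.univ.sum k + n, ?_⟩
  rw [pow_add, pow_add, mul_smul, mul_smul]
  exact congrArg Subtype.val hm

end general

section algebra

variable {R : Type u} [CommRing R] [Algebra A R]

/-- The localizations of an algebra. -/
noncomputable abbrev locF (R : Type u) [CommRing R] [Algebra A R] (c : A) : R →ₗ[A] Loc R c :=
  (IsScalarTower.toAlgHom A R (Loc R c)).toLinearMap

omit [IsNoetherianRing A] in
theorem res_eq {a c : A} (h : a ∣ c) : (resA R h).toLinearMap = CechFinite.res (locF R) h :=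
  CechFinite.res_unique (locF R) h _ fun m => resA_algebraMap h m

omit [IsNoetherianRing A] [Finite ι] in
theorem dd_eq : dd g R = CechFinite.dd (locF R) g := by
  ext d i j
  rw [CechFinite.dd_apply, ← res_eq, ← res_eq]
  rfl

omit [IsNoetherianRing A] [Finite ι] in
theorem cocycles_eq : cocycles g R = CechFinite.cocycles (locF R) g := by
  ext c
  refine forall_congr' fun i => forall_congr' fun j => forall_congr' fun k => ?_
  rw [← res_eq, ← res_eq, ← res_eq]
  rfl

/-- The two finiteness hypotheses from local cohomology. -/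
theorem finite_base [Module.Finite A R] {I : Ideal A} (hgI : Ideal.span (Set.range g) = I)
    (h1 : Module.Finite A (_root_.LocCoh.H I 1 R)) (h2 : Module.Finite A (_root_.LocCoh.H I 2 R)) :
    Module.Finite A ↥(LinearMap.ker (dd g R)) ∧
      Module.Finite A ↥((cocycles g R).map (LinearMap.range (dd g R)).mkQ) := by
  rw [dd_eq, cocycles_eq]
  exact ⟨CechFinite.finite_ker (locF R) g hgI h1, CechFinite.finite_cocycles_quotient (locF R) g hgI h2⟩

variable [Module.Finite A R] {M : Type u} [CommRing M] [Algebra A M] [Algebra R M] [IsScalarTower A R M]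

/-- An algebra which is finite and flat on the covering has finite sections. -/
theorem finite_of_locally_finite_flat [∀ i, Module.Flat R (Loc M (g i))]
    (hK : Module.Finite A ↥(LinearMap.ker (dd g R)))
    (hgen : ∀ i, ∃ S : Finset M, ∀ b : M, ∃ n : ℕ, g i ^ n • b ∈ Submodule.span A (S : Set M))
    (hB : ∀ b : M, (∀ i, algebraMap M (Loc M (g i)) b = 0) → b = 0) : Module.Finite A M := by
  classical
  cases nonempty_fintype ι
  haveI : IsNoetherianRing R := IsNoetherianRing.of_finite A R
  choose S hS using hgen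
  let M'' : Submodule R M := Submodule.span R ((Finset.univ.biUnion S : Finset M) : Set M)
  haveI : Module.Finite R M'' := Module.Finite.iff_fg.2 ⟨_, rfl⟩
  haveI : Module.FinitePresentation R M'' := Module.finitePresentation_of_finite R M''
  have hM : ∀ (b : M) i, ∃ n : ℕ, g i ^ n • b ∈ M'' := fun b i => by
    obtain ⟨n, hn⟩ := hS i b
    refine ⟨n, Submodule.span_le_restrictScalars A R _ (Submodule.span_mono ?_ hn)⟩
    intro x hx
    exact Finset.mem_biUnion.2 ⟨i, Finset.mem_univ i, hx⟩
  have hcoord : ∀ i, ∃ (d : ℕ) (φ : Fin d → (↥M'' →ₗ[R] R)) (w : Fin d → Loc M (g i)),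
      ∀ x : M'', algebraMap M (Loc M (g i)) x = ∑ k, φ k x • w k := fun i => by
    let G := algebraMap A R (g i)
    let Sm := Submonoid.powers G
    let ρM := (IsScalarTower.toAlgHom R M (Loc M (g i))).toLinearMap
    have hG : ∀ (n : ℕ) (b : M), G ^ n • b = g i ^ n • b := fun n b => by rw [← map_pow, algebraMap_smul]
    haveI : IsLocalizedModule Sm (ρM.comp M''.subtype) :=
      { map_units := IsLocalizedModule.map_units ρM
        surj := fun y => by
          obtain ⟨⟨b, _, n, rfl⟩, hb⟩ := IsLocalizedModule.surj Sm ρM y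
          obtain ⟨k, hk⟩ := hM b i
          refine ⟨⟨⟨G ^ k • b, by rw [hG]; exact hk⟩, ⟨G ^ (k + n), k + n, rfl⟩⟩, ?_⟩
          show G ^ (k + n) • y = ρM (G ^ k • b)
          rw [map_smul, ← hb, pow_add, mul_smul]
          rfl
        exists_of_eq := fun h => by
          obtain ⟨c, hc⟩ := IsLocalizedModule.exists_of_eq (S := Sm) (f := ρM) h
          exact ⟨c, Subtype.ext hc⟩ }
    let E := LocalizedModule Sm M''
    let ρ := LocalizedModule.mkLinearMap Sm M''
    let e := IsLocalizedModule.linearEquiv Sm ρ (ρM.comp M''.subtype)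
    haveI : Module.Finite (Localization.Away G) E := Module.Finite.of_isLocalizedModule Sm ρ
    haveI : Module.Flat R E := Module.Flat.of_linearEquiv e
    haveI : Module.Flat (Localization.Away G) E :=
      (Module.flat_iff_of_isLocalization (Localization.Away G) Sm E).mpr inferInstance
    letI : AddCommGroup E := Module.addCommMonoidToAddCommGroup (Localization.Away G)
    haveI : Module.FinitePresentation (Localization.Away G) E := Module.finitePresentation_of_finite _ _
    haveI : Module.Projective (Localization.Away G) E := Module.Flat.projective_of_finitePresentation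
    obtain ⟨d, φ, w, hw⟩ := exists_coords G (E := E) ρ
    refine ⟨d, φ, fun k => e (w k), fun x => ?_⟩
    have := congrArg e (hw x)
    rw [map_sum, IsLocalizedModule.linearEquiv_apply] at this
    simp only [map_smul] at this
    exact this
  choose d φ w hw using hcoord
  rw [dd_eq] at hK
  refine finite_of_coords g (locF R) hK (M''.restrictScalars A) hM (fun b hb => hB b fun i => ?_)
    (P := Σ i, Fin (d i))
    (fun p => (φ p.1 p.2).restrictScalars A) fun i x hx => ?_
  · obtain ⟨n, hn⟩ := hb i
    refine CechFinite.pow_inj (locF M) (dvd_refl (g i)) n ?_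
    rw [smul_zero]
    show g i ^ n • (IsScalarTower.toAlgHom A M (Loc M (g i))).toLinearMap b = 0
    rw [← map_smul, hn, map_zero]
  · have h0 : algebraMap M (Loc M (g i)) x.1 = 0 := (hw i x).trans
      (Finset.sum_eq_zero fun k _ => smul_eq_zero_of_left (hx ⟨i, k⟩) _)
    obtain ⟨m, hm⟩ := (CechFinite.eq_zero_iff (locF M) (g i) x.1).1 h0
    exact ⟨m, Subtype.ext hm⟩

end algebra

end Groth.Agent.FEtFF.FormalSectFinite
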