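import Groth.Agent.FEtFF.FormalAlgebra
import Groth.Agent.AdicRing.Basic
import Mathlib.RingTheory.AdicCompletion.Functoriality
import Mathlib.RingTheory.AdicCompletion.Completeness
import Mathlib.RingTheory.Noetherian.Basic

/-!
# Algebraization of systems of algebras over `A / f ^ (n + 1)` given on a punctured spectrum

A tower of algebras `M n`, each the algebra of sections of a sheaf on the punctured spectrum (glued
from its localizations at the `g i`) which is flat over `A / f ^ (n + 1)` there, has a limit which is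
finite over the `f`-complete ring `A` and surjects onto the bottom level after inverting each `g i`,
as soon as the first Čech cohomology of the bottom level is a Noetherian module.
-/

set_option autoImplicit false
set_option linter.style.haveILetI false
universe u

namespace Groth.Agent.FEtFF.FormalLimit

open Cech

variable {A : Type u} [CommRing A]

section Maps
variable {M N P : Type u} [CommRing M] [CommRing N] [CommRing P] [Algebra A M] [Algebra A N] [Algebra A P]

/-- The map of localizations induced by an algebra map. -/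
noncomputable def mapA (φ : M →ₐ[A] N) (c : A) : Loc M c →ₐ[A] Loc N c :=
  { IsLocalization.Away.lift (algebraMap A M c) (g := (algebraMap N (Loc N c)).comp φ.toRingHom)
      (by
        show IsUnit (algebraMap N (Loc N c) (φ (algebraMap A M c)))
        rw [φ.commutes]
        exact IsLocalization.Away.algebraMap_isUnit _) with
    commutes' := fun r => by
      show IsLocalization.Away.lift (algebraMap A M c) _ (algebraMap A (Loc M c) r) = _
      rw [IsScalarTower.algebraMap_apply A M (Loc M c), IsLocalization.Away.lift_eq]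
      show algebraMap N (Loc N c) (φ (algebraMap A M r)) = _
      rw [φ.commutes, ← IsScalarTower.algebraMap_apply] }

@[simp] theorem mapA_algebraMap (φ : M →ₐ[A] N) (c : A) (x : M) :
    mapA φ c (algebraMap M (Loc M c) x) = algebraMap N (Loc N c) (φ x) :=
  IsLocalization.Away.lift_eq (algebraMap A M c) (g := (algebraMap N (Loc N c)).comp φ.toRingHom)
    (by
      show IsUnit (algebraMap N (Loc N c) (φ (algebraMap A M c)))
      rw [φ.commutes]
      exact IsLocalization.Away.algebraMap_isUnit _) x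

theorem algHom_ext_loc {c : A} {E : Type u} [CommRing E] [Algebra A E] {a b : Loc M c →ₐ[A] E}
    (h : ∀ x, a (algebraMap M _ x) = b (algebraMap M _ x)) : a = b :=
  AlgHom.coe_ringHom_injective (IsLocalization.ringHom_ext (Submonoid.powers (algebraMap A M c)) (RingHom.ext h))

theorem mapA_comp (φ : M →ₐ[A] N) (ψ : N →ₐ[A] P) (c : A) (y : Loc M c) :
    mapA (ψ.comp φ) c y = mapA ψ c (mapA φ c y) :=
  AlgHom.congr_fun (algHom_ext_loc (a := mapA (ψ.comp φ) c) (b := (mapA ψ c).comp (mapA φ c)) fun x => by simp) y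

theorem mapA_id (c : A) (y : Loc M c) : mapA (AlgHom.id A M) c y = y :=
  AlgHom.congr_fun (algHom_ext_loc (a := mapA (AlgHom.id A M) c) (b := AlgHom.id A _) fun x => by simp) y

theorem resA_mapA (φ : M →ₐ[A] N) {a c : A} (h : a ∣ c) (y : Loc M a) :
    resA N h (mapA φ a y) = mapA φ c (resA M h y) :=
  AlgHom.congr_fun (algHom_ext_loc (a := (resA N h).comp (mapA φ a)) (b := (mapA φ c).comp (resA M h))
    fun x => by simp) y

theorem resA_resA {a b c : A} (h : a ∣ b) (h' : b ∣ c) (s : Loc M a) :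
    resA M h' (resA M h s) = resA M (h.trans h') s :=
  res_res (map_dvd (algebraMap A M) h) (map_dvd (algebraMap A M) h') s

end Maps

variable {ι : Type} (g : ι → A)

/-- The cochains in degree one. -/
abbrev C1 (M : Type u) [CommRing M] [Algebra A M] : Type u := ∀ i j, Loc M (g i * g j)

/-- The Čech differential. -/
noncomputable def dd (M : Type u) [CommRing M] [Algebra A M] : (∀ i, Loc M (g i)) →ₗ[A] C1 g M where
  toFun d i j := resA M (dvd_mul_right (g i) (g j)) (d i) - resA M (dvd_mul_left (g j) (g i)) (d j)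
  map_add' d d' := by
    funext i j
    simp only [Pi.add_apply, map_add]
    abel
  map_smul' r d := by
    funext i j
    simp only [Pi.smul_apply, map_smul, RingHom.id_apply, smul_sub]

/-- The cocycles. -/
def cocycles (M : Type u) [CommRing M] [Algebra A M] : Submodule A (C1 g M) where
  carrier := {c | ∀ i j k, resA M (Dvd.intro (g k) rfl : g i * g j ∣ g i * g j * g k) (c i j) +
    resA M (Dvd.intro (g i) (by ring) : g j * g k ∣ g i * g j * g k) (c j k) =
    resA M (Dvd.intro (g j) (by ring) : g i * g k ∣ g i * g j * g k) (c i k)}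
  add_mem' := fun {a b} ha hb i j k => by
    simp only [Pi.add_apply, map_add]
    rw [← ha i j k, ← hb i j k]
    abel
  zero_mem' := fun i j k => by simp
  smul_mem' := fun r c hc i j k => by
    simp only [Pi.smul_apply, map_smul]
    rw [← hc i j k, smul_add]

theorem dd_mem_cocycles (M : Type u) [CommRing M] [Algebra A M] (d : ∀ i, Loc M (g i)) :
    dd g M d ∈ cocycles g M := fun i j k => by
  simp only [dd, LinearMap.coe_mk, AddHom.coe_mk, map_sub, resA_resA]
  abel

/-- A system of algebras over `A / f ^ (n + 1)`, flat on the cover given by the `g i`. -/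
structure Sys (f : A) (g : ι → A) where
  M : ℕ → Type u
  [ring : ∀ n, CommRing (M n)]
  [alg : ∀ n, Algebra A (M n)]
  red : ∀ n, M (n + 1) →ₐ[A] M n
  f_pow : ∀ n, algebraMap A (M n) (f ^ (n + 1)) = 0
  sep : ∀ n (x : M n), (∀ i, algebraMap (M n) (Loc (M n) (g i)) x = 0) → x = 0
  glue : ∀ n (m : ∀ i, Loc (M n) (g i)), dd g (M n) m = 0 → ∃ x, ∀ i, algebraMap (M n) _ x = m i
  surj : ∀ n c, (∃ i, g i ∣ c) → Function.Surjective (mapA (red n) c)
  ker : ∀ n c, (∃ i, g i ∣ c) → ∀ y, mapA (red n) c y = 0 → ∃ z, y = f ^ (n + 1) • z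
  tors : ∀ n c, (∃ i, g i ∣ c) → ∀ z : Loc (M (n + 1)) c, f ^ (n + 1) • z = 0 → ∃ w, z = f • w

attribute [instance] Sys.ring Sys.alg

namespace Sys

variable {g} {f : A} (S : Sys f g)

/-- The transition maps. -/
noncomputable def tr {m n : ℕ} (h : m ≤ n) : S.M n →ₐ[A] S.M m :=
  Nat.leRecOn h (fun {k} φ => φ.comp (S.red k)) (AlgHom.id A (S.M m))

theorem tr_self (m : ℕ) : S.tr (le_refl m) = AlgHom.id A (S.M m) := Nat.leRecOn_self _

theorem tr_succ {m n : ℕ} (h : m ≤ n) (h' : m ≤ n + 1) : S.tr h' = (S.tr h).comp (S.red n) :=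
  Nat.leRecOn_succ h _

theorem red_tr {m n : ℕ} (h : m + 1 ≤ n) (h' : m ≤ n) (x : S.M n) :
    S.red m (S.tr h x) = S.tr h' x := by
  induction n, h using Nat.le_induction with
  | base => rw [tr_self, tr_succ S (le_refl m), tr_self]; rfl
  | succ n hn ih =>
    rw [tr_succ S hn, tr_succ S (by omega : m ≤ n), AlgHom.comp_apply, AlgHom.comp_apply, ih (by omega)]

theorem f_pow_loc (n k : ℕ) (hk : n + 1 ≤ k) (c : A) (y : Loc (S.M n) c) : f ^ k • y = 0 := by
  obtain ⟨d, rfl⟩ := Nat.exists_eq_add_of_le hk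
  rw [Algebra.smul_def, pow_add, map_mul, IsScalarTower.algebraMap_apply A (S.M n) (Loc (S.M n) c) (f ^ (n + 1)),
    S.f_pow, map_zero, zero_mul, zero_mul]

theorem surj_tr (n : ℕ) (c : A) (hc : ∃ i, g i ∣ c) :
    ∀ k (h : n ≤ k), Function.Surjective (mapA (S.tr h) c) := by
  intro k h
  induction k, h using Nat.le_induction with
  | base => rw [tr_self]; exact fun y => ⟨y, mapA_id c y⟩
  | succ k hk ih =>
    intro y
    obtain ⟨y₁, rfl⟩ := ih y
    obtain ⟨y₂, rfl⟩ := S.surj k c hc y₁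
    exact ⟨y₂, by rw [tr_succ S hk, mapA_comp]⟩

theorem ker_tr (c : A) (hc : ∃ i, g i ∣ c) (m : ℕ) :
    ∀ k (h : m ≤ k) (y : Loc (S.M k) c), mapA (S.tr h) c y = 0 → ∃ z, y = f ^ (m + 1) • z := by
  intro k h
  induction k, h using Nat.le_induction with
  | base =>
    intro y hy
    rw [tr_self, mapA_id] at hy
    exact ⟨0, by rw [hy, smul_zero]⟩
  | succ k hk ih =>
    intro y hy
    rw [tr_succ S hk, mapA_comp] at hy
    obtain ⟨z, hz⟩ := ih _ hy
    obtain ⟨z', rfl⟩ := S.surj k c hc z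
    obtain ⟨w, hw⟩ := S.ker k c hc (y - f ^ (m + 1) • z') (by rw [map_sub, hz, map_smul, sub_self])
    refine ⟨z' + f ^ (k - m) • w, ?_⟩
    rw [smul_add, smul_smul, ← pow_add, show m + 1 + (k - m) = k + 1 by omega, ← hw]
    abel

theorem smul_f_zero (c : A) (y : Loc (S.M 0) c) : f • y = 0 := by
  simpa only [pow_one] using S.f_pow_loc 0 1 le_rfl c y

/-- `f ^ (n + 1)` as a map from the bottom level. -/
theorem mu_wd (n : ℕ) (c : A) (hc : ∃ i, g i ∣ c) (y y' : Loc (S.M (n + 1)) c)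
    (h : mapA (S.tr (Nat.zero_le _)) c y = mapA (S.tr (Nat.zero_le _)) c y') : f ^ (n + 1) • y = f ^ (n + 1) • y' := by
  obtain ⟨z, hz⟩ := S.ker_tr c hc 0 _ (Nat.zero_le _) (y - y') (by rw [map_sub, h, sub_self])
  rw [← sub_eq_zero, ← smul_sub, hz, smul_smul, ← pow_add, S.f_pow_loc (n + 1) _ (by omega)]

theorem mu_inj (n : ℕ) (c : A) (hc : ∃ i, g i ∣ c) (y : Loc (S.M (n + 1)) c) (h : f ^ (n + 1) • y = 0) :
    mapA (S.tr (Nat.zero_le _)) c y = 0 := by
  obtain ⟨w, rfl⟩ := S.tors n c hc y h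
  rw [map_smul]
  exact S.smul_f_zero c _

/-- Multiplication by `f` is injective modulo the previous level. -/
theorem f_tors (n : ℕ) : ∀ (c : A), (∃ i, g i ∣ c) → ∀ z : Loc (S.M (n + 1)) c, f • z = 0 → mapA (S.red n) c z = 0 := by
  induction n with
  | zero =>
    intro c hc z hz
    obtain ⟨w, rfl⟩ := S.tors 0 c hc z (by simpa only [zero_add, pow_one] using hz)
    rw [map_smul]
    exact S.smul_f_zero c _
  | succ n ih =>
    intro c hc z hz
    obtain ⟨w, hw⟩ := S.ker n c hc (mapA (S.red (n + 1)) c z) (ih c hc _ (by rw [← map_smul, hz, map_zero]))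
    obtain ⟨w', rfl⟩ := S.surj (n + 1) c hc w
    obtain ⟨v, hv⟩ := S.ker (n + 1) c hc (z - f ^ (n + 1) • w') (by rw [map_sub, hw, map_smul, sub_self])
    rw [sub_eq_iff_eq_add] at hv
    rw [hv, smul_add, smul_smul, smul_smul, ← pow_succ', ← pow_succ', S.f_pow_loc (n + 1 + 1) _ le_rfl, zero_add] at hz
    obtain ⟨t, rfl⟩ := S.tors (n + 1) c hc w' hz
    rw [hv, map_add, map_smul, map_smul, map_smul, S.f_pow_loc (n + 1) _ (by omega), smul_smul, ← pow_succ,
      S.f_pow_loc (n + 1) _ le_rfl, add_zero]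

theorem dvd_left' (i j : ι) : ∃ l, g l ∣ g i * g j := ⟨i, dvd_mul_right _ _⟩

/-- The cochains which measure the obstruction to lifting from level `n` to level `n + 1`. -/
noncomputable def obs (n : ℕ) : Submodule A (C1 g (S.M 0)) where
  carrier := {c | ∃ (l : ∀ i, Loc (S.M (n + 1)) (g i)) (C : C1 g (S.M (n + 1))),
    (∀ i j, mapA (S.tr (Nat.zero_le _)) (g i * g j) (C i j) = c i j) ∧ dd g _ l = f ^ (n + 1) • C}
  add_mem' := by
    rintro a b ⟨l, C, hC, hl⟩ ⟨l', C', hC', hl'⟩
    exact ⟨l + l', C + C', fun i j => by simp [hC, hC'], by rw [map_add, hl, hl', smul_add]⟩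
  zero_mem' := ⟨0, 0, fun i j => by simp, by simp⟩
  smul_mem' := by
    rintro r a ⟨l, C, hC, hl⟩
    exact ⟨r • l, r • C, fun i j => by simp [hC], by rw [map_smul, hl, smul_comm]⟩

theorem obs_le_cocycles (n : ℕ) : S.obs n ≤ cocycles g (S.M 0) := by
  rintro c ⟨l, C, hC, hl⟩ i j k
  have h0 := dd_mem_cocycles g (S.M (n + 1)) l i j k
  rw [hl] at h0
  simp only [Pi.smul_apply, map_smul] at h0
  rw [← smul_add, ← sub_eq_zero, ← smul_sub] at h0
  have h1 := S.mu_inj n _ ⟨i, dvd_mul_of_dvd_left (dvd_mul_right _ _) _⟩ _ h0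
  rw [map_sub, map_add, ← resA_mapA, ← resA_mapA, ← resA_mapA, hC, hC, hC, sub_eq_zero] at h1
  exact h1

theorem range_dd_le_obs (n : ℕ) : LinearMap.range (dd g (S.M 0)) ≤ S.obs n := by
  rintro _ ⟨d, rfl⟩
  choose D hD using fun i => S.surj_tr 0 (g i) ⟨i, dvd_rfl⟩ (n + 1) (Nat.zero_le _) (d i)
  refine ⟨f ^ (n + 1) • D, dd g _ D, fun i j => ?_, map_smul _ _ _⟩
  simp only [dd, LinearMap.coe_mk, AddHom.coe_mk, map_sub, ← resA_mapA, hD]

theorem obs_succ (n : ℕ) : S.obs n ≤ S.obs (n + 1) := by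
  rintro c ⟨l, C, hC, hl⟩
  choose L hL using fun i => S.surj (n + 1) (g i) ⟨i, dvd_rfl⟩ (l i)
  choose D hD using fun i j => S.surj (n + 1) (g i * g j) (dvd_left' i j) (C i j)
  refine ⟨f • L, D, fun i j => ?_, ?_⟩
  · rw [S.tr_succ (Nat.zero_le (n + 1)), mapA_comp, hD, hC]
  · funext i j
    obtain ⟨z, hz⟩ := S.ker (n + 1) (g i * g j) (dvd_left' i j) (dd g _ L i j - f ^ (n + 1) • D i j) (by
      have := congrFun (congrFun hl i) j
      simp only [dd, LinearMap.coe_mk, AddHom.coe_mk, map_sub, map_smul, ← resA_mapA, hL, hD, Pi.smul_apply] at this ⊢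
      rw [this, sub_self])
    rw [map_smul, Pi.smul_apply, Pi.smul_apply, sub_eq_iff_eq_add.1 hz, smul_add, smul_smul, smul_smul, ← pow_succ',
      ← pow_succ', S.f_pow_loc (n + 1 + 1) _ le_rfl, zero_add]
    rfl

theorem obs_stable [IsNoetherian A ↥((cocycles g (S.M 0)).map (LinearMap.range (dd g (S.M 0))).mkQ)] :
    ∃ n₀, ∀ n, n₀ ≤ n → S.obs n = S.obs n₀ := by
  let B := LinearMap.range (dd g (S.M 0))
  let Z' := (cocycles g (S.M 0)).map B.mkQ
  have hmono : Monotone fun n => ((S.obs n).map B.mkQ).comap Z'.subtype := monotone_nat_of_le_succ fun n =>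
    Submodule.comap_mono (Submodule.map_mono (S.obs_succ n))
  obtain ⟨n₀, h⟩ := monotone_stabilizes_iff_noetherian.2 ‹IsNoetherian A ↥Z'› ⟨_, hmono⟩
  refine ⟨n₀, fun n hn => ?_⟩
  have h1 := congrArg (Submodule.map Z'.subtype) (h n hn)
  simp only [OrderHom.coe_mk, Submodule.map_comap_subtype] at h1
  rw [inf_eq_right.2 (Submodule.map_mono (S.obs_le_cocycles n₀)), inf_eq_right.2 (Submodule.map_mono (S.obs_le_cocycles n))] at h1
  have h2 := congrArg (Submodule.comap B.mkQ) h1
  rw [Submodule.comap_map_mkQ, Submodule.comap_map_mkQ, sup_eq_right.2 (S.range_dd_le_obs n₀),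
    sup_eq_right.2 (S.range_dd_le_obs n)] at h2
  exact h2.symm

/-- An obstruction at level `n₀` is realised at every higher level by lifts divisible by the extra power of `f`. -/
theorem obs_divisible {n₀ : ℕ} {c : C1 g (S.M 0)} (hc : c ∈ S.obs n₀) :
    ∀ n, n₀ ≤ n → ∃ (y : ∀ i, Loc (S.M (n + 1)) (g i)) (C : C1 g (S.M (n + 1))),
      (∀ i j, mapA (S.tr (Nat.zero_le _)) (g i * g j) (C i j) = c i j) ∧
      f ^ (n - n₀) • dd g _ y = f ^ (n + 1) • C := by
  intro n hn
  induction n, hn using Nat.le_induction with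
  | base =>
    obtain ⟨l, C, hC, hl⟩ := hc
    exact ⟨l, C, hC, by rw [Nat.sub_self, pow_zero, one_smul, hl]⟩
  | succ n hn ih =>
    obtain ⟨y, C, hC, hy⟩ := ih
    choose Y hY using fun i => S.surj (n + 1) (g i) ⟨i, dvd_rfl⟩ (y i)
    choose D hD using fun i j => S.surj (n + 1) (g i * g j) (dvd_left' i j) (C i j)
    refine ⟨Y, D, fun i j => by rw [S.tr_succ (Nat.zero_le (n + 1)), mapA_comp, hD, hC], ?_⟩
    funext i j
    obtain ⟨z, hz⟩ := S.ker (n + 1) (g i * g j) (dvd_left' i j)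
      (f ^ (n - n₀) • dd g _ Y i j - f ^ (n + 1) • D i j) (by
      have := congrFun (congrFun hy i) j
      simp only [dd, LinearMap.coe_mk, AddHom.coe_mk, map_sub, map_smul, ← resA_mapA, hY, hD, Pi.smul_apply] at this ⊢
      rw [this, sub_self])
    rw [Pi.smul_apply, Pi.smul_apply, show n + 1 - n₀ = (n - n₀) + 1 by omega, pow_succ', ← smul_smul,
      sub_eq_iff_eq_add.1 hz, smul_add, smul_smul, smul_smul, ← pow_succ', ← pow_succ',
      S.f_pow_loc (n + 1 + 1) _ le_rfl, zero_add]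
    rfl

/-- Past the stable range every element lifts up to a correction divisible by a high power of `f`. -/
theorem step {n₀ : ℕ} (h₀ : ∀ n, n₀ ≤ n → S.obs n = S.obs n₀) {n : ℕ} (hn : n₀ ≤ n) (x : S.M n) :
    ∃ x' : S.M (n + 1), ∀ i, ∃ z, algebraMap (S.M n) (Loc (S.M n) (g i)) (S.red n x' - x) = f ^ (n - n₀) • z := by
  choose l hl using fun i => S.surj n (g i) ⟨i, dvd_rfl⟩ (algebraMap (S.M n) _ x)
  have hk : ∀ i j, ∃ C, dd g (S.M (n + 1)) l i j = f ^ (n + 1) • C := fun i j => S.ker n _ (dvd_left' i j) _ (by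
    simp only [dd, LinearMap.coe_mk, AddHom.coe_mk, map_sub, ← resA_mapA, hl, resA_algebraMap, sub_self])
  choose C hC using hk
  let c : C1 g (S.M 0) := fun i j => mapA (S.tr (Nat.zero_le _)) (g i * g j) (C i j)
  have hc : c ∈ S.obs n := ⟨l, C, fun i j => rfl, funext fun i => funext fun j => hC i j⟩
  rw [h₀ n hn] at hc
  obtain ⟨y, C', hC', hy⟩ := S.obs_divisible hc n hn
  obtain ⟨x', hx'⟩ := S.glue (n + 1) (l - f ^ (n - n₀) • y) (by
    rw [map_sub, map_smul, hy]
    funext i j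
    rw [Pi.sub_apply, Pi.sub_apply, hC, Pi.smul_apply, Pi.smul_apply, S.mu_wd n _ (dvd_left' i j) (C i j) (C' i j)
      (hC' i j).symm, sub_self]
    rfl)
  refine ⟨x', fun i => ⟨-mapA (S.red n) (g i) (y i), ?_⟩⟩
  rw [map_sub, ← mapA_algebraMap (S.red n) (g i) x', hx', Pi.sub_apply, Pi.smul_apply, map_sub, hl, map_smul, smul_neg]
  abel

/-- The limit of the system. -/
def lim : Subalgebra A (∀ n, S.M n) where
  carrier := {x | ∀ n, S.red n (x (n + 1)) = x n}
  mul_mem' := fun {a b} ha hb n => by simp only [Pi.mul_apply, map_mul]; rw [ha n, hb n]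
  add_mem' := fun {a b} ha hb n => by simp only [Pi.add_apply, map_add]; rw [ha n, hb n]
  algebraMap_mem' := fun r n => (S.red n).commutes r

/-- The projection to the bottom level. -/
noncomputable def proj : S.lim →ₐ[A] S.M 0 := (Pi.evalAlgHom A S.M 0).comp S.lim.val

theorem lim_tr (x : S.lim) {m n : ℕ} (h : m ≤ n) : S.tr h (x.1 n) = x.1 m := by
  induction n, h using Nat.le_induction with
  | base => rw [tr_self]; rfl
  | succ n hn ih => rw [tr_succ S hn, AlgHom.comp_apply, x.2 n, ih]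

theorem exists_lift [IsNoetherian A ↥((cocycles g (S.M 0)).map (LinearMap.range (dd g (S.M 0))).mkQ)] :
    ∃ N, ∀ x : S.M N, ∃ y : S.lim, S.proj y = S.tr (Nat.zero_le N) x := by
  obtain ⟨n₀, h₀⟩ := S.obs_stable
  refine ⟨n₀ + 1, fun x => ?_⟩
  choose next hnext using fun k => fun x : S.M (n₀ + 1 + k) =>
    S.step h₀ (by omega : n₀ ≤ n₀ + 1 + k) x
  let Y : ∀ k, S.M (n₀ + 1 + k) := fun k => Nat.rec x (fun k y => next k y) k
  have key : ∀ m, S.red m (S.tr (by omega : m + 1 ≤ n₀ + 1 + (m + 1)) (Y (m + 1))) =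
      S.tr (by omega : m ≤ n₀ + 1 + m) (Y m) := fun m => by
    rw [S.red_tr _ (by omega : m ≤ n₀ + 1 + (m + 1))]
    rw [show S.tr (by omega : m ≤ n₀ + 1 + (m + 1)) (Y (m + 1)) = (S.tr (by omega : m ≤ n₀ + 1 + m)) (S.red _ (Y (m + 1))) from
      AlgHom.congr_fun (S.tr_succ (by omega : m ≤ n₀ + 1 + m) _) _]
    rw [← sub_eq_zero, ← map_sub]
    refine S.sep m _ fun i => ?_
    obtain ⟨z, hz⟩ := hnext m (Y m) i
    rw [← mapA_algebraMap, hz, map_smul, S.f_pow_loc m _ (by omega)]
  exact ⟨⟨fun m => S.tr (by omega : m ≤ n₀ + 1 + m) (Y m), key⟩, rfl⟩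

theorem exists_eq_f_smul (x : S.lim) (hx : S.proj x = 0) : ∃ y : S.lim, x = f • y := by
  have hloc : ∀ n i, ∃ z, algebraMap (S.M (n + 1)) (Loc (S.M (n + 1)) (g i)) (x.1 (n + 1)) = f • z := fun n i => by
    obtain ⟨z, hz⟩ := S.ker_tr (g i) ⟨i, dvd_rfl⟩ 0 (n + 1) (Nat.zero_le _) (algebraMap (S.M (n + 1)) _ (x.1 (n + 1)))
      (by rw [mapA_algebraMap, S.lim_tr x]; exact (congrArg (algebraMap _ _) hx).trans (map_zero _))
    exact ⟨z, by rw [hz, zero_add, pow_one]⟩
  choose Z hZ using hloc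
  have hglue : ∀ n, ∃ y : S.M n, ∀ i, algebraMap (S.M n) _ y = mapA (S.red n) (g i) (Z n i) := fun n =>
    S.glue n _ (funext fun i => funext fun j => by
      simp only [dd, LinearMap.coe_mk, AddHom.coe_mk, resA_mapA, ← map_sub, Pi.zero_apply]
      refine S.f_tors n _ (dvd_left' i j) _ ?_
      rw [smul_sub, ← map_smul, ← map_smul, ← hZ, ← hZ, resA_algebraMap, resA_algebraMap, sub_self])
  choose y hy using hglue
  refine ⟨⟨y, fun n => ?_⟩, Subtype.ext (funext fun n => ?_)⟩
  · rw [← sub_eq_zero]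
    refine S.sep n _ fun i => ?_
    rw [map_sub, ← mapA_algebraMap, hy, hy, ← map_sub]
    refine S.f_tors n _ ⟨i, dvd_rfl⟩ _ ?_
    rw [smul_sub, ← map_smul, ← hZ, ← hZ, mapA_algebraMap, x.2, sub_self]
  · show x.1 n = f • y n
    rw [← x.2 n, ← sub_eq_zero]
    refine S.sep n _ fun i => ?_
    rw [map_sub, ← mapA_algebraMap, hZ, Algebra.smul_def f (y n), map_mul, hy, ← IsScalarTower.algebraMap_apply,
      ← Algebra.smul_def, ← map_smul, sub_self]

theorem eq_zero_of_f_smul (x : S.lim) (hx : f • x = 0) : x = 0 := by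
  refine Subtype.ext (funext fun n => ?_)
  refine S.sep n _ fun i => ?_
  rw [← x.2 n, ← mapA_algebraMap]
  refine S.f_tors n _ ⟨i, dvd_rfl⟩ _ ?_
  have h1 : f • x.1 (n + 1) = 0 := congrFun (congrArg Subtype.val hx) (n + 1)
  rw [Algebra.smul_def] at h1 ⊢
  rw [IsScalarTower.algebraMap_apply A (S.M (n + 1)) (Loc (S.M (n + 1)) (g i)), ← map_mul, h1, map_zero]

theorem exists_pow_mem_range [IsNoetherian A ↥((cocycles g (S.M 0)).map (LinearMap.range (dd g (S.M 0))).mkQ)]
    (i : ι) (x : S.M 0) : ∃ k : ℕ, g i ^ k • x ∈ LinearMap.range S.proj.toLinearMap := by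
  obtain ⟨N, hN⟩ := S.exists_lift
  obtain ⟨l, hl⟩ := S.surj_tr 0 (g i) ⟨i, dvd_rfl⟩ N (Nat.zero_le _) (algebraMap (S.M 0) _ x)
  obtain ⟨m, b, hb⟩ := exists_pow_mul l
  have e := congrArg (mapA (S.tr (Nat.zero_le N)) (g i)) hb
  rw [map_mul, mapA_algebraMap, mapA_algebraMap, hl, ← map_mul, map_pow, AlgHom.commutes] at e
  obtain ⟨k, hk⟩ := exists_pow_of_eq_zero
    (show algebraMap (S.M 0) (Loc (S.M 0) (g i)) (algebraMap A (S.M 0) (g i) ^ m * x - S.tr (Nat.zero_le N) b) = 0 by
      rw [map_sub, e, sub_self])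
  obtain ⟨y, hy⟩ := hN (g i ^ k • b)
  refine ⟨k + m, y, ?_⟩
  show S.proj y = _
  rw [hy, map_smul, Algebra.smul_def, Algebra.smul_def, map_pow, map_pow, pow_add, mul_assoc]
  rw [mul_sub, sub_eq_zero] at hk
  exact hk.symm

theorem finite_lim [IsNoetherianRing A] [IsAdicComplete (Ideal.span {f}) A] [Module.Finite A (S.M 0)] :
    Module.Finite A S.lim := by
  obtain ⟨r, v, hv⟩ := Submodule.fg_iff_exists_fin_generating_family.1
    (IsNoetherian.noetherian (LinearMap.range S.proj.toLinearMap))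
  choose w hw using fun i => (hv.le (Submodule.subset_span ⟨i, rfl⟩) : v i ∈ LinearMap.range S.proj.toLinearMap)
  let P : (Fin r → A) →ₗ[A] S.lim := Fintype.linearCombination A w
  refine Module.Finite.of_surjective P ?_
  have hI : ∀ (m : ℕ) (x : S.lim), x ∈ (Ideal.span {f} ^ m • ⊤ : Submodule A S.lim) → ∃ y, x = f ^ m • y := fun m x hx => by
    rw [Ideal.span_singleton_pow, Submodule.ideal_span_singleton_smul] at hx
    obtain ⟨y, -, hy⟩ := hx
    exact ⟨y, hy.symm⟩
  haveI : IsHausdorff (Ideal.span {f}) S.lim := ⟨fun x hx => Subtype.ext (funext fun n => by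
    have := hx (n + 1)
    rw [SModEq.zero] at this
    obtain ⟨y, rfl⟩ := hI _ _ this
    show f ^ (n + 1) • y.1 n = 0
    rw [Algebra.smul_def, S.f_pow, zero_mul])⟩
  haveI := Groth.Agent.AdicRing.isPrecomplete_of_finite (Ideal.span {f}) (Fin r → A)
  refine surjective_of_mkQ_comp_surjective (I := Ideal.span {f}) (f := P) fun z => ?_
  obtain ⟨x, rfl⟩ := Submodule.mkQ_surjective _ z
  have hx : S.proj x ∈ Submodule.span A (Set.range v) := hv.ge ⟨x, rfl⟩
  obtain ⟨a, ha⟩ := (Submodule.mem_span_range_iff_exists_fun A).1 hx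
  refine ⟨a, ?_⟩
  obtain ⟨y, hy⟩ := S.exists_eq_f_smul (x - P a) (by
    rw [map_sub, Fintype.linearCombination_apply, map_sum, sub_eq_zero, ← ha]
    refine Finset.sum_congr rfl fun i _ => ?_
    rw [map_smul]
    exact congrArg _ (hw i).symm)
  show Submodule.Quotient.mk (P a) = Submodule.Quotient.mk x
  refine ((Submodule.Quotient.eq _).2 ?_).symm
  rw [hy]
  exact Submodule.smul_mem_smul (Ideal.mem_span_singleton_self f) trivial

end Sys

end Groth.Agent.FEtFF.FormalLimit
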