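import Groth.Agent.FEtFF.CechDepth
import Mathlib.Algebra.Module.FinitePresentation
import Mathlib.RingTheory.Localization.Module
import Mathlib.RingTheory.Finiteness.Projective
import Mathlib.Algebra.Module.LocalizedModule.IsLocalization

/-!
# Formal sections of modules that are projective on the punctured spectrum
-/

set_option autoImplicit false
set_option linter.style.haveILetI false
universe u

namespace Groth.Agent.FEtFF.Cech

variable {A : Type u} [CommRing A]

theorem res_smul {a c : A} (h : a ∣ c) (r : A) (s : Localization.Away a) : res h (r • s) = r • res h s := by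
  rw [Algebra.smul_def, Algebra.smul_def, map_mul, res_algebraMap]

/-- Restriction as a linear map. -/
noncomputable def resₗ {a c : A} (h : a ∣ c) : Localization.Away a →ₗ[A] Localization.Away c where
  toFun := res h
  map_add' := map_add _
  map_smul' := res_smul h

theorem dvd_iff_exists_smul {c : A} (r : A) (s : Localization.Away c) :
    algebraMap A (Localization.Away c) r ∣ s ↔ ∃ t, r • t = s :=
  ⟨fun ⟨t, ht⟩ => ⟨t, by rw [Algebra.smul_def, ht]⟩, fun ⟨t, ht⟩ => ⟨t, by rw [← ht, Algebra.smul_def]⟩⟩

/-- A localization of a finitely presented module which is projective has global coordinates. -/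
theorem exists_coords (c : A) {M : Type u} [AddCommGroup M] [Module A M] [Module.FinitePresentation A M]
    {E : Type u} [AddCommGroup E] [Module A E] [Module (Localization.Away c) E]
    [IsScalarTower A (Localization.Away c) E] (ρ : M →ₗ[A] E) [IsLocalizedModule (Submonoid.powers c) ρ]
    [Module.Finite (Localization.Away c) E] [Module.Projective (Localization.Away c) E] :
    ∃ (d : ℕ) (φ : Fin d → (M →ₗ[A] A)) (w : Fin d → E), ∀ x, ρ x = ∑ k, φ k x • w k := by
  obtain ⟨d, π, ι, -, -, hπι⟩ := Module.Finite.exists_comp_eq_id_of_projective (Localization.Away c) E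
  let β : Fin d → (M →ₗ[A] Localization.Away c) := fun k =>
    (((LinearMap.proj k).comp ι).restrictScalars A).comp ρ
  choose φ s hφ using fun k => Module.FinitePresentation.exists_lift_of_isLocalizedModule (Submonoid.powers c)
    (Algebra.linearMap A (Localization.Away c)) (β k)
  refine ⟨d, φ, fun k => ((IsLocalization.map_units (Localization.Away c) (s k)).unit⁻¹).1 • π (Pi.single k 1), fun x => ?_⟩
  have h0 : ρ x = π (ι (ρ x)) := (LinearMap.congr_fun hπι (ρ x)).symm
  rw [h0, pi_eq_sum_univ' (ι (ρ x)), map_sum]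
  refine Finset.sum_congr rfl fun k _ => ?_
  have hk : algebraMap A (Localization.Away c) (φ k x) = algebraMap A _ (s k : A) * ι (ρ x) k := by
    have := LinearMap.congr_fun (hφ k) x
    simp only [LinearMap.coe_comp, Function.comp_apply, Algebra.linearMap_apply, LinearMap.smul_apply] at this
    rw [this, Submonoid.smul_def, Algebra.smul_def]
    rfl
  rw [map_smul, ← algebraMap_smul (Localization.Away c) (φ k x), hk, smul_smul]
  congr 1
  rw [mul_assoc, mul_comm (ι (ρ x) k), ← mul_assoc, IsUnit.mul_val_inv, one_mul]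

variable {ι : Type} [Finite ι] (g : ι → A) {ix iy iz : ι} [IsNoetherianRing A] (f : A)
  (H : RegTriple (g ix) (g iy) (g iz))
  {M : Type u} [AddCommGroup M] [Module A M] [Module.Finite A M]
  {L : ι → Type u} [∀ i, AddCommGroup (L i)] [∀ i, Module A (L i)] (ρ : ∀ i, M →ₗ[A] L i)
  [∀ i, IsLocalizedModule (Submonoid.powers (g i)) (ρ i)]
  {P : Type} [Fintype P] (φ : P → (M →ₗ[A] A)) (w : ∀ i, P → L i)
  (hw : ∀ i x, ρ i x = ∑ p, φ p x • w i p)
  (hM0 : ∀ x, (∀ i, ρ i x = 0) → x = 0)

include H hw hM0 in
/-- An element which is locally divisible by every power of `f` vanishes. -/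
theorem eq_zero_of_locally_module [IsHausdorff (Ideal.span {f}) A] (x : M)
    (hx : ∀ (n : ℕ) i, ∃ c, f ^ n • c = ρ i x) : x = 0 := by
  refine hM0 x fun i => ?_
  rw [hw]
  refine Finset.sum_eq_zero fun p _ => ?_
  rw [eq_zero_of_locally g f H (φ p x) fun n j => ?_, zero_smul]
  obtain ⟨c, hc⟩ := hx n j
  let Φ := IsLocalizedModule.lift (Submonoid.powers (g j)) (ρ j)
    ((Algebra.linearMap A (Localization.Away (g j))).comp (φ p))
    (IsLocalizedModule.map_units (Algebra.linearMap A (Localization.Away (g j))))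
  rw [dvd_iff_exists_smul]
  refine ⟨Φ c, ?_⟩
  rw [← map_smul, hc, IsLocalizedModule.lift_apply]
  rfl

variable {L₂ : ι → ι → Type u} [∀ i j, AddCommGroup (L₂ i j)] [∀ i j, Module A (L₂ i j)]
  (ρ₂ : ∀ i j, M →ₗ[A] L₂ i j) [∀ i j, IsLocalizedModule (Submonoid.powers (g i * g j)) (ρ₂ i j)]
  (q₁ : ∀ i j, L i →ₗ[A] L₂ i j) (q₂ : ∀ i j, L j →ₗ[A] L₂ i j)
  (hq₁ : ∀ i j x, q₁ i j (ρ i x) = ρ₂ i j x) (hq₂ : ∀ i j x, q₂ i j (ρ j x) = ρ₂ i j x)
  (hM1 : ∀ m : ∀ i, L i, (∀ i j, q₁ i j (m i) = q₂ i j (m j)) → ∃ x, ∀ i, ρ i x = m i)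

include H hw hq₁ hq₂ hM1 in
/-- Compatible systems modulo powers of `f` come from `M`. -/
theorem exists_of_locally_module [IsAdicComplete (Ideal.span {f}) A] (s : ℕ → ∀ i, L i)
    (h1 : ∀ n i, ∃ c, f ^ n • c = s (n + 1) i - s n i)
    (h2 : ∀ n i j, ∃ c, f ^ n • c = q₁ i j (s n i) - q₂ i j (s n j)) :
    ∃ x : M, ∀ n i, ∃ c, f ^ n • c = ρ i x - s n i := by
  classical
  haveI : Module.FinitePresentation A M := Module.finitePresentation_of_finite A M
  -- coordinates
  let Φ : ∀ i, P → (L i →ₗ[A] Localization.Away (g i)) := fun i p =>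
    IsLocalizedModule.lift (Submonoid.powers (g i)) (ρ i) ((Algebra.linearMap A _).comp (φ p))
      (IsLocalizedModule.map_units (Algebra.linearMap A (Localization.Away (g i))))
  have hΦ : ∀ i p x, Φ i p (ρ i x) = algebraMap A _ (φ p x) := fun i p x => IsLocalizedModule.lift_apply _ _ _ _ x
  let Φ₂ : ∀ i j, P → (L₂ i j →ₗ[A] Localization.Away (g i * g j)) := fun i j p =>
    IsLocalizedModule.lift (Submonoid.powers (g i * g j)) (ρ₂ i j) ((Algebra.linearMap A _).comp (φ p))
      (IsLocalizedModule.map_units (Algebra.linearMap A (Localization.Away (g i * g j))))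
  have hΦ₂ : ∀ i j p x, Φ₂ i j p (ρ₂ i j x) = algebraMap A _ (φ p x) := fun i j p x => IsLocalizedModule.lift_apply _ _ _ _ x
  have hu : ∀ i j (k : Submonoid.powers (g i)), IsUnit (algebraMap A (Module.End A (Localization.Away (g i * g j))) k) := by
    rintro i j ⟨_, n, rfl⟩
    rw [map_pow]
    refine IsUnit.pow n ?_
    have hu := IsLocalizedModule.map_units (Algebra.linearMap A (Localization.Away (g i * g j)))
      (⟨g i * g j, Submonoid.mem_powers _⟩ : Submonoid.powers (g i * g j))
    rw [show ((⟨g i * g j, Submonoid.mem_powers _⟩ : Submonoid.powers (g i * g j)) : A) = g i * g j from rfl,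
      map_mul] at hu
    exact ((Commute.all (g i) (g j)).map (algebraMap A _)).isUnit_mul_iff.1 hu |>.1
  have hu' : ∀ i j (k : Submonoid.powers (g j)), IsUnit (algebraMap A (Module.End A (Localization.Away (g i * g j))) k) := by
    intro i j k
    have h := hu j i k
    rwa [mul_comm (g j) (g i)] at h
  have hΦq₁ : ∀ i j p y, Φ₂ i j p (q₁ i j y) = resₗ (dvd_mul_right (g i) (g j)) (Φ i p y) := fun i j p y => by
    refine LinearMap.congr_fun (IsLocalizedModule.ext (Submonoid.powers (g i)) (ρ i) (hu i j)
      (j := (Φ₂ i j p).comp (q₁ i j)) (k := (resₗ (dvd_mul_right (g i) (g j))).comp (Φ i p)) (LinearMap.ext fun x => ?_)) y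
    show Φ₂ i j p (q₁ i j (ρ i x)) = res (dvd_mul_right (g i) (g j)) (Φ i p (ρ i x))
    rw [hq₁, hΦ₂, hΦ, res_algebraMap]
  have hΦq₂ : ∀ i j p y, Φ₂ i j p (q₂ i j y) = resₗ (dvd_mul_left (g j) (g i)) (Φ j p y) := fun i j p y => by
    refine LinearMap.congr_fun (IsLocalizedModule.ext (Submonoid.powers (g j)) (ρ j) (hu' i j)
      (j := (Φ₂ i j p).comp (q₂ i j)) (k := (resₗ (dvd_mul_left (g j) (g i))).comp (Φ j p)) (LinearMap.ext fun x => ?_)) y
    show Φ₂ i j p (q₂ i j (ρ j x)) = res (dvd_mul_left (g j) (g i)) (Φ j p (ρ j x))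
    rw [hq₂, hΦ₂, hΦ, res_algebraMap]
  choose c1 hc1 using h1
  choose c2 hc2 using h2
  choose a ha using fun p => exists_of_locally g f H (fun n i => Φ i p (s n i))
    (fun n i => (dvd_iff_exists_smul _ _).2 ⟨Φ i p (c1 n i), by rw [← map_smul, hc1, map_sub]⟩)
    (fun n i j => (dvd_iff_exists_smul _ _).2 ⟨Φ₂ i j p (c2 n i j), by
      rw [← map_smul, hc2, map_sub, hΦq₁, hΦq₂]; rfl⟩)
  -- the candidate
  let ω : ∀ i, P → (Localization.Away (g i) →ₗ[A] L i) := fun i p =>
    IsLocalizedModule.lift (Submonoid.powers (g i)) (Algebra.linearMap A (Localization.Away (g i)))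
      (LinearMap.toSpanSingleton A (L i) (w i p)) (IsLocalizedModule.map_units (ρ i))
  have hω : ∀ i p r, ω i p (algebraMap A _ r) = r • w i p := fun i p r =>
    IsLocalizedModule.lift_apply _ _ _ _ r
  have hsum : ∀ i y, ∑ p, ω i p (Φ i p y) = y := fun i y => by
    have := LinearMap.congr_fun (IsLocalizedModule.ext (Submonoid.powers (g i)) (ρ i)
      (IsLocalizedModule.map_units (ρ i)) (j := ∑ p, (ω i p).comp (Φ i p)) (k := LinearMap.id)
      (LinearMap.ext fun x => by simp [hΦ, hω, ← hw])) y
    simpa using this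
  let m : ∀ i, L i := fun i => ∑ p, a p • w i p
  have hm : ∀ n i, ∃ c, f ^ n • c = m i - s n i := fun n i => by
    choose c hc using fun p => (dvd_iff_exists_smul _ _).1 (ha p n i)
    refine ⟨∑ p, ω i p (c p), ?_⟩
    conv_rhs => rw [← hsum i (s n i)]
    rw [Finset.smul_sum, ← Finset.sum_sub_distrib]
    exact Finset.sum_congr rfl fun p _ => by rw [← map_smul, hc, map_sub, hω]
  -- its coordinates are `a`
  have hcoord : ∀ i p, Φ i p (m i) = algebraMap A _ (a p) := fun i p₀ => by
    let Λ : (P → A) →ₗ[A] Localization.Away (g i) :=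
      (Algebra.linearMap A _).comp (LinearMap.proj p₀) -
        ∑ p, (LinearMap.toSpanSingleton A _ (Φ i p₀ (w i p))).comp (LinearMap.proj p)
    have hΛ : ∀ b, Λ b = algebraMap A _ (b p₀) - Φ i p₀ (∑ p, b p • w i p) := fun b => by simp [Λ]
    obtain ⟨h, t, ht⟩ := Module.FinitePresentation.exists_lift_of_isLocalizedModule (Submonoid.powers (g i))
      (Algebra.linearMap A (Localization.Away (g i))) Λ
    have hker : ∀ x, ∃ e : ℕ, g i ^ e * h (fun p => φ p x) = 0 := fun x => by
      refine exists_pow_of_eq_zero ?_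
      have := LinearMap.congr_fun ht (fun p => φ p x)
      simp only [LinearMap.coe_comp, Function.comp_apply, Algebra.linearMap_apply, LinearMap.smul_apply] at this
      rw [this, hΛ, ← hw, hΦ, sub_self, smul_zero]
    obtain ⟨r, b, hb⟩ := Module.Finite.exists_fin (R := A) (M := M)
    choose e he using fun k => hker (b k)
    let E := Finset.univ.sup e
    let h' := g i ^ E • h
    have hzero : (h'.comp (LinearMap.pi φ)) = 0 := by
      refine LinearMap.ext_on_range hb fun k => ?_
      show g i ^ E • h (fun p => φ p (b k)) = 0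
      rw [smul_eq_mul, ← pow_sub_mul_pow (g i) (Finset.le_sup (Finset.mem_univ k) : e k ≤ E), mul_assoc, he,
        mul_zero]
    have ha0 : h' a = 0 := by
      refine eq_zero_of_locally g f H _ fun n j => ?_
      choose c hc using fun p => (dvd_iff_exists_smul _ _).1 (ha p n j)
      rw [dvd_iff_exists_smul]
      refine ⟨∑ p, h' (Pi.single p 1) • c p, ?_⟩
      have hj : ∀ y, ∑ p, h' (Pi.single p 1) • Φ j p y = 0 := fun y => by
        have := LinearMap.congr_fun (IsLocalizedModule.ext (Submonoid.powers (g j)) (ρ j)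
          (IsLocalizedModule.map_units (Algebra.linearMap A (Localization.Away (g j))))
          (j := ∑ p, h' (Pi.single p 1) • Φ j p) (k := 0) (LinearMap.ext fun x => by
            have h0 : h' (fun p => φ p x) = 0 := LinearMap.congr_fun hzero x
            rw [pi_eq_sum_univ' (fun p => φ p x), map_sum] at h0
            simp only [map_smul, smul_eq_mul] at h0
            simp only [LinearMap.coe_comp, Function.comp_apply, LinearMap.sum_apply, LinearMap.smul_apply, hΦ,
              Algebra.smul_def, ← map_mul, ← map_sum, LinearMap.zero_apply]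
            rw [← (algebraMap A (Localization.Away (g j))).map_zero, ← h0]
            exact congrArg _ (Finset.sum_congr rfl fun p _ => mul_comm _ _))) y
        simpa using this
      rw [Finset.smul_sum]
      calc _ = ∑ p, h' (Pi.single p 1) • (algebraMap A (Localization.Away (g j)) (a p) - Φ j p (s n j)) :=
            Finset.sum_congr rfl fun p _ => by rw [smul_comm, hc]
        _ = ∑ p, h' (Pi.single p 1) • algebraMap A (Localization.Away (g j)) (a p) := by
            simp only [smul_sub, Finset.sum_sub_distrib, hj, sub_zero]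
        _ = _ := by
            conv_rhs => rw [pi_eq_sum_univ' a, map_sum, map_sum]
            refine Finset.sum_congr rfl fun p _ => ?_
            rw [map_smul, Algebra.smul_def, smul_eq_mul, map_mul, mul_comm]
    have h3 : Λ a = 0 := by
      have := LinearMap.congr_fun ht a
      simp only [LinearMap.coe_comp, Function.comp_apply, Algebra.linearMap_apply, LinearMap.smul_apply,
        Submonoid.smul_def, Algebra.smul_def] at this
      have h4 : algebraMap A (Localization.Away (g i)) (g i ^ E * h a) = 0 := by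
        rw [show g i ^ E * h a = h' a from rfl, ha0, map_zero]
      rw [map_mul, this] at h4
      exact (IsLocalization.map_units _ t).mul_right_eq_zero.1 ((isUnit_pow_algebraMap (dvd_refl (g i)) E).mul_right_eq_zero.1 h4)
    rw [hΛ, sub_eq_zero] at h3
    exact h3.symm
  -- glue
  have hglue : ∀ i j, q₁ i j (m i) = q₂ i j (m j) := fun i j => by
    let ω₂ : P → (Localization.Away (g i * g j) →ₗ[A] L₂ i j) := fun p =>
      IsLocalizedModule.lift (Submonoid.powers (g i * g j)) (Algebra.linearMap A (Localization.Away (g i * g j)))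
        (LinearMap.toSpanSingleton A (L₂ i j) (q₁ i j (w i p))) (IsLocalizedModule.map_units (ρ₂ i j))
    have hω₂ : ∀ p r, ω₂ p (algebraMap A _ r) = r • q₁ i j (w i p) := fun p r =>
      IsLocalizedModule.lift_apply _ _ _ _ r
    have hsum₂ : ∀ y, ∑ p, ω₂ p (Φ₂ i j p y) = y := fun y => by
      have := LinearMap.congr_fun (IsLocalizedModule.ext (Submonoid.powers (g i * g j)) (ρ₂ i j)
        (IsLocalizedModule.map_units (ρ₂ i j)) (j := ∑ p, (ω₂ p).comp (Φ₂ i j p)) (k := LinearMap.id)
        (LinearMap.ext fun x => by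
          simp only [LinearMap.coe_comp, Function.comp_apply, LinearMap.sum_apply, LinearMap.id_coe, id_eq, hΦ₂, hω₂]
          conv_rhs => rw [← hq₁ i j x, hw, map_sum]
          simp only [map_smul])) y
      simpa using this
    rw [← hsum₂ (q₁ i j (m i)), ← hsum₂ (q₂ i j (m j))]
    refine Finset.sum_congr rfl fun p _ => ?_
    rw [hΦq₁, hΦq₂, hcoord, hcoord]
    show ω₂ p (res (dvd_mul_right (g i) (g j)) (algebraMap A _ (a p))) =
      ω₂ p (res (dvd_mul_left (g j) (g i)) (algebraMap A _ (a p)))
    rw [res_algebraMap, res_algebraMap]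
  obtain ⟨x, hx⟩ := hM1 m hglue
  exact ⟨x, fun n i => by rw [hx]; exact hm n i⟩

end Groth.Agent.FEtFF.Cech
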