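import Groth.Agent.FEtFF.FormalCoh
import Groth.Agent.FEtFF.UnivHomeo
import Groth.Agent.FEtFF.Hypersurface
import Mathlib.AlgebraicGeometry.Morphisms.Affine
import Mathlib.RingTheory.Flat.EquationalCriterion

/-!
# Lifts of a finite étale cover of a hypersurface section of a punctured spectrum

A finite étale cover of the punctured spectrum of `A / f` lifts uniquely to the punctured spectra of
all `A / f ^ (n + 1)`; their rings of sections form a system in the sense of `FormalLimit.Sys`.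
-/

set_option autoImplicit false
set_option linter.style.haveILetI false
set_option backward.isDefEq.respectTransparency.types false
set_option backward.isDefEq.respectTransparency false
universe u

open CategoryTheory CategoryTheory.Limits AlgebraicGeometry

namespace Groth.Agent.FEtFF.FormalTower

open Cech FormalLimit Hypersurface

variable {A : Type u} [CommRing A] [IsNoetherianRing A] [IsLocalRing A] (f : A)

omit [IsNoetherianRing A] [IsLocalRing A] in
theorem surjective_and_ker {R S : Type u} [CommRing R] [CommRing S] (φ : R →+* S) (J : Ideal R)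
    (e : Spec (CommRingCat.of S) ≅ Spec (CommRingCat.of (R ⧸ J)))
    (he : e.hom ≫ Spec.map (CommRingCat.ofHom (Ideal.Quotient.mk J)) = Spec.map (CommRingCat.ofHom φ)) :
    Function.Surjective φ ∧ ∀ y, φ y = 0 → y ∈ J := by
  obtain ⟨ψ, hψ⟩ := Spec.map_surjective e.hom
  obtain ⟨ψ', hψ'⟩ := Spec.map_surjective e.inv
  have hφ : CommRingCat.ofHom φ = CommRingCat.ofHom (Ideal.Quotient.mk J) ≫ ψ :=
    Spec.map_injective (by rw [Spec.map_comp, hψ]; exact he.symm)
  have hl : ψ ≫ ψ' = 𝟙 _ := Spec.map_injective (by rw [Spec.map_comp, hψ, hψ', Spec.map_id, Iso.inv_hom_id])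
  have hr : ψ' ≫ ψ = 𝟙 _ := Spec.map_injective (by rw [Spec.map_comp, hψ, hψ', Spec.map_id, Iso.hom_inv_id])
  have happ : ∀ y, φ y = ψ (Ideal.Quotient.mk J y) := fun y => ConcreteCategory.congr_hom hφ y
  refine ⟨fun x => ?_, fun y hy => Ideal.Quotient.eq_zero_iff_mem.1 ?_⟩
  · obtain ⟨y, hy⟩ := Ideal.Quotient.mk_surjective (ψ' x)
    exact ⟨y, by rw [happ, hy]; exact ConcreteCategory.congr_hom hr x⟩
  · calc Ideal.Quotient.mk J y = ψ' (ψ (Ideal.Quotient.mk J y)) := (ConcreteCategory.congr_hom hl _).symm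
      _ = 0 := by rw [← happ, hy, map_zero]

/-- The closed subscheme `V(f ^ (n + 1))`. -/
noncomputable abbrev hp (n : ℕ) : Spec (CommRingCat.of (A ⧸ Ideal.span {f ^ (n + 1)})) ⟶ Spec (CommRingCat.of A) :=
  hyp (f ^ (n + 1))

/-- The punctured spectrum of `A / f ^ (n + 1)`. -/
noncomputable abbrev T (n : ℕ) : Scheme.{u} := pullback (FEt.puncturedSpec A).ι (hp f n)

/-- The structure map of `T n`. -/
noncomputable abbrev toA (n : ℕ) : T f n ⟶ Spec (CommRingCat.of A) :=
  pullback.fst (FEt.puncturedSpec A).ι (hp f n) ≫ (FEt.puncturedSpec A).ι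

noncomputable def t (n : ℕ) :
    Spec (CommRingCat.of (A ⧸ Ideal.span {f ^ (n + 1)})) ⟶ Spec (CommRingCat.of (A ⧸ Ideal.span {f ^ (n + 1 + 1)})) :=
  Spec.map (CommRingCat.ofHom (Ideal.Quotient.factor
    (Ideal.span_singleton_le_span_singleton.2 (pow_dvd_pow f (Nat.le_succ (n + 1))))))

omit [IsNoetherianRing A] [IsLocalRing A] in
theorem t_hp (n : ℕ) : t f n ≫ hp f (n + 1) = hp f n := by
  rw [t, ← Spec.map_comp]
  rfl

noncomputable def j (n : ℕ) : T f n ⟶ T f (n + 1) :=
  pullback.lift (pullback.fst _ _) (pullback.snd _ _ ≫ t f n) (by rw [Category.assoc, t_hp, pullback.condition])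

theorem j_fst (n : ℕ) : j f n ≫ pullback.fst _ _ = pullback.fst _ _ := pullback.lift_fst _ _ _

omit [IsNoetherianRing A] [IsLocalRing A] in
theorem mono_hp (n : ℕ) : Mono (hp f n) := by
  haveI : IsClosedImmersion (hp f n) := IsClosedImmersion.spec_of_surjective _ Ideal.Quotient.mk_surjective
  infer_instance

theorem sq_j (n : ℕ) : IsPullback (j f n) (pullback.snd _ _) (toA f (n + 1)) (hp f n) := by
  haveI := mono_hp f n
  haveI := mono_hp f (n + 1)
  refine ⟨⟨by rw [← Category.assoc, j_fst, pullback.condition]⟩, ⟨PullbackCone.IsLimit.mk _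
    (fun s => pullback.lift (s.fst ≫ pullback.fst _ _) s.snd (by rw [Category.assoc]; exact s.condition))
    (fun s => ?_) (fun s => pullback.lift_snd _ _ _) (fun s m h1 h2 => ?_)⟩⟩
  · apply pullback.hom_ext
    · rw [Category.assoc, j_fst, pullback.lift_fst]
    · rw [← cancel_mono (hp f (n + 1))]
      simp only [j, Category.assoc, pullback.lift_snd_assoc, t_hp, pullback.lift_snd]
      rw [← pullback.condition]
      exact s.condition.symm
  · apply pullback.hom_ext
    · rw [pullback.lift_fst, ← h1, Category.assoc, j_fst]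
    · rw [pullback.lift_snd, h2]

instance isClosedImmersion_j (n : ℕ) : IsClosedImmersion (j f n) :=
  MorphismProperty.of_isPullback (P := @IsClosedImmersion) (sq_j f n).flip
    (IsClosedImmersion.spec_of_surjective _ Ideal.Quotient.mk_surjective)

instance surjective_j (n : ℕ) : Surjective (j f n) := ⟨fun x => by
  let p : PrimeSpectrum A := toA f (n + 1) x
  have hmem : f ^ (n + 1 + 1) ∈ p.asIdeal := by
    have h : toA f (n + 1) x = hp f (n + 1) ((pullback.snd (FEt.puncturedSpec A).ι (hp f (n + 1))) x) :=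
      congrArg (fun φ : T f (n + 1) ⟶ Spec (CommRingCat.of A) => φ x) pullback.condition
    have hp' : p = PrimeSpectrum.comap (Ideal.Quotient.mk _) (pullback.snd (FEt.puncturedSpec A).ι (hp f (n + 1)) x) := h
    rw [hp', PrimeSpectrum.comap_asIdeal, Ideal.mem_comap, Ideal.Quotient.eq_zero_iff_mem.2 (Ideal.mem_span_singleton_self _)]
    exact Submodule.zero_mem _
  have hp' : p ∈ Set.range (PrimeSpectrum.comap (Ideal.Quotient.mk (Ideal.span {f ^ (n + 1)}))) := by
    rw [range_comap_of_surjective _ _ Ideal.Quotient.mk_surjective, Ideal.mk_ker, PrimeSpectrum.mem_zeroLocus,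
      SetLike.coe_subset_coe, Ideal.span_singleton_le_iff_mem]
    exact Ideal.pow_mem_of_mem _ (p.2.mem_of_pow_mem _ hmem) _ (Nat.succ_pos n)
  obtain ⟨q, hq⟩ := hp'
  obtain ⟨y, hy, -⟩ := Scheme.Pullback.exists_preimage_pullback (f := toA f (n + 1)) (g := hp f n) x q hq.symm
  refine ⟨(sq_j f n).isoPullback.inv y, ?_⟩
  rw [← Scheme.Hom.comp_apply, (sq_j f n).isoPullback_inv_fst, hy]⟩

theorem restrict_j_essSurj (n : ℕ) : (FEt.restrict (j f n)).EssSurj := UnivHomeo.restrict_essSurj _

variable (V₀ : FEt.Cat (T f 0))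

/-- The lifts of the cover. -/
noncomputable def cover : ∀ n, FEt.Cat (T f n)
  | 0 => V₀
  | n + 1 => haveI := restrict_j_essSurj f n; (FEt.restrict (j f n)).objPreimage (cover n)

noncomputable def coverIso (n : ℕ) : (FEt.restrict (j f n)).obj (cover f V₀ (n + 1)) ≅ cover f V₀ n :=
  haveI := restrict_j_essSurj f n
  (FEt.restrict (j f n)).objObjPreimageIso (cover f V₀ n)

/-- The transition of the lifts. -/
noncomputable def v (n : ℕ) : (cover f V₀ n).left ⟶ (cover f V₀ (n + 1)).left :=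
  (coverIso f V₀ n).inv.left ≫ pullback.fst _ _

theorem sq_cover (n : ℕ) : IsPullback (v f V₀ n) (cover f V₀ n).hom (cover f V₀ (n + 1)).hom (j f n) := by
  let e := coverIso f V₀ n
  refine (IsPullback.of_hasPullback (cover f V₀ (n + 1)).hom (j f n)).of_iso
    { hom := e.hom.left, inv := e.inv.left
      hom_inv_id := congrArg (fun k => k.left) e.hom_inv_id
      inv_hom_id := congrArg (fun k => k.left) e.inv_hom_id } (Iso.refl _) (Iso.refl _) (Iso.refl _) ?_ ?_ (by simp) (by simp)
  · rw [Iso.refl_hom, Category.comp_id]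
    show _ = e.hom.left ≫ v f V₀ n
    rw [v, ← Category.assoc, show e.hom.left ≫ (coverIso f V₀ n).inv.left = 𝟙 _ from congrArg (fun k => k.left) e.hom_inv_id]
    exact (Category.id_comp _).symm
  · rw [Iso.refl_hom, Category.comp_id]
    exact (Over.w e.hom.hom).symm

/-- The map of the `n`-th lift to the punctured spectrum. -/
noncomputable abbrev toU (n : ℕ) : (cover f V₀ n).left ⟶ (FEt.puncturedSpec A : Scheme.{u}) :=
  (cover f V₀ n).hom ≫ pullback.fst _ _

instance isFinite_cover (n : ℕ) : IsFinite (cover f V₀ n).hom := (cover f V₀ n).prop.1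

instance etale_cover (n : ℕ) : Etale (cover f V₀ n).hom := (cover f V₀ n).prop.2

instance isFinite_toU (n : ℕ) : IsFinite (toU f V₀ n) := by
  haveI : IsClosedImmersion (hp f n) := IsClosedImmersion.spec_of_surjective _ Ideal.Quotient.mk_surjective
  infer_instance

theorem v_toU (n : ℕ) : v f V₀ n ≫ toU f V₀ (n + 1) = toU f V₀ n := by
  rw [← Category.assoc, (sq_cover f V₀ n).w, Category.assoc, j_fst]

/-- The square over the quotient of `A`. -/
theorem sq_base (n : ℕ) :
    IsPullback (v f V₀ n) ((cover f V₀ n).hom ≫ pullback.snd _ _) (str (toU f V₀ (n + 1))) (hp f n) := by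
  have := (sq_cover f V₀ n).paste_vert (sq_j f n)
  simpa only [str, toU, Category.assoc] using this

/-- The sections of the `n`-th lift. -/
def Sect (n : ℕ) : Type u := Γ((cover f V₀ n).left, ⊤)

noncomputable instance (n : ℕ) : CommRing (Sect f V₀ n) := inferInstanceAs (CommRing Γ((cover f V₀ n).left, ⊤))

noncomputable instance (n : ℕ) : Algebra A (Sect f V₀ n) := (sect (toU f V₀ n) : A →+* Sect f V₀ n).toAlgebra

/-- The transition of the sections. -/
noncomputable def red (n : ℕ) : Sect f V₀ (n + 1) →ₐ[A] Sect f V₀ n :=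
  { (v f V₀ n).appTop.hom with
    commutes' := fun r => by
      show (v f V₀ n).appTop (sect (toU f V₀ (n + 1)) r) = sect (toU f V₀ n) r
      conv_rhs => rw [sect, str, ← v_toU f V₀ n, Category.assoc, Scheme.Hom.comp_appTop]
      rfl }

theorem compactSpace_cover (n : ℕ) : CompactSpace (cover f V₀ n).left := by
  haveI : CompactSpace (FEt.puncturedSpec A : Scheme.{u}) := by
    haveI : QuasiCompact (FEt.puncturedSpec A).ι := inferInstance
    exact QuasiCompact.compactSpace_of_compactSpace (FEt.puncturedSpec A).ι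
  exact QuasiCompact.compactSpace_of_compactSpace (toU f V₀ n)

theorem quasiSeparatedSpace_cover (n : ℕ) : QuasiSeparatedSpace (cover f V₀ n).left :=
  haveI : QuasiSeparated (str (toU f V₀ n)) := inferInstance
  quasiSeparatedSpace_of_quasiSeparated (str (toU f V₀ n))

instance (n : ℕ) : CompactSpace (cover f V₀ n).left := compactSpace_cover f V₀ n

instance (n : ℕ) : QuasiSeparatedSpace (cover f V₀ n).left := quasiSeparatedSpace_cover f V₀ n

variable {ι : Type} (g : ι → A) (hgm : ∀ i, g i ∈ IsLocalRing.maximalIdeal A)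

include hgm in
theorem isAffineOpen_loc (n : ℕ) {c : A} (hc : ∃ i, g i ∣ c) :
    IsAffineOpen ((cover f V₀ n).left.basicOpen (algebraMap A (Sect f V₀ n) c : Γ((cover f V₀ n).left, ⊤))) := by
  obtain ⟨i, hi⟩ := hc
  have hle : PrimeSpectrum.basicOpen c ≤ FEt.puncturedSpec A :=
    (PrimeSpectrum.basicOpen_le_basicOpen_iff c (g i)).2 (Ideal.le_radical (Ideal.mem_span_singleton.2 hi)) |>.trans
      (basicOpen_le g hgm i)
  show IsAffineOpen ((cover f V₀ n).left.basicOpen (sect (toU f V₀ n) c))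
  rw [show (cover f V₀ n).left.basicOpen (sect (toU f V₀ n) c) = str (toU f V₀ n) ⁻¹ᵁ PrimeSpectrum.basicOpen c by
      show (cover f V₀ n).left.basicOpen ((str (toU f V₀ n)).appTop ((Scheme.ΓSpecIso (CommRingCat.of A)).inv c)) = _
      rw [← Scheme.preimage_basicOpen_top, basicOpen_eq_of_affine],
    str, Scheme.Hom.comp_preimage]
  refine IsAffineOpen.preimage ?_ (toU f V₀ n)
  rw [← (FEt.puncturedSpec A).ι.isAffineOpen_iff_of_isOpenImmersion, Scheme.Hom.image_preimage_eq_opensRange_inf,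
    Scheme.Opens.opensRange_ι, inf_eq_right.2 hle]
  exact IsAffineOpen.Spec_basicOpen _

/-- The chart at `c`. -/
noncomputable def chartC (n : ℕ) (c : A) (hc : ∃ i, g i ∣ c) :
    Spec (CommRingCat.of (Loc (Sect f V₀ n) c)) ⟶ (cover f V₀ n).left :=
  chart (isAffineOpen_loc f V₀ g hgm n hc)

instance (n : ℕ) (c : A) (hc : ∃ i, g i ∣ c) : IsOpenImmersion (chartC f V₀ g hgm n c hc) :=
  inferInstanceAs (IsOpenImmersion (chart (isAffineOpen_loc f V₀ g hgm n hc)))

theorem chartC_toSpecΓ (n : ℕ) (c : A) (hc : ∃ i, g i ∣ c) :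
    chartC f V₀ g hgm n c hc ≫ (cover f V₀ n).left.toSpecΓ =
      Spec.map (CommRingCat.ofHom (algebraMap (Sect f V₀ n) (Loc (Sect f V₀ n) c))) :=
  chart_toSpecΓ _

theorem chartC_str (n : ℕ) (c : A) (hc : ∃ i, g i ∣ c) :
    chartC f V₀ g hgm n c hc ≫ str (toU f V₀ n) =
      Spec.map (CommRingCat.ofHom (algebraMap A (Loc (Sect f V₀ n) c))) := by
  rw [show str (toU f V₀ n) = (cover f V₀ n).left.toSpecΓ ≫ Spec.map (CommRingCat.ofHom (sect (toU f V₀ n))) by
      rw [show CommRingCat.ofHom (sect (toU f V₀ n)) =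
          (Scheme.ΓSpecIso (CommRingCat.of A)).inv ≫ (str (toU f V₀ n)).appTop from rfl,
        Spec.map_comp, ← Category.assoc, ← Scheme.toSpecΓ_naturality, Category.assoc,
        toSpecΓ_SpecMap_ΓSpecIso_inv, Category.comp_id],
    ← Category.assoc, chartC_toSpecΓ]
  exact (Spec.map_comp _ _).symm

/-- The level `n` chart is the base change of the level `n + 1` one. -/
theorem sq_chart (n : ℕ) (c : A) (hc : ∃ i, g i ∣ c) :
    IsPullback (Spec.map (CommRingCat.ofHom (mapA (red f V₀ n) c).toRingHom)) (chartC f V₀ g hgm n c hc)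
      (chartC f V₀ g hgm (n + 1) c hc) (v f V₀ n) := by
  let cn := chartC f V₀ g hgm n c hc
  let cn1 := chartC f V₀ g hgm (n + 1) c hc
  have hrange : v f V₀ n ⁻¹ᵁ cn1.opensRange = cn.opensRange := by
    refine TopologicalSpace.Opens.ext ?_
    rw [TopologicalSpace.Opens.map_coe, Scheme.Hom.coe_opensRange, Scheme.Hom.coe_opensRange,
      show Set.range cn = _ from range_chart _, show Set.range cn1 = _ from range_chart _,
      ← TopologicalSpace.Opens.map_coe]
    congr 1
    show v f V₀ n ⁻¹ᵁ (cover f V₀ (n + 1)).left.basicOpen (algebraMap A (Sect f V₀ (n + 1)) c) = _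
    rw [Scheme.preimage_basicOpen_top]
    exact congrArg _ ((red f V₀ n).commutes c)
  have hr : Set.range (cn ≫ v f V₀ n) ⊆ Set.range cn1 := by
    rintro _ ⟨x, rfl⟩
    exact SetLike.mem_coe.1 (hrange.ge ⟨x, rfl⟩)
  let l := IsOpenImmersion.lift cn1 _ hr
  have hl : Spec.map (CommRingCat.ofHom (mapA (red f V₀ n) c).toRingHom) = l := by
    obtain ⟨φ, hφ⟩ := Spec.map_surjective l
    rw [← hφ]
    congr 1
    refine CommRingCat.hom_ext (IsLocalization.ringHom_ext (Submonoid.powers (algebraMap A (Sect f V₀ (n + 1)) c)) ?_)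
    have h2 : l ≫ cn1 ≫ (cover f V₀ (n + 1)).left.toSpecΓ = cn ≫ (cover f V₀ n).left.toSpecΓ ≫ Spec.map (v f V₀ n).appTop := by
      rw [IsOpenImmersion.lift_fac_assoc, Category.assoc, Scheme.toSpecΓ_naturality]
    rw [chartC_toSpecΓ, ← Category.assoc cn, chartC_toSpecΓ, ← hφ, ← Spec.map_comp, ← Spec.map_comp] at h2
    have h3 := Spec.map_injective h2
    ext x
    show mapA (red f V₀ n) c (algebraMap _ _ x) = _
    rw [mapA_algebraMap]
    exact (ConcreteCategory.congr_hom h3 x).symm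
  rw [hl]
  exact IsOpenImmersion.isPullback _ _ _ _ (IsOpenImmersion.lift_fac _ _ hr).symm hrange

set_option maxHeartbeats 1000000 in
include hgm in
theorem surj_ker (n : ℕ) (c : A) (hc : ∃ i, g i ∣ c) :
    Function.Surjective (mapA (red f V₀ n) c) ∧
      ∀ y, mapA (red f V₀ n) c y = 0 → ∃ z, y = f ^ (n + 1) • z := by
  let L := Loc (Sect f V₀ (n + 1)) c
  let φ := (mapA (red f V₀ n) c).toRingHom
  have h1 := (sq_chart f V₀ g hgm n c hc).paste_vert (sq_base f V₀ n)
  rw [chartC_str] at h1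
  have hle : Ideal.span {f ^ (n + 1)} ≤ (I (f ^ (n + 1)) L 1).comap (algebraMap A L) := by
    rw [I, pow_one, Ideal.span_le, Set.singleton_subset_iff, SetLike.mem_coe, Ideal.mem_comap]
    exact Ideal.mem_span_singleton_self _
  have h2 := isPullback_SpecMap_of_isPushout _ _ _ _ (isPushout_quotient (E := L) (f ^ (n + 1)) hle)
  obtain ⟨hsurj, hker⟩ := surjective_and_ker φ (I (f ^ (n + 1)) L 1) (h1.isoIsPullback _ _ h2)
    (h1.isoIsPullback_hom_fst _ _ h2)
  refine ⟨hsurj, fun y hy => ?_⟩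
  have h0 : y ∈ I (f ^ (n + 1)) L 1 := hker y hy
  rw [I, pow_one, Ideal.mem_span_singleton] at h0
  obtain ⟨z, hz⟩ := h0
  exact ⟨z, by rw [hz, Algebra.smul_def]⟩

/-- The sections of the lift are killed by `f ^ (n + 1)`. -/
theorem f_pow_sect (n : ℕ) : algebraMap A (Sect f V₀ n) (f ^ (n + 1)) = 0 := by
  show sect (toU f V₀ n) (f ^ (n + 1)) = 0
  have h : str (toU f V₀ n) = ((cover f V₀ n).hom ≫ pullback.snd _ _) ≫ hp f n := by
    rw [str, toU, Category.assoc, Category.assoc, pullback.condition]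
  rw [sect, h, Scheme.Hom.comp_appTop]
  show ((cover f V₀ n).hom ≫ pullback.snd _ _).appTop ((hp f n).appTop ((Scheme.ΓSpecIso (CommRingCat.of A)).inv _)) = 0
  have := ConcreteCategory.congr_hom (Scheme.ΓSpecIso_inv_naturality
    (CommRingCat.ofHom (Ideal.Quotient.mk (Ideal.span {f ^ (n + 1)})))) (f ^ (n + 1))
  rw [show (hp f n).appTop ((Scheme.ΓSpecIso (CommRingCat.of A)).inv (f ^ (n + 1))) =
    (Scheme.ΓSpecIso _).inv (Ideal.Quotient.mk (Ideal.span {f ^ (n + 1)}) (f ^ (n + 1))) from this.symm,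
    Ideal.Quotient.eq_zero_iff_mem.2 (Ideal.mem_span_singleton_self _), map_zero, map_zero]

include hgm in
theorem flat_loc (n : ℕ) (c : A) (hc : ∃ i, g i ∣ c) :
    ∃ φ : A ⧸ Ideal.span {f ^ (n + 1)} →+* Loc (Sect f V₀ n) c,
      φ.comp (Ideal.Quotient.mk _) = algebraMap A _ ∧ φ.Etale := by
  let m := chartC f V₀ g hgm n c hc ≫ (cover f V₀ n).hom ≫ pullback.snd _ _
  obtain ⟨φ, hφ⟩ := Spec.map_surjective m
  refine ⟨φ.hom, ?_, ?_⟩
  · refine congrArg CommRingCat.Hom.hom (Spec.map_injective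
      (?_ : Spec.map (CommRingCat.ofHom (Ideal.Quotient.mk (Ideal.span {f ^ (n + 1)})) ≫ φ) =
        Spec.map (CommRingCat.ofHom (algebraMap A (Loc (Sect f V₀ n) c)))))
    rw [Spec.map_comp, hφ, ← chartC_str f V₀ g hgm n c hc]
    simp only [m, str, toU, Category.assoc, pullback.condition]
  · haveI : Etale (pullback.snd (FEt.puncturedSpec A).ι (hp f n)) := inferInstance
    haveI : Etale m := inferInstance
    exact (HasRingHomProperty.Spec_iff (P := @Etale)).1 (hφ ▸ this)

set_option maxHeartbeats 1000000 in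
include hgm in
theorem tors_loc (hreg : IsSMulRegular A f) (n : ℕ) (c : A) (hc : ∃ i, g i ∣ c) (z : Loc (Sect f V₀ (n + 1)) c)
    (hz : f ^ (n + 1) • z = 0) : ∃ w, z = f • w := by
  obtain ⟨φ, hφ, het⟩ := flat_loc f V₀ g hgm (n + 1) c hc
  letI := φ.toAlgebra
  haveI : Algebra.Etale (A ⧸ Ideal.span {f ^ (n + 1 + 1)}) (Loc (Sect f V₀ (n + 1)) c) := RingHom.etale_algebraMap.1 het
  have hrel : ∑ _i : Fin 1, (Ideal.Quotient.mk (Ideal.span {f ^ (n + 1 + 1)}) (f ^ (n + 1))) • z = 0 := by
    rw [Finset.sum_const, Finset.card_univ, Fintype.card_fin, one_smul, Algebra.smul_def]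
    show φ (Ideal.Quotient.mk _ _) * z = 0
    rw [← RingHom.comp_apply, hφ, ← Algebra.smul_def, hz]
  obtain ⟨k, a, y, hy, ha⟩ := Module.Flat.isTrivialRelation_of_sum_smul_eq_zero
    (f := fun _ : Fin 1 => Ideal.Quotient.mk (Ideal.span {f ^ (n + 1 + 1)}) (f ^ (n + 1))) (x := fun _ => z) hrel
  choose r hr using fun l => Ideal.Quotient.mk_surjective (a 0 l)
  have hr' : ∀ l, f ∣ r l := fun l => by
    have h := ha l
    rw [Fin.sum_univ_one, ← hr, ← map_mul, Ideal.Quotient.eq_zero_iff_mem, Ideal.mem_span_singleton] at h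
    obtain ⟨s, hs⟩ := h
    exact ⟨s, (hreg.pow (n + 1)) (by simp only [smul_eq_mul]; rw [hs]; ring)⟩
  choose s hs using hr'
  refine ⟨∑ l, s l • y l, ?_⟩
  have hy0 : z = _ := hy 0
  rw [hy0, Finset.smul_sum]
  refine Finset.sum_congr rfl fun l _ => ?_
  rw [← hr, Algebra.smul_def, Algebra.smul_def f, Algebra.smul_def (s l), ← mul_assoc, ← map_mul, ← hs, ← hφ]
  rfl

variable (hgcov : ∀ p : Ideal A, p.IsPrime → p ≠ IsLocalRing.maximalIdeal A → ∃ i, g i ∉ p)

include hgcov in
theorem iSup_loc (n : ℕ) :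
    ⨆ i, (cover f V₀ n).left.basicOpen (algebraMap A (Sect f V₀ n) (g i) : Γ((cover f V₀ n).left, ⊤)) = ⊤ := by
  refine top_le_iff.1 fun x _ => ?_
  let p : PrimeSpectrum A := str (toU f V₀ n) x
  have hp : p.asIdeal ≠ IsLocalRing.maximalIdeal A := fun e => (toU f V₀ n x).2 (PrimeSpectrum.ext e)
  obtain ⟨i, hi⟩ := hgcov p.asIdeal p.2 hp
  refine TopologicalSpace.Opens.mem_iSup.2 ⟨i, ?_⟩
  show x ∈ (cover f V₀ n).left.basicOpen ((str (toU f V₀ n)).appTop ((Scheme.ΓSpecIso (CommRingCat.of A)).inv (g i)))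
  rw [← Scheme.preimage_basicOpen_top, basicOpen_eq_of_affine]
  exact hi

/-- The system of sections of the lifts. -/
noncomputable def sys (hreg : IsSMulRegular A f) : Sys f g where
  M := Sect f V₀
  red := red f V₀
  f_pow := f_pow_sect f V₀
  sep n x hx := eq_zero_of_forall_loc (V := (cover f V₀ n).left) (fun i => algebraMap A (Sect f V₀ n) (g i))
    (iSup_loc f V₀ g hgcov n) x hx
  glue n m hm := exists_glue_loc (V := (cover f V₀ n).left) (fun i => algebraMap A (Sect f V₀ n) (g i))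
    (iSup_loc f V₀ g hgcov n) m fun i j =>
      ⟨algebraMap A (Sect f V₀ n) (g i * g j), map_dvd _ (dvd_mul_right _ _), map_dvd _ (dvd_mul_left _ _),
        le_of_eq (by rw [map_mul]; exact (Scheme.basicOpen_mul _ _ _).symm),
        sub_eq_zero.1 (congrFun (congrFun hm i) j)⟩
  surj n c hc := (surj_ker f V₀ g hgm n c hc).1
  ker n c hc := (surj_ker f V₀ g hgm n c hc).2
  tors n c hc := tors_loc f V₀ g hgm hreg n c hc

end Groth.Agent.FEtFF.FormalTower
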