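import Groth.Prelude.Def_Pi1
import Groth.Agent.FEtQuot.Galois
import Groth.Agent.HenselLib.WeakDim
import Groth.Agent.NormalExtLib.Basic
import Mathlib.AlgebraicGeometry.Morphisms.UniversallyOpen
import Mathlib.AlgebraicGeometry.Morphisms.QuasiFinite
import Mathlib.RingTheory.Unramified.Field

/-!
# Finite étale covers of normal integral schemes are normal
-/

set_option autoImplicit false
set_option linter.style.haveILetI false
set_option backward.isDefEq.respectTransparency.types false
universe u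

namespace Groth.Agent.FEtFF
open CategoryTheory CategoryTheory.Limits AlgebraicGeometry TopologicalSpace Opposite TensorProduct

theorem isNormal_local_of_finite_etale (A : Type u) [CommRing A] [IsDomain A] [IsIntegrallyClosed A]
    (B : Type u) [CommRing B] [Algebra A B] [Algebra.Etale A B] [Module.Finite A B]
    (C : Type u) [CommRing C] [IsLocalRing C] [Algebra A C] [Algebra B C] [IsScalarTower A B C]
    (p : Ideal B) [p.IsPrime] [IsLocalization.AtPrime C p] : IsDomain C ∧ IsIntegrallyClosed C := by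
  let K := FractionRing A
  haveI : Algebra.IsEpi B C := HenselLib.WeakDim.isEpi_of_isLocalization p.primeCompl
  haveI : Module.Flat B C := IsLocalization.flat C p.primeCompl
  haveI : Algebra.WeaklyEtale B C :=
    { flat_lmul' := by
        refine RingHom.Flat.of_bijective ⟨?_, fun c => ⟨c ⊗ₜ 1, by simp⟩⟩
        exact Algebra.IsEpi.injective_lift_mul }
  haveI : Algebra.WeaklyEtale A C := Algebra.WeaklyEtale.trans A B C
  have hic : IsIntegrallyClosedIn C (C ⊗[A] K) := HenselLib.WeakDim.integrallyClosed_weaklyEtale A K C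
  let ι : C →+* C ⊗[A] K := Algebra.TensorProduct.includeLeftRingHom
  have hι : Function.Injective ι :=
    Algebra.TensorProduct.includeLeft_injective (S := C) (IsFractionRing.injective A K)
  haveI : IsReduced (K ⊗[A] B) := Algebra.FormallyUnramified.isReduced_of_field K (K ⊗[A] B)
  haveI : IsArtinianRing (K ⊗[A] B) := IsArtinianRing.of_finite K _
  let μ : K ⊗[A] B →ₐ[A] C ⊗[A] K :=
    Algebra.TensorProduct.lift Algebra.TensorProduct.includeRight
      ((Algebra.TensorProduct.includeLeft : C →ₐ[A] C ⊗[A] K).comp (IsScalarTower.toAlgHom A B C)) fun _ _ => Commute.all _ _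
  have hμ : ∀ b : B, μ (1 ⊗ₜ b) = ι (algebraMap B C b) := fun b => by simp [μ, ι]
  have hb : ∀ b : B, ι (algebraMap B C b) = 0 ∨ IsUnit (ι (algebraMap B C b)) := by
    intro b
    let e := IsArtinianRing.equivPi (K ⊗[A] B)
    classical
    letI : ∀ I : MaximalSpectrum (K ⊗[A] B), Field ((K ⊗[A] B) ⧸ I.asIdeal) := fun I => Ideal.Quotient.field _
    let y := e.symm fun I => (e (1 ⊗ₜ b) I)⁻¹
    have hy : (1 ⊗ₜ b) * y * (1 ⊗ₜ b) = 1 ⊗ₜ b := e.injective (funext fun I => by
      rw [map_mul, map_mul, e.apply_symm_apply, Pi.mul_apply, Pi.mul_apply]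
      exact mul_inv_mul_cancel (e (1 ⊗ₜ b) I))
    have hidem : IsIdempotentElem (μ ((1 ⊗ₜ b) * y)) := by
      rw [IsIdempotentElem, ← map_mul, ← mul_assoc, hy]
    obtain ⟨c, hc⟩ := hic.isIntegral_iff.mp
      (show IsIntegral C (μ ((1 ⊗ₜ b) * y)) from ⟨Polynomial.X ^ 2 - Polynomial.X, by monicity!, by
        rw [Polynomial.eval₂_sub, Polynomial.eval₂_X_pow, Polynomial.eval₂_X, sq, hidem.eq, sub_self]⟩)
    have hc' : ι c = μ ((1 ⊗ₜ b) * y) := hc
    have hcid : IsIdempotentElem c := hι (by rw [map_mul, hc', hidem.eq])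
    have hcase : c = 0 ∨ c = 1 := by
      rcases IsLocalRing.isUnit_or_isUnit_one_sub_self c with hu | hu
      · exact Or.inr (hu.mul_left_cancel (by rw [hcid.eq, mul_one]))
      · exact Or.inl (hu.mul_left_cancel (by rw [mul_zero, sub_mul, one_mul, hcid.eq, sub_self]))
    rcases hcase with rfl | rfl
    · rw [map_zero] at hc'
      left
      rw [← hμ, ← hy, map_mul, ← hc', zero_mul]
    · rw [map_one, map_mul, hμ] at hc'
      exact Or.inr (IsUnit.of_mul_eq_one _ hc'.symm)
  letI : Algebra A (FractionRing A) := inferInstance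
  haveI hloc : IsLocalization (Algebra.algebraMapSubmonoid C (nonZeroDivisors A)) (C ⊗[A] K) := inferInstance
  have hunit : ∀ x : C ⊗[A] K, x = 0 ∨ IsUnit x := by
    intro x
    obtain ⟨c, ⟨_, s, hs, rfl⟩, rfl⟩ := IsLocalization.exists_mk'_eq (Algebra.algebraMapSubmonoid C (nonZeroDivisors A)) x
    obtain ⟨b, t, rfl⟩ := IsLocalization.exists_mk'_eq p.primeCompl c
    have ht : IsUnit (ι (algebraMap B C t)) := (IsLocalization.map_units C t).map ι
    have hspec := IsLocalization.mk'_spec C b t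
    rw [IsLocalization.mk'_eq_mul_mk'_one]
    have h2 : ι (IsLocalization.mk' C b t) * ι (algebraMap B C t) = ι (algebraMap B C b) := by rw [← map_mul, hspec]
    rcases hb b with h0 | h1
    · left
      rw [h0, ht.mul_left_eq_zero] at h2
      exact mul_eq_zero_of_left h2 _
    · right
      rw [← h2] at h1
      refine (isUnit_of_mul_isUnit_left h1).mul ?_
      exact IsUnit.of_mul_eq_one _ (IsLocalization.mk'_spec _ _ _ |>.trans (map_one _))
  haveI : Nontrivial (C ⊗[A] K) := hι.nontrivial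
  have hfield : IsField (C ⊗[A] K) :=
    { exists_pair_ne := exists_pair_ne _
      mul_comm := mul_comm
      mul_inv_cancel := fun {x} hx => ((hunit x).resolve_left hx).exists_right_inv }
  letI := hfield.toField
  haveI : IsDomain C := hι.isDomain ι
  refine ⟨inferInstance, ?_⟩
  haveI : IsFractionRing C (C ⊗[A] K) := by
    refine IsFractionRing.of_field C (C ⊗[A] K) fun x => ?_
    obtain ⟨c, ⟨_, s, hs, rfl⟩, rfl⟩ := IsLocalization.exists_mk'_eq (Algebra.algebraMapSubmonoid C (nonZeroDivisors A)) x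
    exact ⟨c, algebraMap A C s, by
      rw [eq_div_iff ((IsLocalization.map_units (C ⊗[A] K)
        (⟨algebraMap A C s, s, hs, rfl⟩ : Algebra.algebraMapSubmonoid C (nonZeroDivisors A))).ne_zero)]
      exact IsLocalization.mk'_spec (M := Algebra.algebraMapSubmonoid C (nonZeroDivisors A)) (C ⊗[A] K) c ⟨_, s, hs, rfl⟩⟩
  exact (isIntegrallyClosed_iff_isIntegrallyClosedIn (C ⊗[A] K)).mpr hic

/-- Finite étale over normal integral is normal. -/
theorem isNormalScheme_of_finite_etale {X Y : Scheme.{u}} [IsIntegral X] (hX : Pi1.IsNormalScheme X) (h : Y ⟶ X)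
    [IsFinite h] [Etale h] : Pi1.IsNormalScheme Y := by
  intro y
  obtain ⟨U, hU, hyU, -⟩ := exists_isAffineOpen_mem_and_subset (U := (⊤ : X.Opens)) (x := h y) trivial
  haveI : Nonempty U := ⟨⟨h y, hyU⟩⟩
  haveI := NormalExtLib.isIntegrallyClosed_sections hX U hU
  letI := (h.app U).hom.toAlgebra
  letI : Algebra Γ(Y, h ⁻¹ᵁ U) (Y.presheaf.stalk y) := (Y.presheaf.germ (h ⁻¹ᵁ U) y hyU).hom.toAlgebra
  letI : Algebra Γ(X, U) (Y.presheaf.stalk y) :=
    ((algebraMap Γ(Y, h ⁻¹ᵁ U) (Y.presheaf.stalk y)).comp (algebraMap Γ(X, U) Γ(Y, h ⁻¹ᵁ U))).toAlgebra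
  haveI : IsScalarTower Γ(X, U) Γ(Y, h ⁻¹ᵁ U) (Y.presheaf.stalk y) := IsScalarTower.of_algebraMap_eq' rfl
  haveI : Module.Finite Γ(X, U) Γ(Y, h ⁻¹ᵁ U) := IsFinite.finite_app h U hU
  haveI : Algebra.Etale Γ(X, U) Γ(Y, h ⁻¹ᵁ U) := RingHom.etale_algebraMap.mp (by
    have := h.etale_appLE hU (hU.preimage h) le_rfl
    rw [← Scheme.Hom.app_eq_appLE] at this
    exact this)
  haveI := (hU.preimage h).isLocalization_stalk ⟨y, hyU⟩
  exact isNormal_local_of_finite_etale Γ(X, U) Γ(Y, h ⁻¹ᵁ U) (Y.presheaf.stalk y)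
    ((hU.preimage h).primeIdealOf ⟨y, hyU⟩).asIdeal

theorem eq_of_specializes_of_isDomain {Y : Scheme.{u}} (y : Y) [IsDomain (Y.presheaf.stalk y)]
    {a b : Y} (ha : a ⤳ y) (hb : b ⤳ y) (hamin : ∀ z, z ⤳ a → z = a) (hbmin : ∀ z, z ⤳ b → z = b) : a = b := by
  have : ∀ c, c ⤳ y → (∀ z, z ⤳ c → z = c) → c = Y.fromSpecStalk y (⊥ : PrimeSpectrum _) := by
    intro c hc hmin
    obtain ⟨q, rfl⟩ : c ∈ Set.range (Y.fromSpecStalk y) := by rw [Scheme.range_fromSpecStalk]; exact hc
    refine (hmin _ ?_).symm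
    exact ((PrimeSpectrum.le_iff_specializes _ _).mp bot_le).map (Y.fromSpecStalk y).continuous
  rw [this a ha hamin, this b hb hbmin]

/-- A connected finite étale cover of a normal integral scheme is integral and normal. -/
theorem isIntegral_and_normal {X Y : Scheme.{u}} [IsIntegral X] (hX : Pi1.IsNormalScheme X) (h : Y ⟶ X)
    [IsFinite h] [Etale h] [ConnectedSpace Y] : IsIntegral Y ∧ Pi1.IsNormalScheme Y := by
  have hn := isNormalScheme_of_finite_etale hX h
  refine ⟨?_, hn⟩
  haveI : ∀ y : Y, IsReduced (Y.presheaf.stalk y) := fun y => haveI := (hn y).1; inferInstance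
  haveI : IsReduced Y := isReduced_of_isReduced_stalk Y
  let η := genericPoint X
  have hfin : (h ⁻¹' {η}).Finite := h.finite_preimage_singleton η
  have hmin : ∀ a ∈ h ⁻¹' {η}, ∀ z, z ⤳ a → z = a := by
    intro a ha z hz
    have hzη : h z = η := by
      refine ((hz.map h.continuous).antisymm ?_).eq.trans ha
      rw [show h a = η from ha]
      exact genericPoint_specializes _
    haveI := isDiscrete_iff_discreteTopology.mp (h.isDiscrete_preimage_singleton η)
    exact congrArg Subtype.val (((subtype_specializes_iff (x := (⟨z, hzη⟩ : h ⁻¹' {η})) (y := ⟨a, ha⟩)).mpr hz).eq)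
  have hex : ∀ y : Y, ∃ a ∈ h ⁻¹' {η}, a ⤳ y := fun y => by
    obtain ⟨a, ha, e⟩ := Flat.generalizingMap h (genericPoint_specializes (h y))
    exact ⟨a, e, ha⟩
  have hclopen : ∀ a ∈ h ⁻¹' {η}, closure {a} = Set.univ := by
    intro a ha
    refine IsClopen.eq_univ ⟨isClosed_closure, ?_⟩ ⟨a, subset_closure rfl⟩
    have : closure ({a} : Set Y) = (⋃ b ∈ (h ⁻¹' {η}) \ {a}, closure {b})ᶜ := by
      refine Set.Subset.antisymm (fun y hy hy' => ?_) (fun y hy => ?_)
      · obtain ⟨b, ⟨hb, hba⟩, hyb⟩ := Set.mem_iUnion₂.mp hy'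
        haveI := (hn y).1
        exact hba (eq_of_specializes_of_isDomain y (specializes_iff_mem_closure.mpr hyb)
          (specializes_iff_mem_closure.mpr hy) (hmin b hb) (hmin a ha))
      · obtain ⟨b, hb, hby⟩ := hex y
        by_cases hba : b = a
        · subst hba; exact specializes_iff_mem_closure.mp hby
        · exact absurd (Set.mem_iUnion₂.mpr ⟨b, ⟨hb, hba⟩, specializes_iff_mem_closure.mp hby⟩) hy
    rw [this, isOpen_compl_iff]
    exact (hfin.subset Set.diff_subset).isClosed_biUnion fun _ _ => isClosed_closure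
  obtain ⟨y⟩ := (inferInstance : Nonempty Y)
  obtain ⟨a, ha, -⟩ := hex y
  haveI : IrreducibleSpace Y := by
    rw [irreducibleSpace_def, Set.top_eq_univ, ← hclopen a ha]
    exact isIrreducible_singleton.closure
  exact (isIntegral_iff_irreducibleSpace_and_isReduced Y).mpr ⟨inferInstance, inferInstance⟩

end Groth.Agent.FEtFF
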