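import Groth.Agent.FEtFF.Generic
import Groth.Agent.FEtFF.Normal
import Mathlib.AlgebraicGeometry.Normalization
import Mathlib.RingTheory.DedekindDomain.IntegralClosure

/-!
# Sections on the generic fibre
-/

set_option autoImplicit false
set_option linter.style.haveILetI false
set_option backward.isDefEq.respectTransparency.types false
universe u

namespace Groth.Agent.FEtFF
open CategoryTheory CategoryTheory.Limits AlgebraicGeometry TopologicalSpace Opposite TensorProduct nonZeroDivisors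

variable {X Y P : Scheme.{u}} [IsIntegral X] (h : Y ⟶ X) [IsAffineHom h] {g : P ⟶ Y}
  {q : P ⟶ Spec X.functionField} (H : IsPullback g q h (X.fromSpecStalk (genericPoint X)))

/-- The function field as sections over the preimage of an affine open under the generic point. -/
theorem isFractionRing_generic {V : X.Opens} (hV : IsAffineOpen V) [Nonempty V] :
    letI := ((X.fromSpecStalk (genericPoint X)).app V).hom.toAlgebra
    IsAffineOpen ((X.fromSpecStalk (genericPoint X)) ⁻¹ᵁ V) ∧ (X.fromSpecStalk (genericPoint X)) ⁻¹ᵁ V = ⊤ ∧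
      IsLocalization (Γ(X, V))⁰ Γ(Spec X.functionField, (X.fromSpecStalk (genericPoint X)) ⁻¹ᵁ V) := by
  obtain ⟨⟨x, hx⟩⟩ := ‹Nonempty V›
  have hη : genericPoint X ∈ V := (genericPoint_specializes x).mem_open V.isOpen hx
  have htop : (X.fromSpecStalk (genericPoint X)) ⁻¹ᵁ V = ⊤ := by
    refine top_unique fun t _ => ?_
    have : (X.fromSpecStalk (genericPoint X)) t ∈ {y | y ⤳ genericPoint X} := by
      rw [← Scheme.range_fromSpecStalk]; exact ⟨t, rfl⟩
    exact (show (X.fromSpecStalk (genericPoint X)) t ⤳ genericPoint X from this).mem_open V.isOpen hη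
  have hW : IsAffineOpen ((X.fromSpecStalk (genericPoint X)) ⁻¹ᵁ V) := htop ▸ isAffineOpen_top _
  let eK : Γ(Spec X.functionField, (X.fromSpecStalk (genericPoint X)) ⁻¹ᵁ V) ≅ CommRingCat.of X.functionField :=
    ((Spec (X.presheaf.stalk (genericPoint X))).presheaf.mapIso (eqToIso (congrArg op htop)) ≪≫
      Scheme.ΓSpecIso (X.presheaf.stalk (genericPoint X)))
  have heK : (X.fromSpecStalk (genericPoint X)).app V ≫ eK.hom = CommRingCat.ofHom (algebraMap Γ(X, V) X.functionField) := by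
    rw [Scheme.fromSpecStalk_app hη]
    simp only [eK, Iso.trans_hom, Functor.mapIso_hom, eqToIso.hom, Category.assoc]
    rw [← Functor.map_comp_assoc, Subsingleton.elim (_ ≫ _ : op (⊤ : (Spec (X.presheaf.stalk (genericPoint X))).Opens) ⟶ op ⊤) (𝟙 _),
      CategoryTheory.Functor.map_id, Category.id_comp, Iso.inv_hom_id, Category.comp_id]
    rfl
  letI : Algebra Γ(X, V) Γ(Spec X.functionField, (X.fromSpecStalk (genericPoint X)) ⁻¹ᵁ V) := ((X.fromSpecStalk (genericPoint X)).app V).hom.toAlgebra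
  haveI := functionField_isFractionRing_of_isAffineOpen X V hV
  refine ⟨hW, htop, ?_⟩
  show IsLocalization (Γ(X, V))⁰ Γ(Spec X.functionField, (X.fromSpecStalk (genericPoint X)) ⁻¹ᵁ V) 
  exact IsLocalization.isLocalization_of_algEquiv (Γ(X, V))⁰
      (AlgEquiv.ofRingEquiv (f := eK.commRingCatIsoToRingEquiv) fun r => ConcreteCategory.congr_hom heK r).symm

include H in
theorem isLocalization_generic {V : X.Opens} (hV : IsAffineOpen V) [Nonempty V] :
    letI := (h.app V).hom.toAlgebra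
    letI := (g.app (h ⁻¹ᵁ V)).hom.toAlgebra
    IsLocalization (Algebra.algebraMapSubmonoid Γ(Y, h ⁻¹ᵁ V) (Γ(X, V))⁰) Γ(P, g ⁻¹ᵁ (h ⁻¹ᵁ V)) := by
  letI := (h.app V).hom.toAlgebra
  letI := (g.app (h ⁻¹ᵁ V)).hom.toAlgebra
  obtain ⟨hW, -, hK⟩ := isFractionRing_generic (X := X) hV
  have hPU : g ⁻¹ᵁ (h ⁻¹ᵁ V) = g ⁻¹ᵁ (h ⁻¹ᵁ V) ⊓ q ⁻¹ᵁ ((X.fromSpecStalk (genericPoint X)) ⁻¹ᵁ V) := by
    rw [← preimage_eq (X.fromSpecStalk (genericPoint X)) h H V, inf_idem]
  have hp := (isIso_pushoutSection_iff H le_rfl le_rfl hPU).mp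
    (isIso_pushoutSection_of_isAffineOpen H le_rfl le_rfl hPU hV hW (hV.preimage h))
  rw [← Scheme.Hom.app_eq_appLE, ← Scheme.Hom.app_eq_appLE, ← Scheme.Hom.app_eq_appLE] at hp
  letI : Algebra Γ(X, V) Γ(Spec X.functionField, (X.fromSpecStalk (genericPoint X)) ⁻¹ᵁ V) := ((X.fromSpecStalk (genericPoint X)).app V).hom.toAlgebra
  haveI : IsLocalization (Γ(X, V))⁰ Γ(Spec X.functionField, (X.fromSpecStalk (genericPoint X)) ⁻¹ᵁ V) := hK
  letI : Algebra Γ(X, V) Γ(P, g ⁻¹ᵁ (h ⁻¹ᵁ V)) := (h.app V ≫ g.app (h ⁻¹ᵁ V)).hom.toAlgebra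
  haveI : IsScalarTower Γ(X, V) Γ(Y, h ⁻¹ᵁ V) Γ(P, g ⁻¹ᵁ (h ⁻¹ᵁ V)) := .of_algebraMap_eq fun _ => rfl
  let e := hp.isoIsPushout _ _ (CommRingCat.isPushout_tensorProduct Γ(X, V) Γ(Y, h ⁻¹ᵁ V) Γ(Spec X.functionField, (X.fromSpecStalk (genericPoint X)) ⁻¹ᵁ V))
  let E : Γ(Y, h ⁻¹ᵁ V) ⊗[Γ(X, V)] Γ(Spec X.functionField, (X.fromSpecStalk (genericPoint X)) ⁻¹ᵁ V) ≃ₐ[Γ(Y, h ⁻¹ᵁ V)] Γ(P, g ⁻¹ᵁ (h ⁻¹ᵁ V)) :=
    AlgEquiv.ofRingEquiv (f := e.commRingCatIsoToRingEquiv.symm) fun b => by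
      apply e.commRingCatIsoToRingEquiv.injective
      rw [RingEquiv.apply_symm_apply]
      exact (ConcreteCategory.congr_hom (hp.inl_isoIsPushout_hom _ _ (CommRingCat.isPushout_tensorProduct Γ(X, V) Γ(Y, h ⁻¹ᵁ V) Γ(Spec X.functionField, (X.fromSpecStalk (genericPoint X)) ⁻¹ᵁ V))) b).symm
  letI : Algebra Γ(Spec X.functionField, (X.fromSpecStalk (genericPoint X)) ⁻¹ᵁ V) (Γ(Y, h ⁻¹ᵁ V) ⊗[Γ(X, V)] Γ(Spec X.functionField, (X.fromSpecStalk (genericPoint X)) ⁻¹ᵁ V)) := Algebra.TensorProduct.rightAlgebra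
  haveI : IsLocalization (Algebra.algebraMapSubmonoid Γ(Y, h ⁻¹ᵁ V) (Γ(X, V))⁰)
      (Γ(Y, h ⁻¹ᵁ V) ⊗[Γ(X, V)] Γ(Spec X.functionField, (X.fromSpecStalk (genericPoint X)) ⁻¹ᵁ V)) :=
    (Algebra.isLocalization_iff_isPushout (R := Γ(X, V)) (Γ(X, V))⁰ Γ(Spec X.functionField, (X.fromSpecStalk (genericPoint X)) ⁻¹ᵁ V)).mpr inferInstance
  exact IsLocalization.isLocalization_of_algEquiv _ E

end Groth.Agent.FEtFF

namespace Groth.Agent.FEtFF
open CategoryTheory CategoryTheory.Limits AlgebraicGeometry TopologicalSpace Opposite nonZeroDivisors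

variable {X : Scheme.{u}} [IsIntegral X]

theorem isIso_of_isIso_app {A B : Scheme.{u}} [IsAffine A] [IsAffine B] (f : A ⟶ B) (O : B.Opens) (hO : O = ⊤)
    (h : IsIso (f.app O)) : IsIso f := by
  subst hO
  haveI : IsIso f.appTop := h
  have e : f = A.isoSpec.hom ≫ Spec.map f.appTop ≫ B.isoSpec.inv := by
    rw [Scheme.isoSpec_hom_naturality_assoc, Iso.hom_inv_id, Category.comp_id]
  rw [e]; infer_instance

/-- Sections of the normalization in `L` become all of `L` after inverting nonzero elements of the base. -/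
theorem exists_smul_integral {L : Type u} [Field L] (φ : Spec (CommRingCat.of L) ⟶ Spec X.functionField) [IsFinite φ]
    {V : X.Opens} (hV : IsAffineOpen V) [Nonempty V]
    : ∀ z : Γ(Spec (CommRingCat.of L), (φ ≫ X.fromSpecStalk (genericPoint X)) ⁻¹ᵁ V),
    ∃ a : Γ(X, V), a ≠ 0 ∧ ((φ ≫ X.fromSpecStalk (genericPoint X)).app V).hom.IsIntegralElem
      ((φ ≫ X.fromSpecStalk (genericPoint X)).app V a * z) := by
  set η := X.fromSpecStalk (genericPoint X)
  set f := φ ≫ η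
  intro z
  obtain ⟨hW, -, hK⟩ := isFractionRing_generic (X := X) hV
  letI : Algebra Γ(X, V) Γ(Spec X.functionField, η ⁻¹ᵁ V) := (η.app V).hom.toAlgebra
  letI : Algebra Γ(Spec X.functionField, η ⁻¹ᵁ V) Γ(Spec (CommRingCat.of L), f ⁻¹ᵁ V) := (φ.app (η ⁻¹ᵁ V)).hom.toAlgebra
  letI : Algebra Γ(X, V) Γ(Spec (CommRingCat.of L), f ⁻¹ᵁ V) := (f.app V).hom.toAlgebra
  haveI : IsScalarTower Γ(X, V) Γ(Spec X.functionField, η ⁻¹ᵁ V) Γ(Spec (CommRingCat.of L), f ⁻¹ᵁ V) :=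
    .of_algebraMap_eq fun a => by
      show (φ ≫ η).app V a = φ.app _ (η.app V a)
      rw [Scheme.Hom.comp_app]; rfl
  haveI : IsLocalization (Γ(X, V))⁰ Γ(Spec X.functionField, η ⁻¹ᵁ V) := hK
  haveI : Module.Finite Γ(Spec X.functionField, η ⁻¹ᵁ V) Γ(Spec (CommRingCat.of L), f ⁻¹ᵁ V) :=
    IsFinite.finite_app φ _ hW
  obtain ⟨⟨a, ha⟩, hz⟩ := IsIntegral.exists_multiple_integral_of_isLocalization (Γ(X, V))⁰ z
    (Algebra.IsIntegral.isIntegral (R := Γ(Spec X.functionField, η ⁻¹ᵁ V)) z)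
  refine ⟨a, nonZeroDivisors.ne_zero ha, ?_⟩
  rw [Submonoid.smul_def, Algebra.smul_def] at hz
  exact hz

theorem isUnit_app {L : Type u} [Field L] (φ : Spec (CommRingCat.of L) ⟶ Spec X.functionField)
    {V : X.Opens} (hV : IsAffineOpen V) [Nonempty V] {a : Γ(X, V)} (ha : a ≠ 0) :
    IsUnit ((φ ≫ X.fromSpecStalk (genericPoint X)).app V a) := by
  obtain ⟨-, -, hK⟩ := isFractionRing_generic (X := X) hV
  letI : Algebra Γ(X, V) Γ(Spec X.functionField, (X.fromSpecStalk (genericPoint X)) ⁻¹ᵁ V) :=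
    ((X.fromSpecStalk (genericPoint X)).app V).hom.toAlgebra
  haveI : IsLocalization (Γ(X, V))⁰ Γ(Spec X.functionField, (X.fromSpecStalk (genericPoint X)) ⁻¹ᵁ V) := hK
  show IsUnit (φ.app ((X.fromSpecStalk (genericPoint X)) ⁻¹ᵁ V) ((X.fromSpecStalk (genericPoint X)).app V a))
  exact (IsLocalization.map_units _ (⟨a, mem_nonZeroDivisors_of_ne_zero ha⟩ : (Γ(X, V))⁰)).map _

/-- The generic fibre of the normalization in `L` is `Spec L`. -/
theorem isPullback_normalization {L : Type u} [Field L] (φ : Spec (CommRingCat.of L) ⟶ Spec X.functionField)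
    [IsFinite φ] [QuasiCompact (φ ≫ X.fromSpecStalk (genericPoint X))] [QuasiSeparated (φ ≫ X.fromSpecStalk (genericPoint X))] :
    IsPullback (φ ≫ X.fromSpecStalk (genericPoint X)).toNormalization φ
      (φ ≫ X.fromSpecStalk (genericPoint X)).fromNormalization (X.fromSpecStalk (genericPoint X)) := by
  set η := X.fromSpecStalk (genericPoint X)
  set f := φ ≫ η
  let π := f.fromNormalization
  let ψ := pullback.lift f.toNormalization φ (f.toNormalization_fromNormalization) (f := π) (g := η)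
  haveI : IsAffine (pullback π η) := isAffine_of_isAffineHom (pullback.snd π η)
  suffices IsIso ψ by
    exact IsPullback.of_iso_pullback ⟨f.toNormalization_fromNormalization⟩ (asIso ψ)
      (pullback.lift_fst _ _ _) (pullback.lift_snd _ _ _)
  obtain ⟨V, hV, hηV, -⟩ := exists_isAffineOpen_mem_and_subset (U := (⊤ : X.Opens)) (x := genericPoint X) trivial
  haveI : Nonempty V := ⟨⟨_, hηV⟩⟩
  obtain ⟨hW, htop, -⟩ := isFractionRing_generic (X := X) hV
  set O := pullback.fst π η ⁻¹ᵁ (π ⁻¹ᵁ V) with hO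
  have hOtop : O = ⊤ := by
    rw [hO, ← Scheme.Hom.comp_preimage, pullback.condition, Scheme.Hom.comp_preimage, htop, Scheme.Hom.preimage_top]
  refine isIso_of_isIso_app ψ O hOtop ((ConcreteCategory.isIso_iff_bijective _).mpr ?_)
  letI := (f.app V).hom.toAlgebra
  letI := (π.app V).hom.toAlgebra
  letI := ((pullback.fst π η).app (π ⁻¹ᵁ V)).hom.toAlgebra
  haveI hloc := isLocalization_generic π (IsPullback.of_hasPullback π η) hV
  have le : f ⁻¹ᵁ V ≤ f.toNormalization ⁻¹ᵁ (π ⁻¹ᵁ V) := by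
    rw [← Scheme.Hom.comp_preimage, f.toNormalization_fromNormalization]
  have le' : f ⁻¹ᵁ V ≤ ψ ⁻¹ᵁ O := by rw [hOtop]; exact le_top
  have hres : ψ ⁻¹ᵁ O = f ⁻¹ᵁ V := le_antisymm (by
    show _ ≤ (φ ≫ η) ⁻¹ᵁ V
    rw [Scheme.Hom.comp_preimage, htop, Scheme.Hom.preimage_top]; exact le_top) le'
  haveI : IsIso ((Spec (CommRingCat.of L)).presheaf.map (homOfLE le').op) :=
    (inferInstance : IsIso ((Spec (CommRingCat.of L)).presheaf.map (eqToHom hres.symm).op))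
  suffices Function.Bijective (ψ.appLE O (f ⁻¹ᵁ V) le') by
    rw [Scheme.Hom.appLE] at this
    exact (Function.Bijective.of_comp_iff' (ConcreteCategory.bijective_of_isIso ((Spec (CommRingCat.of L)).presheaf.map (homOfLE le').op)) _).mp this
  have hval := f.normalizationObjIso_hom_val hV
  have hsub : ∀ b, ψ.appLE O (f ⁻¹ᵁ V) le' ((pullback.fst π η).app (π ⁻¹ᵁ V) b) =
      f.toNormalization.appLE (π ⁻¹ᵁ V) (f ⁻¹ᵁ V) le b := fun b => by
    rw [← CommRingCat.comp_apply, Scheme.Hom.app_eq_appLE, Scheme.Hom.appLE_comp_appLE]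
    have : ∀ (m : Spec (CommRingCat.of L) ⟶ f.normalization) (l : f ⁻¹ᵁ V ≤ m ⁻¹ᵁ (π ⁻¹ᵁ V)), m = f.toNormalization →
        m.appLE (π ⁻¹ᵁ V) (f ⁻¹ᵁ V) l b = f.toNormalization.appLE _ _ le b := by rintro m l rfl; rfl
    exact this _ _ (pullback.lift_fst _ _ _)
  have hA : ∀ a, f.toNormalization.appLE (π ⁻¹ᵁ V) (f ⁻¹ᵁ V) le (π.app V a) = f.app V a := fun a => by
    rw [← CommRingCat.comp_apply, Scheme.Hom.app_eq_appLE, Scheme.Hom.appLE_comp_appLE]
    have hk : ∀ (m : Spec (CommRingCat.of L) ⟶ X) (l : f ⁻¹ᵁ V ≤ m ⁻¹ᵁ V), m = f → m.appLE V (f ⁻¹ᵁ V) l a = f.app V a := by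
      rintro m l rfl; rw [Scheme.Hom.app_eq_appLE]
    exact hk _ _ f.toNormalization_fromNormalization
  have hinj : Function.Injective (f.toNormalization.appLE (π ⁻¹ᵁ V) (f ⁻¹ᵁ V) le) := by
    rw [← hval]
    exact Subtype.val_injective.comp (ConcreteCategory.bijective_of_isIso (f.normalizationObjIso hV).hom).1
  constructor
  · refine (injective_iff_map_eq_zero (ψ.appLE O (f ⁻¹ᵁ V) le').hom).mpr fun c hc => ?_
    obtain ⟨⟨b, ⟨_, a, ha, rfl⟩⟩, hb⟩ := IsLocalization.surj (Algebra.algebraMapSubmonoid Γ(f.normalization, π ⁻¹ᵁ V) (Γ(X, V))⁰) c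
    have hb0 : b = 0 := hinj (by
      rw [map_zero, ← hsub b]
      refine (congrArg (ψ.appLE O (f ⁻¹ᵁ V) le') hb.symm).trans ?_
      rw [map_mul, hc, zero_mul])
    subst hb0
    rw [map_zero] at hb
    exact (IsLocalization.map_units _ (⟨_, a, ha, rfl⟩ : Algebra.algebraMapSubmonoid Γ(f.normalization, π ⁻¹ᵁ V) (Γ(X, V))⁰)).mul_left_eq_zero.mp hb
  · intro z
    obtain ⟨a, ha, hint⟩ := exists_smul_integral φ hV z
    let b := (f.normalizationObjIso hV).inv ⟨_, hint⟩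
    have hb : f.toNormalization.appLE (π ⁻¹ᵁ V) (f ⁻¹ᵁ V) le b = f.app V a * z := by
      rw [← hval, CommRingCat.comp_apply, ← CommRingCat.comp_apply (f.normalizationObjIso hV).inv, Iso.inv_hom_id]
      rfl
    have hu := IsLocalization.map_units Γ(pullback π η, O)
      (⟨_, a, mem_nonZeroDivisors_of_ne_zero ha, rfl⟩ : Algebra.algebraMapSubmonoid Γ(f.normalization, π ⁻¹ᵁ V) (Γ(X, V))⁰)
    refine ⟨↑hu.unit⁻¹ * (pullback.fst π η).app (π ⁻¹ᵁ V) b, ?_⟩
    refine (isUnit_app φ hV ha).mul_left_cancel ?_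
    rw [← hb, ← hA a, ← hsub, ← hsub, ← map_mul, ← mul_assoc]
    refine congrArg _ ?_
    rw [show (pullback.fst π η).app (π ⁻¹ᵁ V) (π.app V a) * ↑hu.unit⁻¹ = 1 from hu.mul_val_inv, one_mul]

/-- A finite étale cover of a normal scheme whose generic fibre is `Spec L` is the normalization in `L`. -/
theorem isIso_normalizationDesc (hX : Pi1.IsNormalScheme X) {L : Type u} [Field L]
    (φ : Spec (CommRingCat.of L) ⟶ Spec X.functionField)
    [QuasiCompact (φ ≫ X.fromSpecStalk (genericPoint X))] [QuasiSeparated (φ ≫ X.fromSpecStalk (genericPoint X))]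
    {Z : Scheme.{u}} (h : Z ⟶ X) [IsFinite h] [Etale h] (s : Spec (CommRingCat.of L) ⟶ Z)
    (H : IsPullback s φ h (X.fromSpecStalk (genericPoint X))) :
    IsIso ((φ ≫ X.fromSpecStalk (genericPoint X)).normalizationDesc s h H.w.symm) := by
  set η := X.fromSpecStalk (genericPoint X)
  set f := φ ≫ η
  set d := f.normalizationDesc s h H.w.symm
  obtain ⟨pt⟩ : Nonempty (Spec (CommRingCat.of L)) := inferInstance
  haveI : Subsingleton (Spec (CommRingCat.of L)) := (inferInstance : Subsingleton (PrimeSpectrum L))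
  have hgen : ∀ z : Z, s pt ⤳ z := fun z => by
    obtain ⟨z', hz', hz'η⟩ := Flat.generalizingMap h (genericPoint_specializes (h z))
    obtain ⟨t, ht, -⟩ := Scheme.Pullback.exists_preimage_pullback (f := h) (g := η) z'
      (IsLocalRing.closedPoint (X.presheaf.stalk (genericPoint X))) (by rw [hz'η]; exact Scheme.fromSpecStalk_closedPoint.symm)
    have : s (H.isoPullback.inv t) = z' := by
      rw [← Scheme.Hom.comp_apply, H.isoPullback_inv_fst, ht]
    rw [Subsingleton.elim pt (H.isoPullback.inv t), this]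
    exact hz'
  haveI : IrreducibleSpace Z := by
    haveI : Nonempty Z := ⟨s pt⟩
    haveI : PreirreducibleSpace Z :=
      ⟨fun u v hu hv ⟨a, _, ha⟩ ⟨b, _, hb⟩ => ⟨s pt, trivial, (hgen a).mem_open hu ha, (hgen b).mem_open hv hb⟩⟩
    constructor; infer_instance
  obtain ⟨_, hn⟩ := isIntegral_and_normal hX h
  haveI : IsIntegral Z := ‹_›
  let ι := {V : X.affineOpens // Nonempty V.1}
  have hcov : ⨆ V : ι, h ⁻¹ᵁ V.1.1 = ⊤ := by
    refine top_unique fun z _ => ?_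
    obtain ⟨V, hV, hzV, -⟩ := exists_isAffineOpen_mem_and_subset (U := (⊤ : X.Opens)) (x := h z) trivial
    exact Opens.mem_iSup.mpr ⟨⟨⟨V, hV⟩, ⟨_, hzV⟩⟩, hzV⟩
  have hloc : ∀ V : ι, IsIso (d ∣_ (h ⁻¹ᵁ V.1.1)) := by
    rintro ⟨⟨V, hV⟩, hne⟩
    haveI : Nonempty V := hne
    haveI : IsAffine (h ⁻¹ᵁ V).toScheme := hV.preimage h
    set B := Γ(Z, h ⁻¹ᵁ V)
    obtain ⟨x, hx⟩ := hne
    have hηV : genericPoint X ∈ V := (genericPoint_specializes x).mem_open V.isOpen hx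
    haveI : Nonempty (h ⁻¹ᵁ V) := ⟨⟨s pt, by
      show (s ≫ h) pt ∈ V
      rw [H.w, Scheme.Hom.comp_apply]
      have : η (φ pt) ∈ {y | y ⤳ genericPoint X} := by rw [← Scheme.range_fromSpecStalk]; exact ⟨_, rfl⟩
      exact (show η (φ pt) ⤳ genericPoint X from this).mem_open V.isOpen hηV⟩⟩
    haveI : IsDomain Γ(Z, h ⁻¹ᵁ V) := inferInstance
    haveI := NormalExtLib.isIntegrallyClosed_sections hn (h ⁻¹ᵁ V) (hV.preimage h)
    letI := (h.app V).hom.toAlgebra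
    letI := (s.app (h ⁻¹ᵁ V)).hom.toAlgebra
    haveI hS := isLocalization_generic h H hV
    refine (isIso_morphismRestrict_iff_isIso_app _ (U := h ⁻¹ᵁ V) (hV.preimage h)).mpr
      ((ConcreteCategory.isIso_iff_bijective _).mpr ?_)
    have hd : d ⁻¹ᵁ (h ⁻¹ᵁ V) = f.fromNormalization ⁻¹ᵁ V := by
      rw [← Scheme.Hom.comp_preimage, f.normalizationDesc_comp]
    have hsf : s ⁻¹ᵁ (h ⁻¹ᵁ V) = f ⁻¹ᵁ V := by rw [← Scheme.Hom.comp_preimage, H.w]
    haveI : IsIso ((Spec (CommRingCat.of L)).presheaf.map (homOfLE hsf.ge).op) :=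
      (inferInstance : IsIso ((Spec (CommRingCat.of L)).presheaf.map (eqToHom hsf.symm).op))
    haveI : IsIso (f.normalization.presheaf.map (homOfLE hd.ge).op) :=
      (inferInstance : IsIso (f.normalization.presheaf.map (eqToHom hd.symm).op))
    suffices Function.Bijective (d.appLE (h ⁻¹ᵁ V) (f.fromNormalization ⁻¹ᵁ V) hd.ge) by
      rw [Scheme.Hom.appLE] at this
      exact (Function.Bijective.of_comp_iff' (ConcreteCategory.bijective_of_isIso (f.normalization.presheaf.map (homOfLE hd.ge).op)) _).mp this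
    letI := (f.app V).hom.toAlgebra
    have le : f ⁻¹ᵁ V ≤ f.toNormalization ⁻¹ᵁ (f.fromNormalization ⁻¹ᵁ V) := by
      rw [← Scheme.Hom.comp_preimage, f.toNormalization_fromNormalization]
    have hval := f.normalizationObjIso_hom_val hV
    have hinj : Function.Injective (f.toNormalization.appLE _ (f ⁻¹ᵁ V) le) := by
      rw [← hval]
      exact Subtype.val_injective.comp (ConcreteCategory.bijective_of_isIso (f.normalizationObjIso hV).hom).1
    let r := (Spec (CommRingCat.of L)).presheaf.map (homOfLE hsf.ge).op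
    have hk : ∀ c, f.toNormalization.appLE _ (f ⁻¹ᵁ V) le (d.appLE _ _ hd.ge c) = r (s.app (h ⁻¹ᵁ V) c) := fun c => by
      rw [← CommRingCat.comp_apply, Scheme.Hom.appLE_comp_appLE]
      have : ∀ (m : Spec (CommRingCat.of L) ⟶ Z) (l : f ⁻¹ᵁ V ≤ m ⁻¹ᵁ (h ⁻¹ᵁ V)), m = s →
          m.appLE (h ⁻¹ᵁ V) (f ⁻¹ᵁ V) l c = r (s.app (h ⁻¹ᵁ V) c) := by rintro m l rfl; rfl
      exact this _ _ (f.toNormalization_normalizationDesc s h H.w.symm)
    have hfa : ∀ a, r (s.app (h ⁻¹ᵁ V) (h.app V a)) = f.app V a := fun a => by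
      have : ∀ (m : Spec (CommRingCat.of L) ⟶ X) (l : f ⁻¹ᵁ V ≤ m ⁻¹ᵁ V), m = f →
          m.appLE V (f ⁻¹ᵁ V) l a = f.app V a := by rintro m l rfl; rw [Scheme.Hom.app_eq_appLE]
      have e := this (s ≫ h) (by rw [H.w]) H.w
      rw [← e, Scheme.Hom.appLE, Scheme.Hom.comp_app]
      rfl
    let M := Algebra.algebraMapSubmonoid Γ(Z, h ⁻¹ᵁ V) (Γ(X, V))⁰
    have hflat : ∀ m : M, (m : Γ(Z, h ⁻¹ᵁ V)) ∈ (Γ(Z, h ⁻¹ᵁ V))⁰ := by
      rintro ⟨_, a, ha, rfl⟩
      haveI : Module.Flat Γ(X, V) Γ(Z, h ⁻¹ᵁ V) := by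
        have := h.flat_appLE hV (hV.preimage h) le_rfl
        rwa [← Scheme.Hom.app_eq_appLE] at this
      refine mem_nonZeroDivisors_iff_right.2 fun x hx => Module.Flat.isSMulRegular_of_nonZeroDivisors ha ?_
      show a • x = a • (0 : Γ(Z, h ⁻¹ᵁ V))
      rw [smul_zero, Algebra.smul_def, mul_comm]
      exact hx
    have hsinj : Function.Injective (s.app (h ⁻¹ᵁ V)) :=
      IsLocalization.injective Γ(Spec (CommRingCat.of L), s ⁻¹ᵁ (h ⁻¹ᵁ V)) (M := M) fun m hm => hflat ⟨m, hm⟩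
    have hrb := ConcreteCategory.bijective_of_isIso r
    refine ⟨fun c c' e => hsinj (hrb.1 (by rw [← hk, ← hk, e])), fun y => ?_⟩
    obtain ⟨w, hw⟩ := hrb.2 (f.toNormalization.appLE _ (f ⁻¹ᵁ V) le y)
    have hint : (f.app V).hom.IsIntegralElem (r w) := by
      rw [hw, ← hval]
      exact ((f.normalizationObjIso hV).hom y).2
    obtain ⟨p, hp, hp0⟩ := hint
    have hpw : p.eval₂ ((s.app (h ⁻¹ᵁ V)).hom.comp (h.app V).hom) w = 0 := hrb.1 (by
      rw [map_zero, Polynomial.hom_eval₂]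
      refine Eq.trans ?_ hp0
      congr 1
      exact RingHom.ext hfa)
    let F := FractionRing Γ(Z, h ⁻¹ᵁ V)
    have hu : ∀ m : M, IsUnit (algebraMap Γ(Z, h ⁻¹ᵁ V) F m) := fun m =>
      IsLocalization.map_units F (⟨m, hflat m⟩ : (Γ(Z, h ⁻¹ᵁ V))⁰)
    let θ : Γ(Spec (CommRingCat.of L), s ⁻¹ᵁ (h ⁻¹ᵁ V)) →+* F := IsLocalization.lift hu
    have hθ : ∀ b, θ (s.app (h ⁻¹ᵁ V) b) = algebraMap _ F b := fun b => IsLocalization.lift_eq hu b
    obtain ⟨c, hc⟩ := IsIntegrallyClosed.isIntegral_iff.mp (show _root_.IsIntegral Γ(Z, h ⁻¹ᵁ V) (θ w) from by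
      refine ⟨p.map (h.app V).hom, hp.map _, ?_⟩
      rw [Polynomial.eval₂_map]
      have := congrArg θ hpw
      rw [Polynomial.hom_eval₂, map_zero] at this
      refine Eq.trans ?_ this
      congr 1
      exact RingHom.ext fun a => (hθ _).symm)
    have hwc : w = s.app (h ⁻¹ᵁ V) c := by
      obtain ⟨⟨b, m⟩, hbm⟩ := IsLocalization.surj M w
      dsimp only at hbm
      have h1 := congrArg θ hbm
      change θ (w * s.app (h ⁻¹ᵁ V) (m : Γ(Z, h ⁻¹ᵁ V))) = θ (s.app (h ⁻¹ᵁ V) b) at h1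
      rw [map_mul, hθ, hθ, ← hc, ← map_mul] at h1
      have h2 := IsFractionRing.injective Γ(Z, h ⁻¹ᵁ V) F h1
      refine (IsLocalization.map_units (Γ(Spec (CommRingCat.of L), s ⁻¹ᵁ (h ⁻¹ᵁ V))) m).mul_right_cancel ?_
      show w * s.app (h ⁻¹ᵁ V) (m : Γ(Z, h ⁻¹ᵁ V)) = s.app (h ⁻¹ᵁ V) c * s.app (h ⁻¹ᵁ V) (m : Γ(Z, h ⁻¹ᵁ V))
      rw [← map_mul, h2]
      exact hbm
    exact ⟨c, hinj (by rw [hk, ← hwc, hw])⟩
  exact IsZariskiLocalAtTarget.of_iSup_eq_top (P := MorphismProperty.isomorphisms Scheme) (fun V : ι => h ⁻¹ᵁ V.1.1) hcov hloc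

end Groth.Agent.FEtFF
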