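import Groth.Agent.FEtFF.Sections
import Mathlib.AlgebraicGeometry.Over

/-!
# Connectedness of base changes when `f_* O_X = O_S`
-/

set_option autoImplicit false
set_option linter.style.haveILetI false
set_option backward.isDefEq.respectTransparency.types false
universe u

namespace Groth.Agent.FEtFF
open CategoryTheory CategoryTheory.Limits AlgebraicGeometry TopologicalSpace Opposite

variable {X S Y : Scheme.{u}} (f : X ⟶ S) (hf : ∀ U : S.Opens, Function.Bijective (f.app U)) (g : Y ⟶ S)
  [IsFinite g] [Etale g]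

include hf in
theorem bijective_app_top : Function.Bijective (pullback.snd f g).appTop := by
  let p := pullback.snd f g
  have H := (IsPullback.of_hasPullback f g).flip
  have hloc : ∀ U : S.Opens, IsAffineOpen U → Function.Bijective (p.app (g ⁻¹ᵁ U)) :=
    fun U hU => bijective_app f g H hU (hf U)
  have res : ∀ {V W : Y.Opens} (i : V ≤ W) (s : Γ(Y, W)),
      p.app V (Y.presheaf.map (homOfLE i).op s) =
        (pullback f g).presheaf.map (homOfLE (p.preimage_mono i)).op (p.app W s) := fun i s =>
    ConcreteCategory.congr_hom (p.naturality (homOfLE i).op) s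
  let ι := S.affineOpens
  have hc : (⊤ : Y.Opens) ≤ ⨆ U : ι, g ⁻¹ᵁ U.1 := by
    rw [← Scheme.Hom.preimage_iSup, iSup_affineOpens_eq_top]; exact le_rfl
  constructor
  · intro s t hst
    refine Y.IsSheaf.section_ext fun y _ => ?_
    obtain ⟨U, hU, hyU, -⟩ := exists_isAffineOpen_mem_and_subset (U := (⊤ : S.Opens)) (x := g y) trivial
    refine ⟨g ⁻¹ᵁ U, le_top, hyU, (hloc U hU).1 ?_⟩
    rw [res, res]
    exact congrArg _ hst
  · intro z
    have hz : ∀ U : ι, ∃ a, p.app (g ⁻¹ᵁ U.1) a = (pullback f g).presheaf.map (homOfLE le_top).op z :=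
      fun U => (hloc U.1 U.2).2 _
    choose a ha using hz
    obtain ⟨s, hs, -⟩ := Y.sheaf.existsUnique_gluing' (fun U : ι => g ⁻¹ᵁ U.1) ⊤ (fun U => homOfLE le_top) hc a
      (fun U U' => by
        refine Y.IsSheaf.section_ext fun y hy => ?_
        obtain ⟨V, hV, hyV, hVU⟩ := exists_isAffineOpen_mem_and_subset (U := U.1 ⊓ U'.1) (x := g y) hy
        refine ⟨g ⁻¹ᵁ V, g.preimage_mono hVU, hyV, ?_⟩
        have key : ∀ (W : ι) (i : g ⁻¹ᵁ V ≤ g ⁻¹ᵁ W.1), p.app (g ⁻¹ᵁ V) (Y.presheaf.map (homOfLE i).op (a W)) =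
            (pullback f g).presheaf.map (homOfLE le_top).op z := fun W i => by
          rw [res, ha, ← CommRingCat.comp_apply, ← Functor.map_comp]; rfl
        refine (hloc V hV).1 ?_
        show p.app (g ⁻¹ᵁ V) ((Y.presheaf.map (homOfLE inf_le_left).op ≫ Y.presheaf.map _) (a U)) =
          p.app (g ⁻¹ᵁ V) ((Y.presheaf.map (homOfLE inf_le_right).op ≫ Y.presheaf.map _) (a U'))
        rw [← Functor.map_comp, ← Functor.map_comp]
        exact (key U (g.preimage_mono (le_trans hVU inf_le_left))).trans
          (key U' (g.preimage_mono (le_trans hVU inf_le_right))).symm)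
    refine ⟨s, (pullback f g).IsSheaf.section_ext fun x _ => ?_⟩
    obtain ⟨U, hU, hyU, -⟩ := exists_isAffineOpen_mem_and_subset (U := (⊤ : S.Opens)) (x := g (p x)) trivial
    refine ⟨p ⁻¹ᵁ (g ⁻¹ᵁ U), le_top, hyU, ?_⟩
    have e := ha ⟨U, hU⟩
    rw [← show Y.presheaf.map (homOfLE le_top).op s = a ⟨U, hU⟩ from hs ⟨U, hU⟩, res] at e
    exact e

include hf in
theorem connectedSpace_pullback [ConnectedSpace Y] : ConnectedSpace ↥(pullback f g) := by
  let p := pullback.snd f g
  have hb := bijective_app_top f hf g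
  haveI : Nonempty (pullback f g : Scheme.{u}) := by
    by_contra hn
    rw [not_nonempty_iff] at hn
    haveI : Subsingleton Γ(pullback f g, ⊤) :=
      CommRingCat.subsingleton_of_isTerminal (by
        rw [show (⊤ : (pullback f g).Opens) = ⊥ from Opens.ext (Set.eq_empty_of_isEmpty _)]
        exact (pullback f g).sheaf.isTerminalOfEmpty)
    haveI : Subsingleton Γ(Y, ⊤) := hb.1.subsingleton
    obtain ⟨y⟩ := (inferInstance : Nonempty Y)
    exact not_subsingleton (Y.presheaf.stalk y)
      (subsingleton_of_zero_eq_one (by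
        rw [← map_zero (Y.presheaf.germ ⊤ y trivial).hom, ← map_one (Y.presheaf.germ ⊤ y trivial).hom,
          Subsingleton.elim (0 : Γ(Y, ⊤)) 1]))
  refine connectedSpace_iff_clopen.mpr ⟨inferInstance, fun C hC => ?_⟩
  let U : (pullback f g).Opens := ⟨C, hC.isOpen⟩
  let V : (pullback f g).Opens := ⟨Cᶜ, hC.compl.isOpen⟩
  have hUV : U ⊓ V = ⊥ := Opens.ext (Set.inter_compl_self C)
  let T : Bool → (pullback f g).Opens := fun b => cond b U V
  let sec : ∀ b, Γ(pullback f g, T b) := fun b => Bool.casesOn b 0 1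
  obtain ⟨e, he, -⟩ := (pullback f g).sheaf.existsUnique_gluing' T ⊤ (fun b => homOfLE le_top)
    (fun x _ => by
      refine Opens.mem_iSup.mpr ?_
      by_cases hx : x ∈ C
      exacts [⟨true, hx⟩, ⟨false, hx⟩]) sec (fun b b' => by
      cases b <;> cases b'
      · rfl
      · refine @Subsingleton.elim _ ?_ _ _
        show Subsingleton Γ(pullback f g, V ⊓ U)
        rw [inf_comm, hUV]; exact CommRingCat.subsingleton_of_isTerminal (pullback f g).sheaf.isTerminalOfEmpty
      · refine @Subsingleton.elim _ ?_ _ _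
        show Subsingleton Γ(pullback f g, U ⊓ V)
        rw [hUV]; exact CommRingCat.subsingleton_of_isTerminal (pullback f g).sheaf.isTerminalOfEmpty
      · rfl)
  change Γ(pullback f g, ⊤) at e
  have hgerm : ∀ b x (hx : x ∈ T b), (pullback f g).presheaf.germ ⊤ x trivial e =
      (pullback f g).presheaf.germ (T b) x hx (sec b) := fun b x hx => by
    have h1 : (pullback f g).presheaf.map (homOfLE le_top).op e = sec b := he b
    rw [← h1, ← CommRingCat.comp_apply, TopCat.Presheaf.germ_res]
  have hCe : C = ((pullback f g).basicOpen e : Set _) := by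
    ext x
    rw [SetLike.mem_coe, Scheme.mem_basicOpen _ _ _ (Opens.mem_top x)]
    by_cases hx : x ∈ C
    · rw [hgerm true x hx]
      simp [hx, sec]
    · rw [hgerm false x hx]
      simp [hx, sec]
  have heid : IsIdempotentElem e := by
    refine (pullback f g).IsSheaf.section_ext fun x _ => ?_
    by_cases hx : x ∈ C
    · refine ⟨T true, le_top, hx, ?_⟩
      rw [map_mul, show (pullback f g).presheaf.map (homOfLE le_top).op e = sec true from he true]
      exact one_mul _
    · refine ⟨T false, le_top, hx, ?_⟩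
      rw [map_mul, show (pullback f g).presheaf.map (homOfLE le_top).op e = sec false from he false]
      exact zero_mul _
  obtain ⟨e', rfl⟩ := hb.2 e
  have hid : IsIdempotentElem e' := hb.1 (by rw [map_mul, heid.eq])
  have hopen : IsClopen (Y.basicOpen e' : Set Y) := by
    refine ⟨?_, (Y.basicOpen e').isOpen⟩
    have : (Y.basicOpen e' : Set Y)ᶜ = (Y.basicOpen (1 - e') : Set Y) := by
      ext y
      rw [Set.mem_compl_iff, SetLike.mem_coe, SetLike.mem_coe, Scheme.mem_basicOpen _ _ _ (Opens.mem_top y),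
        Scheme.mem_basicOpen _ _ _ (Opens.mem_top y), map_sub, map_one]
      constructor
      · exact fun h => (IsLocalRing.isUnit_or_isUnit_one_sub_self _).resolve_left h
      · intro h h'
        have h0 : Y.presheaf.germ ⊤ y trivial e' * (1 - Y.presheaf.germ ⊤ y trivial e') = 0 := by
          rw [mul_sub, mul_one, ← map_mul, hid.eq, sub_self]
        exact not_isUnit_zero (h0 ▸ h'.mul h)
    rw [← isOpen_compl_iff, this]
    exact (Y.basicOpen (1 - e')).isOpen
  have hpre : C = p ⁻¹' (Y.basicOpen e' : Set Y) := by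
    rw [hCe]
    exact congrArg SetLike.coe (p.preimage_basicOpen e').symm
  rcases isClopen_iff.mp hopen with h0 | h1
  · left; rw [hpre, h0, Set.preimage_empty]
  · right; rw [hpre, h1, Set.preimage_univ]

end Groth.Agent.FEtFF
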