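import Groth.Agent.FEtFF.PurityGlobal
import Groth.Agent.FEtFF.PurityRegular
import Groth.Agent.CAlgH3.Serre
import Groth.Agent.CAlgH3.Factorial
import Groth.Agent.DimLib.Algebra
import Mathlib.RingTheory.IntegralClosure.GoingDown

/-!
# Purity for finite normal domains over regular local rings
-/

set_option autoImplicit false
set_option linter.style.haveILetI false
set_option backward.isDefEq.respectTransparency.types false
set_option backward.isDefEq.respectTransparency false
universe u

open CategoryTheory CategoryTheory.Limits AlgebraicGeometry TopologicalSpace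

namespace Groth.Agent.FEtFF.PurityFinite

/-- A finite normal domain over a regular local ring, étale away from the closed fibre, is étale. -/
theorem etale_of_finite_normal (A B : Type u) [CommRing A] [IsRegularLocalRing A]
    (hA : (2 : WithBot ℕ∞) ≤ ringKrullDim A) [CommRing B] [IsDomain B] [IsIntegrallyClosed B]
    [Algebra A B] [Module.Finite A B] (hinj : Function.Injective (algebraMap A B))
    (h : ∀ (q : Ideal B) (_ : q.IsPrime), q.comap (algebraMap A B) ≠ IsLocalRing.maximalIdeal A →
      Algebra.IsEtaleAt A q) : Algebra.Etale A B := by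
  haveI := CAlgH3.isDomain_of_isRegularLocalRing A
  haveI : UniqueFactorizationMonoid A := CAlgH3.ufm_of_regular A
  haveI : IsNoetherianRing B := IsNoetherianRing.of_finite A B
  haveI : FaithfulSMul A B := (faithfulSMul_iff_algebraMap_injective A B).2 hinj
  have hd : 2 ≤ (IsLocalRing.maximalIdeal A).spanFinrank := by
    have := hA
    rw [← IsRegularLocalRing.spanFinrank_maximalIdeal] at this
    exact_mod_cast this
  refine PurityGlobal.etale_of_purity (by rw [CAlgH3.depth_eq_spanFinrank]; exact_mod_cast hd) ⟨fun V => ?_⟩ B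
    (fun Q hQ => h Q.asIdeal Q.2 hQ) ?_
  · haveI : IsFinite V.hom := V.prop.1
    haveI : Etale V.hom := V.prop.2
    obtain ⟨Y, y, hy, hy', i, hi⟩ := Hypersurface.exists_extension_of_regular _ A hd rfl V.hom
    exact ⟨MorphismProperty.Over.mk ⊤ y ⟨hy, hy'⟩, ⟨MorphismProperty.Over.isoMk i hi⟩⟩
  let ζ := Spec.map (CommRingCat.ofHom (algebraMap A B))
  let UL := FEt.puncturedSpec A
  have hdepth : ∀ z : Spec (CommRingCat.of B), z ∉ ζ ⁻¹ᵁ UL → (2 : ℕ∞) ≤
      _root_.LocCoh.depth ((Spec (CommRingCat.of B)).presheaf.stalk z) ((Spec (CommRingCat.of B)).presheaf.stalk z) := by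
    intro z hz
    let Q : PrimeSpectrum B := z
    have hzm : Q.asIdeal.comap (algebraMap A B) = IsLocalRing.maximalIdeal A := by
      by_contra hne
      exact hz fun e => hne (congrArg PrimeSpectrum.asIdeal e)
    let BQ := Localization.AtPrime Q.asIdeal
    refine le_of_le_of_eq ?_ (CAlgH3.depth_ringEquiv (StructureSheaf.stalkIso B Q).toRingEquiv)
    haveI : IsIntegrallyClosed BQ := isIntegrallyClosed_of_isLocalization BQ Q.asIdeal.primeCompl
      Q.asIdeal.primeCompl_le_nonZeroDivisors
    refine CAlgH3.two_le_depth_of_normal ?_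
    rw [IsLocalization.AtPrime.ringKrullDim_eq_height Q.asIdeal BQ, ← DimLib.height_comap_eq (R := A) Q.asIdeal, hzm,
      IsLocalRing.maximalIdeal_height_eq_ringKrullDim]
    exact hA
  let e := IsOpenImmersion.isoOfRangeEq (pullback.fst ζ UL.ι) (ζ ⁻¹ᵁ UL).ι (by
    rw [Scheme.Pullback.range_fst, Scheme.Opens.range_ι, Scheme.Opens.range_ι]; rfl)
  haveI : IsIso e.hom := e.isIso_hom
  have fac : e.hom ≫ (ζ ⁻¹ᵁ UL).ι = pullback.fst ζ UL.ι := IsOpenImmersion.isoOfRangeEq_hom_fac _ _ _
  rw [← fac, Scheme.Hom.comp_app]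
  exact (ConcreteCategory.bijective_of_isIso (e.hom.app _)).comp
    (Hartogs.bijective_ι_app _ hdepth (isAffineOpen_top _))

end Groth.Agent.FEtFF.PurityFinite
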