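import Groth.Agent.FEtFF.PurityFinite
import Groth.Agent.Et18.EtaleLocalRing
import Groth.Agent.FlatMor12.FlatUnramified
import Groth.Agent.PurityFlat.Local

/-!
# Purity of the branch locus for quasi-finite morphisms at normal points over regular points
-/

set_option autoImplicit false
set_option linter.style.haveILetI false
set_option backward.isDefEq.respectTransparency.types false
set_option backward.isDefEq.respectTransparency false
universe u

open CategoryTheory AlgebraicGeometry TensorProduct

namespace Groth.Agent.FEtFF.PurityLocal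

/-- A finite normal domain over a regular local ring, unramified in codimension one, is étale. -/
theorem etale_of_unramified_codim_one : ∀ (n : ℕ) (A B : Type u) [CommRing A] [IsRegularLocalRing A] [CommRing B]
    [IsDomain B] [IsIntegrallyClosed B] [Algebra A B] [Module.Finite A B], 1 ≤ n →
    (IsLocalRing.maximalIdeal A).spanFinrank = n → Function.Injective (algebraMap A B) →
    (∀ (q : Ideal B) [q.IsPrime], q.height = 1 → Algebra.IsUnramifiedAt A q) → Algebra.Etale A B := by
  intro n
  induction n using Nat.strong_induction_on with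
  | _ n ih =>
  intro A B _ _ _ _ _ _ _ hn1 hd hinj hunr
  haveI := CAlgH3.isDomain_of_isRegularLocalRing A
  haveI : UniqueFactorizationMonoid A := CAlgH3.ufm_of_regular A
  haveI : IsNoetherianRing B := IsNoetherianRing.of_finite A B
  haveI : FaithfulSMul A B := (faithfulSMul_iff_algebraMap_injective A B).2 hinj
  haveI : Module.FinitePresentation A B := Module.finitePresentation_of_finite A B
  haveI : Algebra.FinitePresentation A B := Algebra.FinitePresentation.of_finitePresentation A B
  have hdimA : ringKrullDim A = (n : WithBot ℕ∞) := by rw [← IsRegularLocalRing.spanFinrank_maximalIdeal, hd]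
  have hhm : (IsLocalRing.maximalIdeal A).height = n := by
    have := IsLocalRing.maximalIdeal_height_eq_ringKrullDim (R := A)
    rw [hdimA] at this
    exact_mod_cast this
  rcases eq_or_lt_of_le hn1 with rfl | hn2
  · -- a discrete valuation ring
    obtain ⟨x, hx, hx2⟩ : ∃ x ∈ IsLocalRing.maximalIdeal A, x ∉ IsLocalRing.maximalIdeal A ^ 2 := by
      by_contra! hcon
      have : IsLocalRing.maximalIdeal A = ⊥ := Submodule.eq_bot_of_le_smul_of_le_jacobson_bot
        (IsLocalRing.maximalIdeal A) (IsLocalRing.maximalIdeal A) (IsNoetherian.noetherian _)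
        (by rw [smul_eq_mul, ← pow_two]; exact fun y hy => hcon y hy) (IsLocalRing.maximalIdeal_le_jacobson _)
      rw [this] at hd
      simp at hd
    have hx0 : x ≠ 0 := fun e => hx2 (e ▸ zero_mem _)
    haveI : Module.Free A B := CAlgH3.free_of_le_depth 1 A hd B (by
      rw [Nat.cast_one, CAlgH3.one_le_depth_iff, ← CAlgH3.exists_regular_iff_notMem_associatedPrimes]
      refine ⟨x, hx, isSMulRegular_iff_right_eq_zero_of_smul.2 fun b hb => ?_⟩
      rw [Algebra.smul_def, mul_eq_zero] at hb
      exact hb.resolve_left fun e => hx0 (hinj (e.trans (map_zero _).symm)))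
    have hall : Algebra.unramifiedLocus A B = Set.univ := by
      refine Set.eq_univ_of_forall fun Q => ?_
      have hle : Q.asIdeal.height ≤ 1 := by
        rw [← DimLib.height_comap_eq (R := A) Q.asIdeal]
        exact (Ideal.height_mono (IsLocalRing.le_maximalIdeal (Ideal.IsPrime.ne_top inferInstance))).trans (by rw [hhm]; simp)
      rcases eq_or_lt_of_le hle with h1 | h0
      · exact hunr Q.asIdeal h1
      · obtain ⟨M, hM, hQM⟩ := Ideal.exists_le_maximal Q.asIdeal Q.2.ne_top
        have hcm : M.comap (algebraMap A B) = IsLocalRing.maximalIdeal A :=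
          IsLocalRing.eq_maximalIdeal (Ideal.isMaximal_comap_of_isIntegral_of_isMaximal M)
        have hM1 : M.height = 1 := by rw [← DimLib.height_comap_eq (R := A) M, hcm, hhm]; simp
        exact (PrimeSpectrum.le_iff_specializes Q ⟨M, hM.isPrime⟩).1 hQM |>.mem_open
          Algebra.isOpen_unramifiedLocus (hunr M hM1)
    haveI : Algebra.FormallyUnramified A B := Algebra.unramifiedLocus_eq_univ_iff.1 hall
    exact Algebra.Etale.of_formallyUnramified_of_flat
  -- higher dimension
  refine PurityFinite.etale_of_finite_normal A B (by rw [hdimA]; exact_mod_cast hn2) hinj ?_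
  have main : ∀ (q : Ideal B) [q.IsPrime], q.comap (algebraMap A B) ≠ IsLocalRing.maximalIdeal A →
      q.comap (algebraMap A B) ≠ ⊥ → Algebra.IsEtaleAt A q := by
    intro q hq hne hne0
    let p := q.comap (algebraMap A B)
    let L := Localization.AtPrime p
    haveI : IsRegularLocalRing L := CAlgH3.isRegularLocalRing_localization p
    letI : Algebra B (L ⊗[A] B) := Algebra.TensorProduct.rightAlgebra
    let S := L ⊗[A] B
    let MB := Algebra.algebraMapSubmonoid B p.primeCompl
    haveI : IsLocalization MB S :=
      (Algebra.isLocalization_iff_isPushout p.primeCompl L).2 (TensorProduct.isPushout (R := A) (S := L) (T := B)).symm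
    have hMB : MB ≤ nonZeroDivisors B := by
      rintro _ ⟨a, ha, rfl⟩
      exact mem_nonZeroDivisors_iff_ne_zero.2 fun e => ha (by rw [hinj (e.trans (map_zero _).symm)]; exact zero_mem _)
    haveI : IsDomain S := IsLocalization.isDomain_of_le_nonZeroDivisors S hMB
    haveI : IsIntegrallyClosed S := isIntegrallyClosed_of_isLocalization S MB hMB
    haveI : Algebra.FormallyEtale A L := Algebra.FormallyEtale.of_isLocalization p.primeCompl
    have hk : ∃ k : ℕ, 1 ≤ k ∧ k < n ∧ (IsLocalRing.maximalIdeal L).spanFinrank = k := by
      refine ⟨_, ?_, ?_, rfl⟩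
      · have h : (p.height : WithBot ℕ∞) = ((IsLocalRing.maximalIdeal L).spanFinrank : WithBot ℕ∞) := by
          rw [IsRegularLocalRing.spanFinrank_maximalIdeal, IsLocalization.AtPrime.ringKrullDim_eq_height p L]
        have h1 : (1 : ℕ∞) ≤ p.height := by
          have := Ideal.height_strict_mono_of_isPrime (I := (⊥ : Ideal A)) (J := p) (bot_lt_iff_ne_bot.2 hne0)
          exact Order.one_le_iff_pos.2 (lt_of_le_of_lt bot_le this)
        have := (WithBot.coe_le_coe.2 h1).trans_eq h
        exact_mod_cast this
      · have h : ((IsLocalRing.maximalIdeal L).spanFinrank : WithBot ℕ∞) = (p.height : WithBot ℕ∞) := by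
          rw [IsRegularLocalRing.spanFinrank_maximalIdeal, IsLocalization.AtPrime.ringKrullDim_eq_height p L]
        have h1 : p.height < n := hhm ▸ Ideal.height_strict_mono_of_isPrime
          (lt_of_le_of_ne (IsLocalRing.le_maximalIdeal (Ideal.IsPrime.ne_top inferInstance)) hne)
        have := h.trans_lt (WithBot.coe_lt_coe.2 h1)
        exact_mod_cast this
    obtain ⟨k, hk1, hkn, hk⟩ := hk
    have hloc : ∀ (QS : Ideal S) [QS.IsPrime], IsLocalization.AtPrime (Localization.AtPrime QS)
        (QS.comap (algebraMap B S)) := fun QS _ =>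
      IsLocalization.isLocalization_isLocalization_atPrime_isLocalization MB _ QS
    haveI : Algebra.Etale L S := ih k hkn L S hk1 hk (Algebra.TensorProduct.includeLeft_injective (R := A) (S := A) (A := L) (B := B) hinj) (by
      intro QS _ hQS
      have h1 : (QS.comap (algebraMap B S)).height = 1 := by
        rw [← Ideal.under_def, IsLocalization.height_under MB]; exact hQS
      haveI := hloc QS
      haveI := hunr (QS.comap (algebraMap B S)) h1
      haveI : Algebra.FormallyUnramified A (Localization.AtPrime QS) := Algebra.FormallyUnramified.of_equiv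
        ((IsLocalization.algEquiv (QS.comap (algebraMap B S)).primeCompl
          (Localization.AtPrime (QS.comap (algebraMap B S))) (Localization.AtPrime QS)).restrictScalars A)
      exact Algebra.FormallyUnramified.of_restrictScalars A L (Localization.AtPrime QS))
    have disj : Disjoint (MB : Set B) q := by
      refine Set.disjoint_left.2 ?_
      rintro _ ⟨a, ha, rfl⟩ ha'
      exact ha ha'
    haveI hQS := IsLocalization.isPrime_of_isPrime_disjoint MB S q hq disj
    haveI := hloc (q.map (algebraMap B S))
    haveI : Algebra.FormallyEtale S (Localization.AtPrime (q.map (algebraMap B S))) :=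
      Algebra.FormallyEtale.of_isLocalization (q.map (algebraMap B S)).primeCompl
    haveI : Algebra.FormallyEtale L (Localization.AtPrime (q.map (algebraMap B S))) :=
      Algebra.FormallyEtale.comp L S _
    haveI : Algebra.FormallyEtale A (Localization.AtPrime (q.map (algebraMap B S))) :=
      Algebra.FormallyEtale.comp A L _
    have hc : (q.map (algebraMap B S)).comap (algebraMap B S) = q := IsLocalization.under_map_of_isPrime_disjoint MB S hq disj
    have : Algebra.IsEtaleAt A ((q.map (algebraMap B S)).comap (algebraMap B S)) := Algebra.FormallyEtale.of_equiv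
      (R := A) (A := Localization.AtPrime (q.map (algebraMap B S)))
      ((IsLocalization.algEquiv ((q.map (algebraMap B S)).comap (algebraMap B S)).primeCompl
        (Localization.AtPrime (q.map (algebraMap B S)))
        (Localization.AtPrime ((q.map (algebraMap B S)).comap (algebraMap B S)))).restrictScalars A)
    convert this using 1
    exact hc.symm
  intro q hq hne
  by_cases h0 : q.comap (algebraMap A B) = ⊥
  · have hm1 : (1 : WithBot ℕ∞) ≤ ringKrullDim A := by rw [hdimA]; exact_mod_cast hn1
    obtain ⟨p₁, hp₁, -, hp1⟩ := PurityFlat.exists_prime_height_one A hm1 0 (zero_mem _)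
    obtain ⟨q₁, hle, hq₁, hc⟩ := Ideal.exists_ideal_over_prime_of_isIntegral p₁ q (by
      show q.comap (algebraMap A B) ≤ p₁
      rw [h0]; exact bot_le)
    haveI := hq₁
    have hne1 : p₁ ≠ IsLocalRing.maximalIdeal A := fun e => by
      rw [e, hhm] at hp1
      exact absurd hp1 (by exact_mod_cast (ne_of_gt hn2))
    have hne10 : p₁ ≠ ⊥ := fun e => by
      subst e
      exact absurd ((Ideal.height_bot (R := A)).symm.trans hp1) (by simp)
    have := main q₁ (hc ▸ hne1) (hc ▸ hne10)
    exact (PrimeSpectrum.le_iff_specializes ⟨q, hq⟩ ⟨q₁, hq₁⟩).1 hle |>.mem_open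
      Algebra.isOpen_etaleLocus this
  · exact main q hne h0

theorem transfer_eq {A : Type u} [CommRing A] {p p' : Ideal A} [p.IsPrime] [p'.IsPrime] (e : p = p') :
    (IsRegularLocalRing (Localization.AtPrime p) → IsRegularLocalRing (Localization.AtPrime p')) ∧
    (IsDomain (Localization.AtPrime p) ∧ IsIntegrallyClosed (Localization.AtPrime p) →
      IsDomain (Localization.AtPrime p') ∧ IsIntegrallyClosed (Localization.AtPrime p')) ∧
    ringKrullDim (Localization.AtPrime p) = ringKrullDim (Localization.AtPrime p') := by
  subst e; exact ⟨id, id, rfl⟩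

/-- Flatness descends along a faithfully flat extension on top. -/
theorem flat_of_comp (A B T : Type u) [CommRing A] [CommRing B] [CommRing T] [Algebra A B] [Algebra A T] [Algebra B T]
    [IsScalarTower A B T] [Module.FaithfullyFlat B T] [Module.Flat A T] : Module.Flat A B := by
  rw [Module.Flat.iff_lTensor_preserves_injective_linearMap]
  intro N P _ _ _ _ f hf
  let g : B ⊗[A] N →ₗ[B] B ⊗[A] P := AlgebraTensorModule.map LinearMap.id f
  suffices Function.Injective g from this
  rw [← Module.FaithfullyFlat.lTensor_injective_iff_injective B T g]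
  have h1 : (g.lTensor T : _ → _) = (AlgebraTensorModule.cancelBaseChange A B B T P).symm ∘ f.lTensor T ∘
      AlgebraTensorModule.cancelBaseChange A B B T N := by
    funext z
    simp only [Function.comp_apply]
    induction z using TensorProduct.induction_on with
    | zero => simp
    | add z w hz hw => simp only [map_add, hz, hw]
    | tmul t w =>
      induction w using TensorProduct.induction_on with
      | zero => simp
      | add w v hw hv => simp only [tmul_add, map_add, hw, hv]
      | tmul b n =>
        apply (AlgebraTensorModule.cancelBaseChange A B B T P).injective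
        simp [g]
  rw [h1]
  exact (LinearEquiv.injective _).comp ((Module.Flat.lTensor_preserves_injective_linearMap f hf).comp (LinearEquiv.injective _))

/-- Local rings along an étale algebra. -/
theorem localization_of_etale (B T : Type u) [CommRing B] [IsNoetherianRing B] [CommRing T] [Algebra B T]
    [Algebra.Etale B T] (Q : Ideal T) [Q.IsPrime] :
    ringKrullDim (Localization.AtPrime Q) = ringKrullDim (Localization.AtPrime (Q.comap (algebraMap B T))) ∧
    (IsRegularLocalRing (Localization.AtPrime (Q.comap (algebraMap B T))) → IsRegularLocalRing (Localization.AtPrime Q)) ∧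
    (IsDomain (Localization.AtPrime (Q.comap (algebraMap B T))) ∧
      IsIntegrallyClosed (Localization.AtPrime (Q.comap (algebraMap B T))) →
      IsDomain (Localization.AtPrime Q) ∧ IsIntegrallyClosed (Localization.AtPrime Q)) := by
  let f := Spec.map (CommRingCat.ofHom (algebraMap B T))
  haveI : Etale f := (HasRingHomProperty.Spec_iff (P := @Etale)).2 (RingHom.etale_algebraMap.2 ‹_›)
  let y : Spec (CommRingCat.of T) := (⟨Q, inferInstance⟩ : PrimeSpectrum T)
  let p : PrimeSpectrum B := ⟨Q.comap (algebraMap B T), inferInstance⟩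
  let e₁ : Localization.AtPrime Q ≃+* (Spec (CommRingCat.of T)).presheaf.stalk y :=
    (StructureSheaf.stalkIso T (⟨Q, inferInstance⟩ : PrimeSpectrum T)).toRingEquiv
  let e₂ : Localization.AtPrime (Q.comap (algebraMap B T)) ≃+* (Spec (CommRingCat.of B)).presheaf.stalk (f y) :=
    (StructureSheaf.stalkIso B p).toRingEquiv
  refine ⟨?_, fun hr => ?_, fun hn => ?_⟩
  · rw [ringKrullDim_eq_of_ringEquiv e₁, ringKrullDim_eq_of_ringEquiv e₂]
    exact Et18.ringKrullDim_stalk_eq_of_etale f y
  · haveI := hr
    haveI := (Et18.isRegularLocalRing_stalk_iff_of_etale f y).2 (IsRegularLocalRing.of_ringEquiv e₂)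
    exact IsRegularLocalRing.of_ringEquiv e₁.symm
  · haveI := hn.1
    haveI := hn.2
    obtain ⟨_, _⟩ := (Et18.normal_stalk_iff_of_etale f y).2
      ⟨e₂.symm.toMulEquiv.isDomain _, IsIntegrallyClosed.of_equiv e₂⟩
    exact ⟨e₁.toMulEquiv.isDomain _, IsIntegrallyClosed.of_equiv e₁.symm⟩

set_option maxHeartbeats 1600000 in
/-- Purity of the branch locus at a quasi-finite point. -/
theorem isEtaleAt_of_quasiFiniteAt {A B : Type u} [CommRing A] [CommRing B] [Algebra A B] [IsNoetherianRing A]
    [Algebra.FiniteType A B] (q : Ideal B) [q.IsPrime] [Algebra.QuasiFiniteAt A q]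
    (hreg : IsRegularLocalRing (Localization.AtPrime (q.comap (algebraMap A B))))
    (hnor : IsDomain (Localization.AtPrime q) ∧ IsIntegrallyClosed (Localization.AtPrime q))
    (hdim : ringKrullDim (Localization.AtPrime q) = ringKrullDim (Localization.AtPrime (q.comap (algebraMap A B))))
    (h1 : (1 : WithBot ℕ∞) ≤ ringKrullDim (Localization.AtPrime q))
    (h : ∀ (q' : Ideal B) [q'.IsPrime], q' ≤ q → q'.height = 1 → Algebra.IsUnramifiedAt A q') :
    Algebra.IsEtaleAt A q := by
  classical
  haveI : IsNoetherianRing B := Algebra.FiniteType.isNoetherianRing A B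
  let p := q.under A
  obtain ⟨R', _, _, _, P, _, hPp, e, he, P', _, _, hP'q, heP', -, hfin, huniq⟩ :=
    Algebra.exists_etale_isIdempotentElem_forall_liesOver_eq p q
  haveI : IsNoetherianRing R' := Algebra.FiniteType.isNoetherianRing A R'
  letI : Algebra B (R' ⊗[A] B) := Algebra.TensorProduct.rightAlgebra
  let T := R' ⊗[A] B
  haveI : Algebra.Etale B T := Algebra.Etale.of_equiv (A := B ⊗[A] R')
    { (Algebra.TensorProduct.comm A B R').toRingEquiv with commutes' := fun b => rfl }
  let C := Localization.Away e
  haveI : Module.Finite R' C := hfin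
  let A' := Localization.AtPrime P
  have hPq : P.comap (algebraMap A R') = q.comap (algebraMap A B) := hPp.over.symm
  obtain ⟨hdA, hrA, -⟩ := localization_of_etale A R' P
  haveI : IsRegularLocalRing A' := hrA ((transfer_eq hPq.symm).1 hreg)
  letI : Algebra C (A' ⊗[R'] C) := Algebra.TensorProduct.rightAlgebra
  let D := A' ⊗[R'] C
  haveI : IsLocalization (Algebra.algebraMapSubmonoid C P.primeCompl) D :=
    (Algebra.isLocalization_iff_isPushout P.primeCompl A').2 (TensorProduct.isPushout (R := R') (S := A') (T := C)).symm
  letI : Algebra T D := ((algebraMap C D).comp (algebraMap T C)).toAlgebra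
  haveI : IsScalarTower T C D := .of_algebraMap_eq' rfl
  haveI : IsScalarTower R' T D := IsScalarTower.of_algebraMap_eq (R := R') (S := T) (A := D) fun r => by
    rw [IsScalarTower.algebraMap_apply R' C D, IsScalarTower.algebraMap_apply R' T C]
    rfl
  haveI : IsScalarTower A R' D := IsScalarTower.of_algebraMap_eq (R := A) (S := R') (A := D) fun a => by
    rw [IsScalarTower.algebraMap_apply A A' D, IsScalarTower.algebraMap_apply A R' A']
    exact (IsScalarTower.algebraMap_apply R' A' D _).symm
  haveI : IsScalarTower A T D := IsScalarTower.of_algebraMap_eq (R := A) (S := T) (A := D) fun a => by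
    rw [IsScalarTower.algebraMap_apply A R' D, IsScalarTower.algebraMap_apply R' T D,
      ← IsScalarTower.algebraMap_apply A R' T]
  have hcomapC : ∀ Q : Ideal D, (Q.comap (algebraMap C D)).comap (algebraMap T C) = Q.comap (algebraMap T D) :=
    fun Q => by rw [Ideal.comap_comap]; rfl
  have hloc : ∀ (Q : Ideal D) [Q.IsPrime], IsLocalization.AtPrime (Localization.AtPrime Q) (Q.comap (algebraMap T D)) := by
    intro Q _
    haveI : IsLocalization.AtPrime (Localization.AtPrime Q) (Q.comap (algebraMap C D)) :=
      IsLocalization.isLocalization_isLocalization_atPrime_isLocalization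
        (Algebra.algebraMapSubmonoid C P.primeCompl) _ Q
    have := IsLocalization.isLocalization_isLocalization_atPrime_isLocalization (R := T)
      (Submonoid.powers e) (Localization.AtPrime Q) (Q.comap (algebraMap C D))
    convert this using 1
    exact (hcomapC Q).symm
  have hTinj : ∀ Q₁ Q₂ : Ideal D, Q₁.comap (algebraMap T D) = Q₂.comap (algebraMap T D) → Q₁ = Q₂ := by
    intro Q₁ Q₂ hQ
    rw [← hcomapC, ← hcomapC] at hQ
    have := congrArg (Ideal.map (algebraMap T C)) hQ
    rw [← Ideal.under_def, ← Ideal.under_def, ← Ideal.under_def, ← Ideal.under_def,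
      IsLocalization.map_under (Submonoid.powers e) C, IsLocalization.map_under (Submonoid.powers e) C] at this
    rw [← IsLocalization.map_under (Algebra.algebraMapSubmonoid C P.primeCompl) D Q₁, this,
      IsLocalization.map_under (Algebra.algebraMapSubmonoid C P.primeCompl) D Q₂]
  have hmax : ∀ M : Ideal D, M.IsMaximal → M.comap (algebraMap T D) = P' := by
    intro M hM
    haveI : (M.under A').IsMaximal := Ideal.isMaximal_comap_of_isIntegral_of_isMaximal M
    have hMA : M.under A' = IsLocalRing.maximalIdeal A' := IsLocalRing.eq_maximalIdeal inferInstance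
    refine huniq _ inferInstance ⟨?_⟩ fun hm => hM.ne_top (Ideal.eq_top_of_isUnit_mem _ (Ideal.mem_comap.mp hm) ?_)
    · rw [← Ideal.under_def (A := T), Ideal.under_under, ← Ideal.under_under (B := A') (A := R') M, hMA,
        IsLocalization.AtPrime.under_maximalIdeal A' P]
    · rw [IsScalarTower.algebraMap_apply T C D]
      exact (IsLocalization.Away.algebraMap_isUnit e).map (algebraMap C D)
  have hPdisj : Disjoint ((Algebra.algebraMapSubmonoid C P.primeCompl : Submonoid C) : Set C) (P'.map (algebraMap T C)) := by
    refine Set.disjoint_left.2 ?_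
    rintro _ ⟨r, hr, rfl⟩ hm
    refine hr ?_
    have hpow : Disjoint ((Submonoid.powers e : Submonoid T) : Set T) P' := by
      refine Set.disjoint_left.2 ?_
      rintro _ ⟨k, rfl⟩ hk
      exact heP' (Ideal.IsPrime.mem_of_pow_mem inferInstance k hk)
    rw [IsScalarTower.algebraMap_apply R' T C] at hm
    have : algebraMap R' T r ∈ P' :=
      (IsLocalization.under_map_of_isPrime_disjoint (Submonoid.powers e) C (I := P') inferInstance hpow).le hm
    rw [show P = P'.under R' from Ideal.LiesOver.over]
    exact this
  have hPC : (P'.map (algebraMap T C)).IsPrime :=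
    IsLocalization.isPrime_of_isPrime_disjoint (Submonoid.powers e) C P' inferInstance (by
      refine Set.disjoint_left.2 ?_
      rintro _ ⟨k, rfl⟩ hk
      exact heP' (Ideal.IsPrime.mem_of_pow_mem inferInstance k hk))
  haveI hMD := IsLocalization.isPrime_of_isPrime_disjoint (Algebra.algebraMapSubmonoid C P.primeCompl) D _ hPC hPdisj
  haveI : Nontrivial D := ⟨⟨0, 1, fun h01 => hMD.ne_top ((Ideal.eq_top_iff_one _).2 (h01 ▸ zero_mem _))⟩⟩
  haveI : IsLocalRing D := IsLocalRing.of_unique_max_ideal (by
    obtain ⟨M, hM⟩ := Ideal.exists_maximal D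
    exact ⟨M, hM, fun M' hM' => hTinj _ _ ((hmax M' hM').trans (hmax M hM).symm)⟩)
  let M := IsLocalRing.maximalIdeal D
  have hMP : M.comap (algebraMap T D) = P' := hmax M inferInstance
  have hP'B : P'.comap (algebraMap B T) = q := hP'q
  let eD : D ≃+* Localization.AtPrime M :=
    (IsLocalization.atUnits D M.primeCompl (fun d hd => by
      by_contra hu
      exact hd ((IsLocalRing.mem_maximalIdeal d).2 hu))).toRingEquiv
  haveI := hloc M
  let eT : Localization.AtPrime M ≃+* Localization.AtPrime (M.comap (algebraMap T D)) :=
    (IsLocalization.algEquiv (M.comap (algebraMap T D)).primeCompl _ _).toRingEquiv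
  obtain ⟨hdT, -, hnT⟩ := localization_of_etale B T (M.comap (algebraMap T D))
  have hMq : (M.comap (algebraMap T D)).comap (algebraMap B T) = q := by rw [hMP, hP'B]
  obtain ⟨hnT1, hnT2⟩ := hnT ((transfer_eq hMq.symm).2.1 hnor)
  haveI : IsDomain D := (eD.trans eT).toMulEquiv.isDomain _
  haveI : IsIntegrallyClosed D := IsIntegrallyClosed.of_equiv (eD.trans eT).symm
  have hdD : ringKrullDim D = ringKrullDim A' := by
    rw [ringKrullDim_eq_of_ringEquiv (eD.trans eT), hdT, hdA, (transfer_eq hMq).2.2, (transfer_eq hPq).2.2, hdim]
  have hinjD : Function.Injective (algebraMap A' D) := by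
    haveI := CAlgH3.isDomain_of_isRegularLocalRing A'
    rw [RingHom.injective_iff_ker_eq_bot]
    by_contra hne
    let K := RingHom.ker (algebraMap A' D)
    haveI : K.IsPrime := RingHom.ker_isPrime _
    have h2 : ringKrullDim D ≤ ringKrullDim (A' ⧸ K) := by
      letI : Algebra (A' ⧸ K) D := (RingHom.kerLift (algebraMap A' D)).toAlgebra
      haveI : Algebra.IsIntegral (A' ⧸ K) D := ⟨RingHom.IsIntegral.tower_top (Ideal.Quotient.mk K)
        (RingHom.kerLift (algebraMap A' D))
        (fun d => Algebra.IsIntegral.isIntegral (R := A') d)⟩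
      exact (DimLib.ringKrullDim_eq_of_isIntegral (R := A' ⧸ K) (S := D) (RingHom.kerLift_injective _)).ge
    obtain ⟨x, hxK, hx0⟩ := Submodule.exists_mem_ne_zero_of_ne_bot hne
    have h4 : ringKrullDim (A' ⧸ K) + 1 ≤ ringKrullDim A' := le_trans
      (add_le_add (ringKrullDim_le_of_surjective (Ideal.Quotient.factor ((Ideal.span_singleton_le_iff_mem K).2 hxK))
        (Ideal.Quotient.factor_surjective _)) le_rfl)
      (ringKrullDim_quotient_succ_le_of_nonZeroDivisor (mem_nonZeroDivisors_of_ne_zero hx0))
    rw [hdD] at h2
    have h5 : ringKrullDim A' + 1 ≤ ringKrullDim A' := (add_le_add h2 le_rfl).trans h4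
    rw [← IsRegularLocalRing.spanFinrank_maximalIdeal] at h5
    have : (IsLocalRing.maximalIdeal A').spanFinrank + 1 ≤ (IsLocalRing.maximalIdeal A').spanFinrank := by exact_mod_cast h5
    omega
  haveI hDet : Algebra.Etale A' D := by
    refine etale_of_unramified_codim_one _ A' D ?_ rfl hinjD fun Q _ hQ => ?_
    · have : (1 : WithBot ℕ∞) ≤ ringKrullDim A' := by
        rw [hdA, (transfer_eq hPq).2.2, ← hdim]
        exact h1
      rw [← IsRegularLocalRing.spanFinrank_maximalIdeal] at this
      exact_mod_cast this
    haveI := hloc Q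
    let QT := Q.comap (algebraMap T D)
    let QB := QT.comap (algebraMap B T)
    obtain ⟨hdQ, -, -⟩ := localization_of_etale B T QT
    have hQB : QB.height = 1 := by
      rw [← ringKrullDim_eq_of_ringEquiv (IsLocalization.algEquiv QT.primeCompl (Localization.AtPrime Q)
        (Localization.AtPrime QT)).toRingEquiv, IsLocalization.AtPrime.ringKrullDim_eq_height Q (Localization.AtPrime Q),
        IsLocalization.AtPrime.ringKrullDim_eq_height QB (Localization.AtPrime QB), hQ] at hdQ
      exact_mod_cast hdQ.symm
    have hQle : QB ≤ q := by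
      rw [← hMq]
      exact Ideal.comap_mono (Ideal.comap_mono (IsLocalRing.le_maximalIdeal (Ideal.IsPrime.ne_top inferInstance)))
    haveI := h QB hQle hQB
    haveI : Algebra.FormallyEtale B (Localization.AtPrime QT) :=
      haveI : Algebra.FormallyEtale T (Localization.AtPrime QT) := Algebra.FormallyEtale.of_isLocalization QT.primeCompl
      Algebra.FormallyEtale.comp B T _
    letI := Localization.AtPrime.algebraOfLiesOver QB QT
    haveI : Algebra.FormallyEtale (Localization.AtPrime QB) (Localization.AtPrime QT) :=
      Algebra.FormallyEtale.localization_base QB.primeCompl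
    haveI : Algebra.FormallyUnramified A (Localization.AtPrime QT) :=
      Algebra.FormallyUnramified.comp A (Localization.AtPrime QB) _
    haveI : Algebra.FormallyUnramified A (Localization.AtPrime Q) := Algebra.FormallyUnramified.of_equiv
      ((IsLocalization.algEquiv QT.primeCompl (Localization.AtPrime QT) (Localization.AtPrime Q)).restrictScalars A)
    exact Algebra.FormallyUnramified.of_restrictScalars A A' (Localization.AtPrime Q)
  -- back to `B`
  haveI : Module.Flat A A' := Module.Flat.trans A R' A'
  haveI : Algebra.FormallyEtale A A' :=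
    haveI : Algebra.FormallyEtale R' A' := Algebra.FormallyEtale.of_isLocalization P.primeCompl
    Algebra.FormallyEtale.comp A R' A'
  haveI : Algebra.FormallyEtale A' (Localization.AtPrime M) :=
    haveI : Algebra.FormallyEtale D (Localization.AtPrime M) := Algebra.FormallyEtale.of_isLocalization M.primeCompl
    Algebra.FormallyEtale.comp A' D _
  haveI : Algebra.FormallyEtale A (Localization.AtPrime M) := Algebra.FormallyEtale.comp A A' _
  haveI : Module.Flat A' (Localization.AtPrime M) := Module.Flat.trans A' D _
  haveI : Module.Flat A (Localization.AtPrime M) := Module.Flat.trans A A' _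
  let MT := M.comap (algebraMap T D)
  let eA := (IsLocalization.algEquiv MT.primeCompl (Localization.AtPrime M) (Localization.AtPrime MT)).restrictScalars A
  haveI : Algebra.FormallyEtale A (Localization.AtPrime MT) := Algebra.FormallyEtale.of_equiv (R := A) (A := Localization.AtPrime M) eA
  haveI : Module.Flat A (Localization.AtPrime MT) := Module.Flat.of_linearEquiv eA.symm.toLinearEquiv
  haveI : MT.LiesOver q := ⟨hMq.symm⟩
  let Bq := Localization.AtPrime q
  let T' := Localization.AtPrime MT
  letI := Localization.AtPrime.algebraOfLiesOver q MT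
  haveI : Algebra.FormallyEtale Bq T' :=
    haveI : Algebra.FormallyEtale T T' := Algebra.FormallyEtale.of_isLocalization MT.primeCompl
    haveI : Algebra.FormallyEtale B T' := Algebra.FormallyEtale.comp B T T'
    Algebra.FormallyEtale.localization_base q.primeCompl
  haveI : Module.Flat Bq T' := (Module.flat_iff_of_isLocalization Bq q.primeCompl T').mpr (Module.Flat.trans B T T')
  haveI : IsLocalHom (algebraMap Bq T') := Localization.isLocalHom_localRingHom q MT (algebraMap B T) hMq.symm
  haveI : Module.FaithfullyFlat Bq T' := Module.FaithfullyFlat.of_flat_of_isLocalHom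
  haveI : Algebra.FormallyUnramified A Bq := by
    constructor
    have hΩ : Subsingleton (T' ⊗[Bq] Ω[Bq⁄A]) :=
      (KaehlerDifferential.tensorKaehlerEquivOfFormallyEtale A Bq T').subsingleton
    exact Module.FaithfullyFlat.lTensor_reflects_triviality Bq T' _
  haveI : Module.Flat A Bq := flat_of_comp A Bq T'
  exact FlatMor12.formallyEtale_of_flat_unramified A Bq

/-- The local algebras at a point of a morphism, in affine charts. -/
theorem stalk_transfer {X Y : Scheme.{u}} (f : X ⟶ Y) {U : Y.Opens} (hU : IsAffineOpen U) {V : X.Opens}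
    (hV : IsAffineOpen V) (hVU : V ≤ f ⁻¹ᵁ U) (x : X) (hx : x ∈ V) :
    letI := (f.appLE U V hVU).hom.toAlgebra
    Nonempty (X.presheaf.stalk x ≃+* Localization.AtPrime (hV.primeIdealOf ⟨x, hx⟩).asIdeal) ∧
    Nonempty (Y.presheaf.stalk (f x) ≃+*
      Localization.AtPrime ((hV.primeIdealOf ⟨x, hx⟩).asIdeal.comap (algebraMap Γ(Y, U) Γ(X, V)))) ∧
    ((f.stalkMap x).hom.FormallyUnramified → Algebra.IsUnramifiedAt Γ(Y, U) (hV.primeIdealOf ⟨x, hx⟩).asIdeal) := by
  letI := (f.appLE U V hVU).hom.toAlgebra
  let p := (hU.primeIdealOf ⟨f x, hVU hx⟩).asIdeal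
  let q := (hV.primeIdealOf ⟨x, hx⟩).asIdeal
  have hpq : q.comap (algebraMap Γ(Y, U) Γ(X, V)) = p :=
    congr($(IsAffineOpen.comap_primeIdealOf_appLE U hU V hV hVU hx).1)
  have : q.LiesOver p := ⟨hpq.symm⟩
  letI := TopCat.Presheaf.algebra_section_stalk X.presheaf (⟨x, hx⟩ : V)
  letI := TopCat.Presheaf.algebra_section_stalk Y.presheaf (⟨f x, hVU hx⟩ : U)
  haveI : IsLocalization.AtPrime (X.presheaf.stalk x) q := hV.isLocalization_stalk ⟨x, hx⟩
  haveI : IsLocalization.AtPrime (Y.presheaf.stalk (f x)) p := hU.isLocalization_stalk ⟨f x, hVU hx⟩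
  refine ⟨⟨(IsLocalization.algEquiv q.primeCompl (X.presheaf.stalk x) (Localization.AtPrime q)).toRingEquiv⟩, ?_, fun hf => ?_⟩
  · haveI : IsLocalization.AtPrime (Y.presheaf.stalk (f x)) (q.comap (algebraMap Γ(Y, U) Γ(X, V))) := by
      convert (inferInstance : IsLocalization.AtPrime (Y.presheaf.stalk (f x)) p) using 1
    exact ⟨(IsLocalization.algEquiv (q.comap (algebraMap Γ(Y, U) Γ(X, V))).primeCompl (Y.presheaf.stalk (f x))
      (Localization.AtPrime (q.comap (algebraMap Γ(Y, U) Γ(X, V))))).toRingEquiv⟩
  · letI := Localization.AtPrime.algebraOfLiesOver p q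
    haveI : Algebra.FormallyUnramified (Localization.AtPrime p) (Localization.AtPrime q) :=
      RingHom.formallyUnramified_algebraMap.1
        ((RingHom.FormallyUnramified.respectsIso.arrow_mk_iso_iff
          (IsAffineOpen.arrowStalkMapIso f U hU V hV hVU hx)).1 hf)
    haveI : Algebra.FormallyUnramified Γ(Y, U) (Localization.AtPrime p) :=
      Algebra.FormallyUnramified.of_isLocalization p.primeCompl
    exact Algebra.FormallyUnramified.comp Γ(Y, U) (Localization.AtPrime p) (Localization.AtPrime q)

end Groth.Agent.FEtFF.PurityLocal
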