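import Groth.Agent.FEtFF.PurityTransfer
import Groth.Agent.FEtFF.FormalExtendFinite

/-!
# Extension of covers from a hypersurface section when its local cohomology is finite
-/

set_option autoImplicit false
set_option linter.style.haveILetI false
set_option backward.isDefEq.respectTransparency.types false
set_option backward.isDefEq.respectTransparency false
universe u

open CategoryTheory CategoryTheory.Limits AlgebraicGeometry

namespace Groth.Agent.FEtFF.PurityTransfer

open FormalTower

variable {A : Type u} [CommRing A] [IsNoetherianRing A] [IsLocalRing A] (f : A)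

/-- Primes maximal among those avoiding `f`. -/
theorem purity_of_maximal_away (hp : ∀ P : Ideal (Localization.Away f), ∀ _ : P.IsMaximal,
      FEt.PurityHolds (Localization.AtPrime P))
    (p : Ideal A) [hpr : p.IsPrime] (hfp : f ∉ p)
    (hmax : ∀ q : Ideal A, q.IsPrime → p ≤ q → f ∈ q → q = IsLocalRing.maximalIdeal A)
    (hf : f ∈ IsLocalRing.maximalIdeal A) :
    FEt.PurityHolds (Localization.AtPrime p) := by
  let P : Ideal (Localization.Away f) := p.map (algebraMap A (Localization.Away f))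
  have hdisj : Disjoint (Submonoid.powers f : Set A) (p : Set A) := by
    rw [Set.disjoint_left]
    rintro _ ⟨n, rfl⟩ h
    exact hfp (hpr.mem_of_pow_mem n h)
  haveI hP : P.IsPrime := IsLocalization.isPrime_of_isPrime_disjoint (Submonoid.powers f) _ p hpr hdisj
  have hPp : P.comap (algebraMap A (Localization.Away f)) = p := IsLocalization.comap_map_of_isPrime_disjoint _ _ hpr hdisj
  have hPmax : P.IsMaximal := by
    obtain ⟨M, hM, hPM⟩ := P.exists_le_maximal hP.ne_top
    let q := M.comap (algebraMap A (Localization.Away f))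
    haveI hq : q.IsPrime := hM.isPrime.comap _
    have hfq : f ∉ q := fun h => hM.ne_top (Ideal.eq_top_of_isUnit_mem M h (IsLocalization.Away.algebraMap_isUnit f))
    have hpq : p ≤ q := hPp ▸ Ideal.comap_mono hPM
    suffices p = q by
      have : P = M := by
        show p.map (algebraMap A (Localization.Away f)) = M
        rw [this]
        exact IsLocalization.map_comap (Submonoid.powers f) _ M
      rw [this]; exact hM
    by_contra hne
    let R := A ⧸ p
    haveI : IsLocalRing R := .of_surjective' _ Ideal.Quotient.mk_surjective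
    let q' : Ideal R := q.map (Ideal.Quotient.mk p)
    haveI : q'.IsPrime := Ideal.map_isPrime_of_surjective Ideal.Quotient.mk_surjective (by rw [Ideal.mk_ker]; exact hpq)
    have hq' : (⊥ : Ideal R) < q' := by
      refine bot_lt_iff_ne_bot.2 fun h => hne (le_antisymm hpq fun x hx => ?_)
      have := Ideal.mem_map_of_mem (Ideal.Quotient.mk p) hx
      rw [show q.map (Ideal.Quotient.mk p) = ⊥ from h, Ideal.mem_bot, Ideal.Quotient.eq_zero_iff_mem] at this
      exact this
    have hm' : q' < IsLocalRing.maximalIdeal R := by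
      refine lt_of_le_of_ne (IsLocalRing.le_maximalIdeal (Ideal.IsPrime.ne_top inferInstance)) fun h => hfq ?_
      have : Ideal.Quotient.mk p f ∈ q' := by
        rw [h, ← IsLocalRing.map_maximalIdeal_of_surjective (Ideal.Quotient.mk p) Ideal.Quotient.mk_surjective]
        exact Ideal.mem_map_of_mem _ hf
      exact (Ideal.mem_quotient_iff_mem hpq).1 this
    have h1 := Ideal.height_add_one_le_of_lt_of_isPrime hq'
    have h2 := Ideal.height_add_one_le_of_lt_of_isPrime hm'
    have h3 : (IsLocalRing.maximalIdeal R).height ≤ 1 := by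
      refine Ideal.height_le_one_of_isPrincipal_of_mem_minimalPrimes (Ideal.span {Ideal.Quotient.mk p f}) _
        ⟨⟨inferInstance, ?_⟩, fun r hr _ => ?_⟩
      · rw [Ideal.span_singleton_le_iff_mem,
          ← IsLocalRing.map_maximalIdeal_of_surjective (Ideal.Quotient.mk p) Ideal.Quotient.mk_surjective]
        exact Ideal.mem_map_of_mem _ hf
      · have hr' := hmax (r.comap (Ideal.Quotient.mk p)) (hr.1.comap _) (fun x hx => by
            rw [Ideal.mem_comap, Ideal.Quotient.eq_zero_iff_mem.2 hx]; exact r.zero_mem)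
          (hr.2 (Ideal.mem_span_singleton_self _))
        rw [← IsLocalRing.map_maximalIdeal_of_surjective (Ideal.Quotient.mk p) Ideal.Quotient.mk_surjective, ← hr',
          Ideal.map_comap_of_surjective _ Ideal.Quotient.mk_surjective]
    have h4 : (2 : ℕ∞) ≤ 1 := by
      refine le_trans ?_ (le_trans h2 h3)
      calc (2 : ℕ∞) = 0 + 1 + 1 := by norm_num
        _ ≤ q'.height + 1 := add_le_add (le_trans (add_le_add bot_le le_rfl) h1) le_rfl
    exact absurd h4 (by norm_num)
  haveI : IsLocalization.AtPrime (Localization.AtPrime P) p := by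
    have := IsLocalization.isLocalization_isLocalization_atPrime_isLocalization (Submonoid.powers f) (Localization.AtPrime P) P
    convert this
    exact hPp.symm
  exact purityHolds_of_ringEquiv
    (IsLocalization.algEquiv p.primeCompl (Localization.AtPrime P) (Localization.AtPrime p)).toRingEquiv (hp P hPmax)

set_option maxHeartbeats 1600000 in
/-- A cover of the punctured spectrum of `A / f` extends to the punctured spectrum of `A`. -/
theorem exists_extension_punctured (hreg : IsSMulRegular A f) [IsAdicComplete (Ideal.span {f}) A]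
    [IsLocalRing (A ⧸ Ideal.span {f ^ (0 + 1)})]
    (h1 : Module.Finite A (_root_.LocCoh.H (IsLocalRing.maximalIdeal A) 1 (A ⧸ Ideal.span {f ^ (0 + 1)})))
    (h2 : Module.Finite A (_root_.LocCoh.H (IsLocalRing.maximalIdeal A) 2 (A ⧸ Ideal.span {f ^ (0 + 1)})))
    (hloc : ∀ (p : Ideal A) [p.IsPrime], f ∉ p → p ≠ IsLocalRing.maximalIdeal A →
      (∀ q : Ideal A, q.IsPrime → p ≤ q → f ∈ q → q = IsLocalRing.maximalIdeal A) →
      FEt.PurityHolds (Localization.AtPrime p))
    (V₀ : FEt.Cat (T f 0)) :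
    ∃ (Y₁ : FEt.Cat (FEt.puncturedSpec A : Scheme.{u})) (b : V₀.left ⟶ Y₁.left),
      IsPullback b V₀.hom Y₁.hom (pullback.fst (FEt.puncturedSpec A).ι (hp f 0)) := by
  let U := FEt.puncturedSpec A
  obtain ⟨U', u', W, w, a, hle, hu', hwf, hwe, hsq⟩ := FormalExtend.exists_extension_nbhd' f hreg h1 h2 V₀
  -- extend to the punctured spectrum
  let U'' : U.toScheme.Opens := U.ι ⁻¹ᵁ U'
  haveI : IsNoetherian U.toScheme := by
    haveI : QuasiCompact U.ι := inferInstance
    haveI : CompactSpace U.toScheme := QuasiCompact.compactSpace_of_compactSpace U.ι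
    constructor
  let ρ : (U'' : Scheme.{u}) ⟶ U' := U.ι ∣_ U'
  haveI : Surjective ρ := ⟨fun x => ⟨⟨⟨x.1, hle x.2⟩, x.2⟩, Subtype.ext (by rw [morphismRestrict_base]; rfl)⟩⟩
  haveI : IsIso ρ := (isIso_iff_isOpenImmersion_and_surjective _).2 ⟨inferInstance, inferInstance⟩
  haveI : ((FEt.restrict U''.ι)).EssSurj := PurityExtend.essSurj_of_purity_noetherian U'' fun x hx => by
    have hx' : U.ι x ∉ U' := hx
    let P : PrimeSpectrum A := U.ι x
    have hfP : f ∉ P.asIdeal := fun h => hx' ?_
    · have hP : P.asIdeal ≠ IsLocalRing.maximalIdeal A := fun e => x.2 (PrimeSpectrum.ext e)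
      have hmax : ∀ q : Ideal A, q.IsPrime → P.asIdeal ≤ q → f ∈ q → q = IsLocalRing.maximalIdeal A := by
        intro q hq hPq hfq
        by_contra hne
        refine hx' (((PrimeSpectrum.le_iff_specializes P ⟨q, hq⟩).1 hPq).mem_open U'.2 ?_)
        exact purityHolds_quotient.mem_range_toA hu' ⟨q, hq⟩ (fun e => hne (congrArg PrimeSpectrum.asIdeal e)) hfq
      have h2 := hloc P.asIdeal hfP hP hmax
      exact purityHolds_of_ringEquiv
        (((StructureSheaf.stalkIso A P).toRingEquiv : Localization.AtPrime P.asIdeal ≃+* (Spec (CommRingCat.of A)).presheaf.stalk (U.ι x)).trans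
          (asIso (U.ι.stalkMap x)).commRingCatIsoToRingEquiv) h2
    · exact purityHolds_quotient.mem_range_toA hu' P (fun e => x.2 e) h
  let V' : FEt.Cat (U'' : Scheme.{u}) := MorphismProperty.Over.mk ⊤ (w ≫ inv ρ) ⟨inferInstance, inferInstance⟩
  obtain ⟨Y₁, ⟨e₁⟩⟩ := ⟨(FEt.restrict U''.ι).objPreimage V', ⟨(FEt.restrict U''.ι).objObjPreimageIso V'⟩⟩
    |> fun h : ∃ Y, Nonempty ((FEt.restrict U''.ι).obj Y ≅ V') => h
  haveI : IsFinite Y₁.hom := Y₁.prop.1
  haveI : Etale Y₁.hom := Y₁.prop.2
  let c : W ⟶ Y₁.left := e₁.inv.left ≫ pullback.fst Y₁.hom U''.ι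
  have hW : IsPullback c (w ≫ inv ρ) Y₁.hom U''.ι := by
    refine (IsPullback.of_hasPullback Y₁.hom U''.ι).of_iso
      { hom := e₁.hom.left, inv := e₁.inv.left
        hom_inv_id := congrArg (fun k => k.left) e₁.hom_inv_id
        inv_hom_id := congrArg (fun k => k.left) e₁.inv_hom_id } (Iso.refl _) (Iso.refl _) (Iso.refl _) ?_ ?_ (by simp) (by simp)
    · rw [Iso.refl_hom, Category.comp_id]
      show _ = e₁.hom.left ≫ c
      rw [show c = e₁.inv.left ≫ pullback.fst Y₁.hom U''.ι from rfl, ← Category.assoc,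
        show e₁.hom.left ≫ e₁.inv.left = 𝟙 _ from congrArg (fun k => k.left) e₁.hom_inv_id]
      exact (Category.id_comp _).symm
    · rw [Iso.refl_hom, Category.comp_id]
      exact (Over.w e₁.hom.hom).symm
  have h0 : IsPullback a V₀.hom (w ≫ inv ρ) (u' ≫ inv ρ) :=
    hsq.of_iso (Iso.refl _) (Iso.refl _) (Iso.refl _) (asIso ρ).symm (by simp) (by simp) (by simp) (by simp)
  refine ⟨Y₁, a ≫ c, ?_⟩
  have h := h0.paste_horiz hW
  have e : (u' ≫ inv ρ) ≫ U''.ι = pullback.fst (FEt.puncturedSpec A).ι (hp f 0) := by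
    refine (cancel_mono U.ι).1 ?_
    rw [Category.assoc, Category.assoc u']
    have : inv ρ ≫ U''.ι ≫ U.ι = U'.ι := by
      rw [IsIso.inv_comp_eq]
      exact (morphismRestrict_ι U.ι U').symm
    rw [this]
    exact hu'
  rwa [e] at h

/-- Purity passes to `A / f`. -/
theorem purityHolds_quotient_finite (hreg : IsSMulRegular A f) [IsAdicComplete (Ideal.span {f}) A]
    [IsLocalRing (A ⧸ Ideal.span {f ^ (0 + 1)})]
    (h1 : Module.Finite A (_root_.LocCoh.H (IsLocalRing.maximalIdeal A) 1 (A ⧸ Ideal.span {f ^ (0 + 1)})))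
    (h2 : Module.Finite A (_root_.LocCoh.H (IsLocalRing.maximalIdeal A) 2 (A ⧸ Ideal.span {f ^ (0 + 1)})))
    (hA : FEt.PurityHolds A)
    (hloc : ∀ (p : Ideal A) [p.IsPrime], f ∉ p → p ≠ IsLocalRing.maximalIdeal A →
      (∀ q : Ideal A, q.IsPrime → p ≤ q → f ∈ q → q = IsLocalRing.maximalIdeal A) →
      FEt.PurityHolds (Localization.AtPrime p)) :
    FEt.PurityHolds (A ⧸ Ideal.span {f ^ (0 + 1)}) := by
  let R := A ⧸ Ideal.span {f ^ (0 + 1)}
  let U := FEt.puncturedSpec A
  let UR := FEt.puncturedSpec R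
  let q := hp f 0
  haveI : IsLocalHom (Ideal.Quotient.mk (Ideal.span {f ^ (0 + 1)})) := IsLocalHom.of_surjective _ Ideal.Quotient.mk_surjective
  obtain ⟨k, HU⟩ := exists_punctured_square (Ideal.Quotient.mk (Ideal.span {f ^ (0 + 1)})) (by
    refine le_trans ?_ Ideal.le_radical
    intro b hb
    obtain ⟨a, rfl⟩ := Ideal.Quotient.mk_surjective b
    exact Ideal.mem_map_of_mem _ (fun h => hb (h.map _)))
  refine purityHolds_of_forall R fun {V} v _ _ => ?_
  let V₀ : FEt.Cat (T f 0) := MorphismProperty.Over.mk ⊤ (v ≫ HU.isoPullback.hom) ⟨inferInstance, inferInstance⟩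
  obtain ⟨Y₁, b, hb⟩ := exists_extension_punctured f hreg h1 h2 hloc V₀
  haveI : IsFinite Y₁.hom := Y₁.prop.1
  haveI : Etale Y₁.hom := Y₁.prop.2
  obtain ⟨Y, y, hy, hy', l, hl⟩ := exists_of_purityHolds hA Y₁.hom
  have hV : IsPullback (b ≫ l) v y (UR.ι ≫ q) := by
    refine (hb.paste_horiz hl).of_iso (Iso.refl _) (Iso.refl _) HU.isoPullback.symm (Iso.refl _) (by simp)
      (by simp [V₀]) (by simp) ?_
    rw [Iso.refl_hom, Category.comp_id, Iso.symm_hom, Iso.eq_inv_comp]
    rw [HU.isoPullback_hom_fst_assoc, HU.w]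
  refine ⟨pullback y q, pullback.snd y q, inferInstance, inferInstance,
    pullback.lift (b ≫ l) (v ≫ UR.ι) (by rw [Category.assoc v, hV.w]), ?_⟩
  refine IsPullback.of_right (h₁₂ := pullback.fst y q) (v₁₃ := y) (h₂₂ := q) ?_ (pullback.lift_snd _ _ _)
    (IsPullback.of_hasPullback y q)
  rw [pullback.lift_fst]
  exact hV

/-- The neighbourhood form, for the hypersurface written as `V(e)`. -/
theorem exists_nbhd_iso (e : A) (he : f ^ (0 + 1) = e) (hreg : IsSMulRegular A f) [IsAdicComplete (Ideal.span {f}) A]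
    [IsLocalRing (A ⧸ Ideal.span {e})]
    (h1 : Module.Finite A (_root_.LocCoh.H (IsLocalRing.maximalIdeal A) 1 (A ⧸ Ideal.span {e})))
    (h2 : Module.Finite A (_root_.LocCoh.H (IsLocalRing.maximalIdeal A) 2 (A ⧸ Ideal.span {e})))
    (V₀ : FEt.Cat (pullback (FEt.puncturedSpec A).ι (Spec.map (CommRingCat.ofHom (Ideal.Quotient.mk (Ideal.span {e})))))) :
    ∃ (U' : (Spec (CommRingCat.of A)).Opens) (_ : U' ≤ FEt.puncturedSpec A)
      (u' : pullback (FEt.puncturedSpec A).ι (Spec.map (CommRingCat.ofHom (Ideal.Quotient.mk (Ideal.span {e})))) ⟶ (U' : Scheme.{u}))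
      (_ : u' ≫ U'.ι = (pullback.fst (FEt.puncturedSpec A).ι (Spec.map (CommRingCat.ofHom (Ideal.Quotient.mk (Ideal.span {e})))) ≫ (FEt.puncturedSpec A).ι))
      (V' : FEt.Cat (U' : Scheme.{u})), Nonempty ((FEt.restrict u').obj V' ≅ V₀) := by
  subst he
  obtain ⟨U', u', W, w, a, hle, hu', hwf, hwe, hsq⟩ := FormalExtend.exists_extension_nbhd' f hreg h1 h2 V₀
  exact ⟨U', hle, u', hu', MorphismProperty.Over.mk ⊤ w ⟨hwf, hwe⟩,
    ⟨MorphismProperty.Over.isoMk hsq.isoPullback.symm hsq.isoPullback_inv_snd⟩⟩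

/-- Essential surjectivity, for the hypersurface written as `V(e)`. -/
theorem essSurj_punctured (e : A) (he : f ^ (0 + 1) = e) (hf : f ∈ IsLocalRing.maximalIdeal A)
    (hreg : IsSMulRegular A f) [IsAdicComplete (Ideal.span {f}) A] [IsLocalRing (A ⧸ Ideal.span {e})]
    (h1 : Module.Finite A (_root_.LocCoh.H (IsLocalRing.maximalIdeal A) 1 (A ⧸ Ideal.span {e})))
    (h2 : Module.Finite A (_root_.LocCoh.H (IsLocalRing.maximalIdeal A) 2 (A ⧸ Ideal.span {e})))
    (hp : ∀ P : Ideal (Localization.Away f), ∀ _ : P.IsMaximal, FEt.PurityHolds (Localization.AtPrime P)) :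
    (FEt.restrict (pullback.fst (FEt.puncturedSpec A).ι
      (Spec.map (CommRingCat.ofHom (Ideal.Quotient.mk (Ideal.span {e})))))).EssSurj := by
  subst he
  refine ⟨fun V₀ => ?_⟩
  obtain ⟨Y₁, b, hb⟩ := exists_extension_punctured f hreg h1 h2
    (fun p _ hfp _ hmax => purity_of_maximal_away f hp p hfp hmax hf) V₀
  exact ⟨Y₁, ⟨MorphismProperty.Over.isoMk hb.isoPullback.symm hb.isoPullback_inv_snd⟩⟩

/-- Purity of the quotient, for the hypersurface written as `V(e)`. -/
theorem purityHolds_quotient_eq (e : A) (he : f ^ (0 + 1) = e) (hf : f ∈ IsLocalRing.maximalIdeal A)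
    (hreg : IsSMulRegular A f) [IsAdicComplete (Ideal.span {f}) A] [IsLocalRing (A ⧸ Ideal.span {e})]
    (h1 : Module.Finite A (_root_.LocCoh.H (IsLocalRing.maximalIdeal A) 1 (A ⧸ Ideal.span {e})))
    (h2 : Module.Finite A (_root_.LocCoh.H (IsLocalRing.maximalIdeal A) 2 (A ⧸ Ideal.span {e})))
    (hp : ∀ P : Ideal (Localization.Away f), ∀ _ : P.IsMaximal, FEt.PurityHolds (Localization.AtPrime P))
    (hA : FEt.PurityHolds A) : FEt.PurityHolds (A ⧸ Ideal.span {e}) := by
  subst he
  exact purityHolds_quotient_finite f hreg h1 h2 hA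
    fun p _ hfp _ hmax => purity_of_maximal_away f hp p hfp hmax hf

end Groth.Agent.FEtFF.PurityTransfer
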