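import Groth.Prelude.Def_FEt
import Groth.Agent.FEtQuot.Galois
import Mathlib.AlgebraicGeometry.Morphisms.Flat
import Mathlib.RingTheory.Finiteness.ModuleFinitePresentation

/-!
# Global sections of base changes of finite étale covers
-/

set_option autoImplicit false
set_option linter.style.haveILetI false
set_option backward.isDefEq.respectTransparency.types false
universe u

namespace Groth.Agent.FEtFF
open CategoryTheory CategoryTheory.Limits AlgebraicGeometry TopologicalSpace Opposite TensorProduct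

variable {X S Y : Scheme.{u}} (f : X ⟶ S) (h : Y ⟶ S) {P : Scheme.{u}} {g : P ⟶ Y} {q : P ⟶ X}
  (H : IsPullback g q h f)

include H in
theorem preimage_eq (U : S.Opens) : g ⁻¹ᵁ (h ⁻¹ᵁ U) = q ⁻¹ᵁ (f ⁻¹ᵁ U) := by
  rw [← Scheme.Hom.comp_preimage, H.w, Scheme.Hom.comp_preimage]

include H in
theorem le_preimage {U : S.Opens} {W : X.Opens} (hW : W ≤ f ⁻¹ᵁ U) : q ⁻¹ᵁ W ≤ g ⁻¹ᵁ (h ⁻¹ᵁ U) := by
  rw [preimage_eq f h H]; exact q.preimage_mono hW

variable [IsAffineHom h] [IsFinite h] [Etale h] {U : S.Opens} (hU : IsAffineOpen U)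

include H hU in
/-- Sections of a base change over an affine open are the tensor product. -/
theorem exists_coordinates {W : X.Opens} (hWa : IsAffineOpen W) (hW : W ≤ f ⁻¹ᵁ U)
    (φ : Γ(Y, h ⁻¹ᵁ U) →+ Γ(S, U))
    (hφ : ∀ (r : Γ(S, U)) b, φ (h.app U r * b) = r * φ b) :
    ∃ Φ : Γ(P, q ⁻¹ᵁ W) →+ Γ(X, W), (∀ (a : Γ(X, W)) (b : Γ(Y, h ⁻¹ᵁ U)),
      Φ (q.app W a * g.appLE (h ⁻¹ᵁ U) (q ⁻¹ᵁ W) (le_preimage f h H hW) b) = a * f.appLE U W hW (φ b)) ∧
      (∀ z, z ∈ AddSubmonoid.closure (Set.range fun p : Γ(X, W) × Γ(Y, h ⁻¹ᵁ U) =>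
        q.app W p.1 * g.appLE (h ⁻¹ᵁ U) (q ⁻¹ᵁ W) (le_preimage f h H hW) p.2)) := by
  have hPU : q ⁻¹ᵁ W = g ⁻¹ᵁ (h ⁻¹ᵁ U) ⊓ q ⁻¹ᵁ W := (inf_eq_right.mpr (le_preimage f h H hW)).symm
  have hp := (isIso_pushoutSection_iff H hW le_rfl hPU).mp
    (isIso_pushoutSection_of_isAffineOpen H hW le_rfl hPU hU hWa (hU.preimage h))
  rw [← Scheme.Hom.app_eq_appLE, ← Scheme.Hom.app_eq_appLE] at hp
  letI := (f.appLE U W hW).hom.toAlgebra
  letI := (h.app U).hom.toAlgebra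
  let e := hp.flip.isoIsPushout _ _ (CommRingCat.isPushout_tensorProduct Γ(S, U) Γ(X, W) Γ(Y, h ⁻¹ᵁ U))
  have e1 : ∀ a, e.hom (q.app W a) = a ⊗ₜ[Γ(S, U)] 1 := fun a =>
    ConcreteCategory.congr_hom (hp.flip.inl_isoIsPushout_hom _ _ _) a
  have e2 : ∀ b, e.hom (g.appLE (h ⁻¹ᵁ U) (q ⁻¹ᵁ W) (le_preimage f h H hW) b) = 1 ⊗ₜ[Γ(S, U)] b := fun b =>
    ConcreteCategory.congr_hom (hp.flip.inr_isoIsPushout_hom _ _ _) b
  let φl : Γ(Y, h ⁻¹ᵁ U) →ₗ[Γ(S, U)] Γ(S, U) :=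
    { toFun := φ, map_add' := map_add φ, map_smul' := fun r b => hφ r b }
  let Φ' := ((TensorProduct.rid Γ(S, U) Γ(X, W)).toLinearMap.comp (φl.lTensor Γ(X, W)))
  have e3 : ∀ a b, e.hom (q.app W a * g.appLE (h ⁻¹ᵁ U) (q ⁻¹ᵁ W) (le_preimage f h H hW) b) = a ⊗ₜ[Γ(S, U)] b :=
    fun a b => by
      rw [map_mul, e1, e2]
      exact (Algebra.TensorProduct.tmul_mul_tmul _ _ _ _).trans (by rw [mul_one, one_mul])
  refine ⟨Φ'.toAddMonoidHom.comp e.hom.hom.toAddMonoidHom, fun a b => ?_, fun z => ?_⟩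
  · show Φ' (e.hom _) = _
    rw [e3]
    show φ b • a = _
    rw [Algebra.smul_def, mul_comm]
    rfl
  · have hz : z = e.inv (e.hom z) := (ConcreteCategory.congr_hom e.hom_inv_id z).symm
    rw [hz]
    generalize e.hom z = t
    induction t using TensorProduct.induction_on with
    | zero => rw [map_zero]; exact zero_mem _
    | tmul a b =>
      rw [← e3, ← CommRingCat.comp_apply, e.hom_inv_id]
      exact AddSubmonoid.subset_closure ⟨(a, b), rfl⟩
    | add s t hs ht => rw [map_add]; exact add_mem hs ht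

include h in
theorem exists_dual_basis (hU : IsAffineOpen U) :
    ∃ (n : ℕ) (c : Fin n → Γ(Y, h ⁻¹ᵁ U)) (φ : Fin n → (Γ(Y, h ⁻¹ᵁ U) →+ Γ(S, U))),
      (∀ i r b, φ i (h.app U r * b) = r * φ i b) ∧ ∀ b, b = ∑ i, h.app U (φ i b) * c i := by
  letI := (h.app U).hom.toAlgebra
  haveI : Module.Finite Γ(S, U) Γ(Y, h ⁻¹ᵁ U) := IsFinite.finite_app h U hU
  haveI : Algebra.Etale Γ(S, U) Γ(Y, h ⁻¹ᵁ U) := RingHom.etale_algebraMap.mp (by
    have := h.etale_appLE hU (hU.preimage h) le_rfl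
    rw [← Scheme.Hom.app_eq_appLE] at this
    exact this)
  haveI : Module.Flat Γ(S, U) Γ(Y, h ⁻¹ᵁ U) := inferInstance
  haveI : Module.FinitePresentation Γ(S, U) Γ(Y, h ⁻¹ᵁ U) :=
    Module.FinitePresentation.of_finite_of_finitePresentation Γ(S, U) _
  haveI : Module.Projective Γ(S, U) Γ(Y, h ⁻¹ᵁ U) := Module.Flat.projective_of_finitePresentation
  obtain ⟨n, π, hπ⟩ := Module.Finite.exists_fin' Γ(S, U) Γ(Y, h ⁻¹ᵁ U)
  obtain ⟨s, hs⟩ := Module.projective_lifting_property π LinearMap.id hπ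
  refine ⟨n, fun i => π (Pi.single i 1), fun i => (((LinearMap.proj i).comp s)).toAddMonoidHom,
    fun i r b => ?_, fun b => ?_⟩
  · exact congrFun (map_smul s r b) i
  · conv_lhs => rw [← LinearMap.id_apply (R := Γ(S, U)) b, ← hs, LinearMap.comp_apply, pi_eq_sum_univ' (s b)]
    rw [map_sum]
    exact Finset.sum_congr rfl fun i _ => map_smul π (s b i) (Pi.single i 1)

include H hU in
/-- If `O_S → f_*O_X` is bijective, so is `O_Y → g_*O_P`. -/
theorem bijective_app (hf : Function.Bijective (f.app U)) : Function.Bijective (g.app (h ⁻¹ᵁ U)) := by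
  classical
  obtain ⟨n, c, φ, hφ, hc⟩ := exists_dual_basis h hU
  let B := Γ(Y, h ⁻¹ᵁ U)
  let ι := {W : X.Opens // IsAffineOpen W ∧ W ≤ f ⁻¹ᵁ U}
  have hcov : f ⁻¹ᵁ U = ⨆ W : ι, W.1 := by
    refine le_antisymm (fun x hx => ?_) (iSup_le fun W => W.2.2)
    obtain ⟨W, hWa, hxW, hW⟩ := exists_isAffineOpen_mem_and_subset (U := f ⁻¹ᵁ U) hx
    exact Opens.mem_iSup.mpr ⟨⟨W, hWa, hW⟩, hxW⟩
  have hk : ∀ (a b : P ⟶ S) {V : P.Opens} (e : V ≤ a ⁻¹ᵁ U) (e' : V ≤ b ⁻¹ᵁ U), a = b →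
      a.appLE U V e = b.appLE U V e' := by
    rintro a b V e e' rfl; rfl
  choose Φ hΦ hspan using fun (W : ι) (i : Fin n) => exists_coordinates f h H hU W.2.1 W.2.2 (φ i) (hφ i)
  have key : ∀ (W : ι) (b : B), ∀ i, Φ W i (g.appLE (h ⁻¹ᵁ U) (q ⁻¹ᵁ W.1) (le_preimage f h H W.2.2) b) =
      f.appLE U W.1 W.2.2 (φ i b) := fun W b i => by
    have := hΦ W i 1 b
    rwa [map_one, one_mul, one_mul] at this
  have hres : ∀ (W : ι) (b : B), P.presheaf.map (homOfLE (le_preimage f h H W.2.2)).op (g.app (h ⁻¹ᵁ U) b) =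
      g.appLE (h ⁻¹ᵁ U) (q ⁻¹ᵁ W.1) (le_preimage f h H W.2.2) b := fun W b => rfl
  constructor
  · intro b b' hbb
    have hi : ∀ i, φ i b = φ i b' := fun i => hf.1 (by
      refine X.IsSheaf.section_ext fun x hx => ?_
      obtain ⟨W, hxW⟩ := Opens.mem_iSup.mp (hcov.le hx)
      refine ⟨W.1, W.2.2, hxW, ?_⟩
      show f.appLE U W.1 W.2.2 (φ i b) = f.appLE U W.1 W.2.2 (φ i b')
      rw [← key, ← key, ← hres, ← hres, hbb])
    rw [hc b, hc b']
    simp only [hi]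
  · intro s
    let z : ∀ W : ι, Γ(P, q ⁻¹ᵁ W.1) := fun W => P.presheaf.map (homOfLE (le_preimage f h H W.2.2)).op s
    -- compatibility of coordinates with restriction
    have nat : ∀ (W W' : ι) (hle : W'.1 ≤ W.1) (i : Fin n) (w : Γ(P, q ⁻¹ᵁ W.1)),
        Φ W' i (P.presheaf.map (homOfLE (q.preimage_mono hle)).op w) = X.presheaf.map (homOfLE hle).op (Φ W i w) := by
      intro W W' hle i w
      induction hspan W i w using AddSubmonoid.closure_induction with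
      | mem w hw =>
        obtain ⟨⟨a, b⟩, rfl⟩ := hw
        show Φ W' i (P.presheaf.map _ (q.app W.1 a * g.appLE (h ⁻¹ᵁ U) (q ⁻¹ᵁ W.1) _ b)) =
          X.presheaf.map (homOfLE hle).op (Φ W i (q.app W.1 a * g.appLE (h ⁻¹ᵁ U) (q ⁻¹ᵁ W.1) _ b))
        rw [map_mul, ← CommRingCat.comp_apply, ← CommRingCat.comp_apply, Scheme.Hom.appLE_map,
          show q.app W.1 ≫ P.presheaf.map (homOfLE (q.preimage_mono hle)).op =
              X.presheaf.map (homOfLE hle).op ≫ q.app W'.1 from (q.naturality _).symm,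
          CommRingCat.comp_apply, hΦ, hΦ, map_mul, ← CommRingCat.comp_apply (f.appLE U W.1 W.2.2),
          Scheme.Hom.appLE_map]
      | zero => simp
      | add w w' _ _ h1 h2 => simp only [map_add, h1, h2]
    have glue : ∀ i, ∃ r : Γ(S, U), ∀ W : ι, f.appLE U W.1 W.2.2 r = Φ W i (z W) := fun i => by
      obtain ⟨a, ha, -⟩ := X.sheaf.existsUnique_gluing' (fun W : ι => W.1) (f ⁻¹ᵁ U) (fun W => homOfLE W.2.2) hcov.le
        (fun W => Φ W i (z W)) (fun W W' => by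
          refine X.IsSheaf.section_ext fun x hx => ?_
          obtain ⟨V, hVa, hxV, hV⟩ := exists_isAffineOpen_mem_and_subset (U := W.1 ⊓ W'.1) hx
          let T : ι := ⟨V, hVa, (le_trans hV inf_le_left).trans W.2.2⟩
          refine ⟨V, hV, hxV, ?_⟩
          have hz : ∀ (W₀ : ι) (hle : V ≤ W₀.1), X.presheaf.map (homOfLE hle).op (Φ W₀ i (z W₀)) = Φ T i (z T) := by
            intro W₀ hle
            rw [← nat W₀ T hle, ← CommRingCat.comp_apply, ← Functor.map_comp]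
            rfl
          show (X.presheaf.map (homOfLE inf_le_left).op ≫ X.presheaf.map (homOfLE hV).op) (Φ W i (z W)) =
            (X.presheaf.map (homOfLE inf_le_right).op ≫ X.presheaf.map (homOfLE hV).op) (Φ W' i (z W'))
          rw [← Functor.map_comp, ← Functor.map_comp]
          exact (hz W (le_trans hV inf_le_left)).trans (hz W' (le_trans hV inf_le_right)).symm)
      obtain ⟨r, hr⟩ := hf.2 a
      exact ⟨r, fun W => by rw [← ha W, ← hr]; rfl⟩
    choose r hr using glue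
    refine ⟨∑ i, h.app U (r i) * c i, P.IsSheaf.section_ext fun p hp => ?_⟩
    obtain ⟨W, hpW⟩ := Opens.mem_iSup.mp (hcov.le (show q p ∈ f ⁻¹ᵁ U from (preimage_eq f h H U).le hp))
    refine ⟨q ⁻¹ᵁ W.1, le_preimage f h H W.2.2, hpW, ?_⟩
    rw [hres]
    show _ = z W
    have e1 : ∀ w : Γ(P, q ⁻¹ᵁ W.1), w = ∑ i, q.app W.1 (Φ W i w) *
        g.appLE (h ⁻¹ᵁ U) (q ⁻¹ᵁ W.1) (le_preimage f h H W.2.2) (c i) := by
      intro w
      rcases isEmpty_or_nonempty (Fin n) with hn | ⟨⟨i₀⟩⟩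
      · have h1 : (1 : B) = 0 := by rw [hc 1]; exact Finset.sum_of_isEmpty _
        have h2 : (1 : Γ(P, q ⁻¹ᵁ W.1)) = 0 := by
          rw [← map_one (g.appLE (h ⁻¹ᵁ U) (q ⁻¹ᵁ W.1) (le_preimage f h H W.2.2)).hom, h1, map_zero]
        haveI := subsingleton_of_zero_eq_one h2.symm
        exact Subsingleton.elim _ _
      induction hspan W i₀ w using AddSubmonoid.closure_induction with
      | mem w hw =>
        obtain ⟨⟨a, b⟩, rfl⟩ := hw
        simp only [hΦ]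
        conv_lhs => rw [hc b, map_sum, Finset.mul_sum]
        refine Finset.sum_congr rfl fun i _ => ?_
        rw [map_mul, map_mul, ← mul_assoc, ← CommRingCat.comp_apply, ← CommRingCat.comp_apply]
        congr 2
        rw [Scheme.Hom.app_eq_appLE, Scheme.Hom.app_eq_appLE, Scheme.Hom.appLE_comp_appLE, Scheme.Hom.appLE_comp_appLE]
        exact congrArg (fun m : Γ(S, U) ⟶ Γ(P, q ⁻¹ᵁ W.1) => m (φ i b)) (hk _ _ _ _ H.w)
      | zero => simp
      | add w w' _ _ h1 h2 => simp only [map_add, add_mul, Finset.sum_add_distrib, ← h1, ← h2]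
    rw [e1 (z W), map_sum]
    refine Finset.sum_congr rfl fun i _ => ?_
    rw [map_mul, ← hr i W, ← CommRingCat.comp_apply, ← CommRingCat.comp_apply, Scheme.Hom.app_eq_appLE,
      Scheme.Hom.app_eq_appLE, Scheme.Hom.appLE_comp_appLE, Scheme.Hom.appLE_comp_appLE]
    congr 1
    exact congrArg (fun m : Γ(S, U) ⟶ Γ(P, q ⁻¹ᵁ W.1) => m (r i)) (hk _ _ _ _ H.w)

end Groth.Agent.FEtFF
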