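import Groth.Agent.FEtFF.Hartogs
import Groth.Agent.FEtFF.Sections
import Mathlib.AlgebraicGeometry.Normalization
import Mathlib.AlgebraicGeometry.Morphisms.Smooth
import Mathlib.RingTheory.Localization.Away.Basic

/-!
# Finiteness of the direct image of a finite étale cover across points of depth at least two
-/

set_option autoImplicit false
set_option linter.style.haveILetI false
set_option linter.unusedSectionVars false
universe u v

namespace Groth.Agent.FEtFF.Pushforward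

section algebra
variable {A : Type u} {B : Type v} [CommRing A] [CommRing B] [Algebra A B] [IsNoetherianRing A] {ι : Type} [Finite ι]
  (g : ι → A)

/-- `a` is the value at `b` of the extension of `l`. -/
def IsVal {M : Submodule A B} (l : M →ₗ[A] A) (b : B) (a : A) : Prop :=
  ∃ N, ∀ k, ∃ h : g k ^ N • b ∈ M, g k ^ N * a = l ⟨_, h⟩

variable {g}

theorem IsVal.raise {M : Submodule A B} {l : M →ₗ[A] A} {b : B} {a : A} {N n : ℕ}
    (h : ∀ k, ∃ h : g k ^ N • b ∈ M, g k ^ N * a = l ⟨_, h⟩) (hn : N ≤ n) :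
    ∀ k, ∃ h : g k ^ n • b ∈ M, g k ^ n * a = l ⟨_, h⟩ := by
  obtain ⟨m, rfl⟩ := Nat.exists_eq_add_of_le hn
  intro k
  obtain ⟨h1, h2⟩ := h k
  have e : g k ^ (N + m) • b = g k ^ m • g k ^ N • b := by rw [pow_add, mul_comm, mul_smul]
  refine ⟨e ▸ M.smul_mem _ h1, ?_⟩
  have : (⟨g k ^ (N + m) • b, e ▸ M.smul_mem _ h1⟩ : M) = g k ^ m • ⟨_, h1⟩ := Subtype.ext e
  rw [this, map_smul, ← h2, smul_eq_mul, pow_add]; ring

theorem exists_extension
    (hglue : ∀ N (c : ι → A), (∀ k l, g l ^ N * c k = g k ^ N * c l) → ∃ a, ∀ k, g k ^ N * a = c k)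
    (hA : ∀ a : A, (∀ k, ∃ n, g k ^ n * a = 0) → a = 0)
    {M : Submodule A B} (hM : ∀ b, ∃ N, ∀ k, g k ^ N • b ∈ M) (l : M →ₗ[A] A) :
    ∃ L : B →ₗ[A] A, ∀ m : M, L m = l m := by
  classical
  have hex : ∀ b, ∃ a, IsVal g l b a := fun b => by
    obtain ⟨N, hN⟩ := hM b
    obtain ⟨a, ha⟩ := hglue N (fun k => l ⟨_, hN k⟩) fun k j => by
      rw [← smul_eq_mul, ← smul_eq_mul, ← map_smul, ← map_smul]
      congr 1
      ext
      show g j ^ N • g k ^ N • b = g k ^ N • g j ^ N • b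
      rw [smul_comm]
    exact ⟨a, N, fun k => ⟨hN k, ha k⟩⟩
  have huniq : ∀ b a a', IsVal g l b a → IsVal g l b a' → a = a' := by
    rintro b a a' ⟨N, hN⟩ ⟨N', hN'⟩
    refine sub_eq_zero.mp (hA _ fun k => ⟨max N N', ?_⟩)
    obtain ⟨_, h1⟩ := IsVal.raise hN (le_max_left N N') k
    obtain ⟨_, h2⟩ := IsVal.raise hN' (le_max_right N N') k
    rw [mul_sub, h1, h2, sub_self]
  choose L hL using hex
  refine ⟨{ toFun := L, map_add' := fun b b' => ?_, map_smul' := fun r b => ?_ }, fun m => ?_⟩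
  · obtain ⟨N, hN⟩ := hL b
    obtain ⟨N', hN'⟩ := hL b'
    refine huniq _ _ _ (hL _) ⟨max N N', fun k => ?_⟩
    obtain ⟨h1, e1⟩ := IsVal.raise hN (le_max_left N N') k
    obtain ⟨h2, e2⟩ := IsVal.raise hN' (le_max_right N N') k
    refine ⟨by rw [smul_add]; exact M.add_mem h1 h2, ?_⟩
    rw [mul_add, e1, e2, ← map_add]
    congr 1
    ext
    exact (smul_add _ _ _).symm
  · obtain ⟨N, hN⟩ := hL b
    refine huniq _ _ _ (hL _) ⟨N, fun k => ?_⟩
    obtain ⟨h1, e1⟩ := hN k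
    refine ⟨by rw [smul_comm]; exact M.smul_mem r h1, ?_⟩
    rw [RingHom.id_apply, smul_eq_mul, mul_left_comm, e1, ← smul_eq_mul, ← map_smul]
    congr 1
    ext
    exact (smul_comm _ _ _).symm
  · exact huniq _ _ _ (hL _) ⟨0, fun k => ⟨by simp, by simp⟩⟩

theorem finite_of_local
    (hglue : ∀ N (c : ι → A), (∀ k l, g l ^ N * c k = g k ^ N * c l) → ∃ a, ∀ k, g k ^ N * a = c k)
    (hA : ∀ a : A, (∀ k, ∃ n, g k ^ n * a = 0) → a = 0)
    (hB : ∀ b : B, (∀ k, ∃ n, g k ^ n • b = 0) → b = 0)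
    (hgen : ∀ k, ∃ S : Finset B, ∀ b, ∃ n, g k ^ n • b ∈ Submodule.span A (S : Set B))
    (hsep : ∀ k, ∃ (n : ℕ) (φ : Fin n → (B →ₗ[A] Localization.Away (g k))),
      ∀ b, (∀ i, φ i b = 0) → ∃ m, g k ^ m • b = 0) :
    Module.Finite A B := by
  classical
  cases nonempty_fintype ι
  choose S hS using hgen
  let M : Submodule A B := Submodule.span A ((Finset.univ.biUnion S : Finset B) : Set B)
  have hM : ∀ b, ∃ N, ∀ k, g k ^ N • b ∈ M := fun b => by
    choose n hn using fun k => hS k b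
    refine ⟨∑ k, n k, fun k => ?_⟩
    rw [← Finset.sum_erase_add _ _ (Finset.mem_univ k), pow_add, mul_smul]
    exact M.smul_mem _ (Submodule.span_mono (by
      intro x hx
      exact Finset.mem_biUnion.mpr ⟨k, Finset.mem_univ _, hx⟩) (hn k))
  haveI : Module.Finite A M := Module.Finite.iff_fg.mpr ⟨_, rfl⟩
  choose n φ hφ using hsep
  have hlift : ∀ (x : Σ k, Fin (n k)), ∃ (L : B →ₗ[A] A) (j : ℕ), ∀ m : M,
      algebraMap A _ (g x.1 ^ j) * φ x.1 x.2 m = algebraMap A _ (L m) := by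
    rintro ⟨k, i⟩
    haveI : Module.FinitePresentation A M := Module.finitePresentation_of_finite A M
    obtain ⟨l, ⟨_, j, rfl⟩, hl⟩ := Module.FinitePresentation.exists_lift_of_isLocalizedModule
      (Submonoid.powers (g k)) (Algebra.linearMap A (Localization.Away (g k))) ((φ k i).comp M.subtype)
    obtain ⟨L, hL⟩ := exists_extension hglue hA hM l
    refine ⟨L, j, fun m => ?_⟩
    rw [hL m, ← Algebra.smul_def]
    exact (LinearMap.congr_fun hl m).symm
  choose L j hL using hlift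
  let Ψ : B →ₗ[A] ((Σ k, Fin (n k)) → A) := LinearMap.pi L
  refine Module.Finite.of_injective Ψ ((injective_iff_map_eq_zero Ψ).mpr fun b hb => hB b fun k => ?_)
  obtain ⟨N, hN⟩ := hM b
  obtain ⟨m, hm⟩ := hφ k (g k ^ N • b) fun i => by
    have h1 := hL ⟨k, i⟩ ⟨_, hN k⟩
    rw [map_smul (L ⟨k, i⟩), show L ⟨k, i⟩ b = 0 from congrFun hb ⟨k, i⟩, smul_zero, map_zero] at h1
    exact (IsLocalization.map_units _ (⟨g k ^ _, _, rfl⟩ : Submonoid.powers (g k))).mul_right_eq_zero.mp h1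
  exact ⟨m + N, by rw [pow_add, mul_smul]; exact hm⟩

end algebra

end Groth.Agent.FEtFF.Pushforward

set_option backward.isDefEq.respectTransparency.types false

namespace Groth.Agent.FEtFF.Pushforward
open AlgebraicGeometry CategoryTheory CategoryTheory.Limits TopologicalSpace Opposite

theorem isLocalization_of_eq {X : Scheme.{u}} {O O' : X.Opens} (hO : IsCompact (O : Set X))
    (hO' : IsQuasiSeparated (O : Set X)) (s : Γ(X, O)) (i : O' ⟶ O) (e : O' = X.basicOpen s) :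
    @IsLocalization.Away _ _ s Γ(X, O') _ (X.presheaf.map i.op).hom.toAlgebra := by
  subst e
  exact isLocalization_basicOpen_of_qcqs hO hO' s

variable {X : Scheme.{u}} [IsLocallyNoetherian X] {U : X.Opens} {V : Scheme.{u}} (h : V ⟶ U) [IsFinite h] [Etale h]

/-- The direct image of a finite étale cover of `U` has finite sections on affine opens. -/
theorem finite_app (hU : ∀ x : X, x ∉ U → (2 : ℕ∞) ≤ _root_.LocCoh.depth (X.presheaf.stalk x) (X.presheaf.stalk x))
    {W : X.Opens} (hW : IsAffineOpen W) : ((h ≫ U.ι).app W).hom.Finite := by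
  classical
  set f := h ≫ U.ι with hf
  haveI : IsNoetherianRing Γ(X, W) := IsLocallyNoetherian.component_noetherian ⟨W, hW⟩
  letI := (f.app W).hom.toAlgebra
  have hWU : IsCompact ((W ⊓ U : X.Opens) : Set X) := by
    have e : ((W ⊓ U : X.Opens) : Set X) = U.ι '' (U.ι ⁻¹' (W : Set X)) := by
      rw [Set.image_preimage_eq_inter_range, Scheme.Opens.range_ι]; rfl
    rw [e]
    exact (U.ι.isCompact_preimage hW.isCompact).image U.ι.continuous
  have hx : ∀ x : (W ⊓ U : X.Opens), ∃ g : Γ(X, W), X.basicOpen g ≤ W ⊓ U ∧ (x : X) ∈ X.basicOpen g :=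
    fun x => hW.exists_basicOpen_le x x.2.1
  choose g₀ hg₀ hxg₀ using hx
  obtain ⟨t, ht⟩ := hWU.elim_finite_subcover (fun x : (W ⊓ U : X.Opens) => (X.basicOpen (g₀ x) : Set X))
    (fun x => (X.basicOpen (g₀ x)).2) (fun x hx => Set.mem_iUnion.mpr ⟨⟨x, hx⟩, hxg₀ ⟨x, hx⟩⟩)
  let ι := Fin t.card
  let g : ι → Γ(X, W) := fun k => g₀ (t.equivFin.symm k).1
  have hg : ∀ k, X.basicOpen (g k) ≤ W ⊓ U := fun k => hg₀ _
  have hcov : W ⊓ U ≤ ⨆ k, X.basicOpen (g k) := fun x hx => by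
    obtain ⟨y, hyt, hy⟩ := Set.mem_iUnion₂.mp (ht hx)
    refine Opens.mem_iSup.mpr ⟨t.equivFin ⟨y, hyt⟩, ?_⟩
    show x ∈ X.basicOpen (g₀ (t.equivFin.symm (t.equivFin ⟨y, hyt⟩)).1)
    rw [Equiv.symm_apply_apply]; exact hy
  have hH := Hartogs.bijective_restrict U hU hW (rfl : W ⊓ U = _) inf_le_left
  let ρ : ∀ k, Γ(X, W) →+* Γ(X, X.basicOpen (g k)) := fun k => algebraMap _ _
  have hloc : ∀ k, IsLocalization.Away (g k) Γ(X, X.basicOpen (g k)) := fun k => hW.isLocalization_basicOpen _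
  have hres : ∀ (k : ι) (a : Γ(X, W)), X.presheaf.map (homOfLE (hg k)).op
      (X.presheaf.map (homOfLE (inf_le_left : W ⊓ U ≤ W)).op a) = ρ k a := fun k a => by
    rw [← CommRingCat.comp_apply, ← Functor.map_comp]; rfl
  have hA : ∀ a : Γ(X, W), (∀ k, ∃ n, g k ^ n * a = 0) → a = 0 := by
    intro a ha
    refine hH.1 ?_
    rw [map_zero]
    refine X.IsSheaf.section_ext fun x hx => ?_
    obtain ⟨k, hk⟩ := Opens.mem_iSup.mp (hcov hx)
    refine ⟨_, hg k, hk, ?_⟩
    rw [map_zero]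
    refine (hres k a).trans ?_
    obtain ⟨n, hn⟩ := ha k
    exact (IsLocalization.map_eq_zero_iff (Submonoid.powers (g k)) _ a).mpr ⟨⟨_, n, rfl⟩, hn⟩
  have hglue : ∀ N (c : ι → Γ(X, W)), (∀ k l, g l ^ N * c k = g k ^ N * c l) → ∃ a, ∀ k, g k ^ N * a = c k := by
    intro N c hc
    have hu : ∀ k, IsUnit (ρ k (g k ^ N)) := fun k =>
      IsLocalization.map_units _ (⟨g k ^ N, N, rfl⟩ : Submonoid.powers (g k))
    let σ : ∀ k, Γ(X, X.basicOpen (g k)) := fun k => ↑(hu k).unit⁻¹ * ρ k (c k)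
    have hσ : ∀ k, ρ k (g k ^ N) * σ k = ρ k (c k) := fun k => by
      simp only [σ, ← mul_assoc, IsUnit.mul_val_inv, one_mul]
    have hcomp : TopCat.Presheaf.IsCompatible X.sheaf.obj (fun k => X.basicOpen (g k)) σ := fun k l => by
      let r₁ := (X.presheaf.map (Opens.infLELeft (X.basicOpen (g k)) (X.basicOpen (g l))).op).hom
      let r₂ := (X.presheaf.map (Opens.infLERight (X.basicOpen (g k)) (X.basicOpen (g l))).op).hom
      show r₁ (σ k) = r₂ (σ l)
      have e : ∀ a, r₁ (ρ k a) = r₂ (ρ l a) := fun a => by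
        show (X.presheaf.map _ ≫ X.presheaf.map _) a = (X.presheaf.map _ ≫ X.presheaf.map _) a
        rw [← Functor.map_comp, ← Functor.map_comp]; rfl
      have h1 : r₁ (ρ k (g k ^ N)) * r₁ (σ k) = r₁ (ρ k (c k)) := by rw [← map_mul, hσ]
      have h2 : r₂ (ρ l (g l ^ N)) * r₂ (σ l) = r₂ (ρ l (c l)) := by rw [← map_mul, hσ]
      have h3 : r₂ (ρ l (g l ^ N)) * r₂ (ρ l (c k)) = r₂ (ρ l (g k ^ N)) * r₂ (ρ l (c l)) := by
        rw [← map_mul, ← map_mul, ← map_mul, ← map_mul, hc]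
      refine (((hu k).map r₁).mul ((hu l).map r₂)).mul_left_cancel ?_
      rw [mul_right_comm, h1, e, mul_comm (r₂ (ρ l (c k))), h3, mul_assoc (r₁ (ρ k (g k ^ N))), h2, e]
    obtain ⟨s, hs, -⟩ := X.sheaf.existsUnique_gluing' (fun k => X.basicOpen (g k)) (W ⊓ U) (fun k => homOfLE (hg k)) hcov σ hcomp
    obtain ⟨a, ha⟩ := hH.2 s
    refine ⟨a, fun k => sub_eq_zero.mp (hA _ fun l => ?_)⟩
    have e1 : ρ l a = σ l := by rw [← hres, ha]; exact hs l
    have e2 : ρ l (g l ^ N * (g k ^ N * a - c k)) = 0 := by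
      rw [mul_sub, mul_left_comm, hc, map_sub, map_mul, map_mul, map_mul, e1, hσ, sub_self]
    obtain ⟨⟨_, n, rfl⟩, hn⟩ := (IsLocalization.map_eq_zero_iff (Submonoid.powers (g l)) _ _).mp e2
    exact ⟨n + N, by rw [pow_add, mul_assoc]; exact hn⟩
  let T : ι → CommRingCat := fun k => Γ(V, f ⁻¹ᵁ X.basicOpen (g k))
  let τ : ∀ k, Γ(V, f ⁻¹ᵁ W) →+* T k := fun k =>
    (V.presheaf.map (homOfLE (f.preimage_mono (X.basicOpen_le (g k)))).op).hom
  have hτ : ∀ k a, τ k (f.app W a) = f.app (X.basicOpen (g k)) (ρ k a) := fun k a =>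
    (ConcreteCategory.congr_hom (f.naturality (homOfLE (X.basicOpen_le (g k))).op) a).symm
  have hcB : IsCompact ((f ⁻¹ᵁ W : V.Opens) : Set V) := f.isCompact_preimage hW.isCompact
  have hqB : IsQuasiSeparated ((f ⁻¹ᵁ W : V.Opens) : Set V) := f.isQuasiSeparated_preimage hW.isQuasiSeparated
  have hTk : ∀ k (b : Γ(V, f ⁻¹ᵁ W)), τ k b = 0 → ∃ n, g k ^ n • b = 0 := fun k b hb => by
    letI := (τ k).toAlgebra
    haveI : IsLocalization.Away (f.app W (g k)) (T k) := isLocalization_of_eq hcB hqB _ _ (f.preimage_basicOpen (g k))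
    obtain ⟨⟨_, n, rfl⟩, hn⟩ := (IsLocalization.map_eq_zero_iff (Submonoid.powers (f.app W (g k))) (T k) b).mp hb
    exact ⟨n, by rw [Algebra.smul_def, map_pow]; exact hn⟩
  have hTs : ∀ k (z : T k), ∃ n b, τ k (f.app W (g k ^ n)) * z = τ k b := fun k z => by
    letI := (τ k).toAlgebra
    haveI : IsLocalization.Away (f.app W (g k)) (T k) := isLocalization_of_eq hcB hqB _ _ (f.preimage_basicOpen (g k))
    obtain ⟨⟨b, ⟨_, n, rfl⟩⟩, hb⟩ := IsLocalization.surj (Submonoid.powers (f.app W (g k))) z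
    exact ⟨n, b, by rw [map_pow, mul_comm]; exact hb⟩
  have hB : ∀ b : Γ(V, f ⁻¹ᵁ W), (∀ k, ∃ n, g k ^ n • b = 0) → b = 0 := by
    intro b hb
    refine V.IsSheaf.section_ext fun x hx => ?_
    obtain ⟨k, hk⟩ := Opens.mem_iSup.mp (hcov (⟨hx, (h x).2⟩ : f x ∈ W ⊓ U))
    refine ⟨f ⁻¹ᵁ X.basicOpen (g k), f.preimage_mono (X.basicOpen_le _), hk, ?_⟩
    rw [map_zero]
    show τ k b = 0
    obtain ⟨n, hn⟩ := hb k
    have h1 := congrArg (τ k) hn
    rw [Algebra.smul_def, map_mul, map_zero] at h1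
    have hu : IsUnit (τ k (algebraMap Γ(X, W) _ (g k ^ n))) := by
      show IsUnit (τ k (f.app W (g k ^ n)))
      rw [hτ]
      exact IsUnit.map _ (IsLocalization.map_units _ (⟨_, n, rfl⟩ : Submonoid.powers (g k)))
    exact hu.mul_right_eq_zero.mp h1
  have hbasis : ∀ k, ∃ (n : ℕ) (c : Fin n → T k) (φ : Fin n → (T k →+ Γ(X, X.basicOpen (g k)))),
      (∀ i r z, φ i (f.app (X.basicOpen (g k)) r * z) = r * φ i z) ∧
      ∀ z, z = ∑ i, f.app (X.basicOpen (g k)) (φ i z) * c i := by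
    intro k
    have hle : X.basicOpen (g k) ≤ U := le_trans (hg k) inf_le_right
    have hU' : IsAffineOpen (U.ι ⁻¹ᵁ X.basicOpen (g k)) := by
      rw [← U.ι.isAffineOpen_iff_of_isOpenImmersion, Scheme.Hom.image_preimage_eq_opensRange_inf,
        Scheme.Opens.opensRange_ι, inf_eq_right.mpr hle]
      exact hW.basicOpen _
    haveI : IsIso (U.ι.app (X.basicOpen (g k))) := by
      refine Scheme.Hom.isIso_app _ _ ?_
      rw [Scheme.Opens.opensRange_ι]; exact hle
    let e := (asIso (U.ι.app (X.basicOpen (g k)))).commRingCatIsoToRingEquiv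
    obtain ⟨n, c, φ, hφ, hc⟩ := exists_dual_basis h hU'
    have hcomp : ∀ r, f.app (X.basicOpen (g k)) r = h.app (U.ι ⁻¹ᵁ X.basicOpen (g k)) (e r) := fun r => rfl
    refine ⟨n, c, fun i => e.symm.toAddEquiv.toAddMonoidHom.comp (φ i), fun i r z => ?_, fun z => ?_⟩
    · show e.symm (φ i _) = r * e.symm (φ i z)
      rw [hcomp]
      refine (congrArg e.symm (hφ i (e r) z)).trans ?_
      rw [map_mul, e.symm_apply_apply]
    · refine (hc z).trans (Finset.sum_congr rfl fun i _ => ?_)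
      rw [hcomp]
      show _ = h.app _ (e (e.symm (φ i z))) * c i
      rw [e.apply_symm_apply]
  choose n c φ hφ hc using hbasis
  refine finite_of_local hglue hA hB (fun k => ?_) (fun k => ?_)
  · choose N m hm using fun i => hTs k (c k i)
    refine ⟨Finset.univ.image m, fun b => ?_⟩
    choose a ha using fun i => IsLocalization.surj (Submonoid.powers (g k)) (φ k i (τ k b) : Γ(X, X.basicOpen (g k)))
    have hM : ∀ i, ∃ N' : ℕ, ∃ d, τ k (f.app W (g k ^ N')) * (f.app (X.basicOpen (g k)) (φ k i (τ k b)) * c k i) =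
        τ k (f.app W d * m i) := fun i => by
      obtain ⟨j, hj⟩ := (a i).2.2
      refine ⟨j + N i, (a i).1, ?_⟩
      have e1 : τ k (f.app W (g k ^ j)) * f.app (X.basicOpen (g k)) (φ k i (τ k b)) = τ k (f.app W (a i).1) := by
        rw [hτ, hτ, ← map_mul, mul_comm]
        exact congrArg _ ((congrArg (fun x => φ k i (τ k b) * ρ k x) hj).trans (ha i))
      rw [pow_add, map_mul, map_mul, map_mul, ← hm i, ← e1]
      ring
    choose N' d hd using hM
    let S := ∑ i, N' i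
    have e2 : τ k (f.app W (g k ^ S) * b) = τ k (∑ i, f.app W (g k ^ (S - N' i) * d i) * m i) := by
      rw [map_mul, hc k (τ k b), Finset.mul_sum, map_sum]
      refine Finset.sum_congr rfl fun i _ => ?_
      have hS : S = (S - N' i) + N' i :=
        (Nat.sub_add_cancel (Finset.single_le_sum (fun j _ => Nat.zero_le (N' j)) (Finset.mem_univ i))).symm
      conv_lhs => rw [hS]
      rw [pow_add, map_mul, map_mul, mul_assoc, hd, ← map_mul, ← mul_assoc, ← map_mul (f.app W).hom]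
    obtain ⟨r, hr⟩ := hTk k (f.app W (g k ^ S) * b - ∑ i, f.app W (g k ^ (S - N' i) * d i) * m i)
      (by rw [map_sub, e2, sub_self])
    refine ⟨r + S, ?_⟩
    rw [smul_sub, sub_eq_zero] at hr
    rw [pow_add, mul_smul, show g k ^ S • b = f.app W (g k ^ S) * b from Algebra.smul_def _ _, hr]
    refine Submodule.smul_mem _ _ (Submodule.sum_mem _ fun i _ => ?_)
    rw [show f.app W (g k ^ (S - N' i) * d i) * m i = (g k ^ (S - N' i) * d i) • m i from (Algebra.smul_def _ _).symm]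
    exact Submodule.smul_mem _ _ (Submodule.subset_span (by simp))
  · let e := IsLocalization.algEquiv (Submonoid.powers (g k)) Γ(X, X.basicOpen (g k)) (Localization.Away (g k))
    refine ⟨n k, fun i => e.toLinearMap.comp
      { toFun := fun b => φ k i (τ k b)
        map_add' := fun b b' => by rw [map_add, map_add]
        map_smul' := fun r b => by
          rw [RingHom.id_apply, Algebra.smul_def r (φ k i (τ k b)), Algebra.smul_def, map_mul,
            show τ k (algebraMap Γ(X, W) _ r) = f.app (X.basicOpen (g k)) (ρ k r) from hτ k r, hφ] }, fun b hb => ?_⟩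
    refine hTk k b ?_
    rw [hc k (τ k b)]
    refine Finset.sum_eq_zero fun i _ => ?_
    rw [show φ k i (τ k b) = 0 from e.injective ((hb i).trans (map_zero e).symm), map_zero, zero_mul]

end Groth.Agent.FEtFF.Pushforward
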